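import Groth.Agent.H11Alg.Levels
import Groth.Agent.H4Depth.FlatOff

/-!
# Formal sections under a bound on the `f`-multiples of cohomology
-/

set_option autoImplicit false
set_option linter.style.haveILetI false

universe u

open IsLocalRing

namespace Groth.Agent.H11Alg

/-- A finite power-torsion module over a Noetherian local ring is Artinian. -/
theorem isArtinian_of_isPowerTorsion {A : Type u} [CommRing A] [IsNoetherianRing A] [IsLocalRing A]
    (H : Type u) [AddCommGroup H] [Module A H] [Module.Finite A H]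
    (h : ∀ x : H, ∃ n : ℕ, ∀ a ∈ maximalIdeal A ^ n, a • x = 0) : IsArtinian A H := by
  obtain ⟨k, g, hg⟩ := Module.Finite.exists_fin' A H
  choose n hn using h
  let S := Finset.univ.sup fun i : Fin k => n (g (Pi.single i 1))
  haveI : IsArtinian A (A ⧸ maximalIdeal A ^ (S + 1)) :=
    (isFiniteLength_iff_isNoetherian_isArtinian.1 (H4Depth.isFiniteLength_quot_pow S)).2
  let l : ∀ i : Fin k, (A ⧸ maximalIdeal A ^ (S + 1)) →ₗ[A] H := fun i =>
    Submodule.liftQ _ (LinearMap.toSpanSingleton A H (g (Pi.single i 1))) fun a ha =>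
      hn _ a (Ideal.pow_le_pow_right ((Finset.le_sup (f := fun i : Fin k => n (g (Pi.single i 1)))
        (Finset.mem_univ i)).trans S.le_succ) ha)
  refine isArtinian_of_surjective (M := Fin k → A ⧸ maximalIdeal A ^ (S + 1)) (∑ i, (l i).comp (LinearMap.proj i)) fun y => ?_
  obtain ⟨v, rfl⟩ := hg y
  refine ⟨fun i => Submodule.Quotient.mk (v i), ?_⟩
  conv_rhs => rw [← Finset.univ_sum_single v, map_sum]
  rw [LinearMap.sum_apply]
  refine Finset.sum_congr rfl fun i _ => ?_
  show v i • g (Pi.single i 1) = _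
  rw [← map_smul, ← Pi.single_smul, smul_eq_mul, mul_one]

namespace Levels

variable {A : Type u} [CommRing A] {f : A} {T : Finset A} (L : Levels A f T) {m n : ℕ}

/-- The sections lifting `k` steps. -/
noncomputable def Lift (k a : ℕ) : Submodule A (L.G a) :=
  LinearMap.range (L.ρ (Nat.le_add_right a k)).toLinearMap

theorem mem_Lift_of_lift {k a b : ℕ} (h : a + k ≤ b) (z : L.G b) :
    L.ρ (show a ≤ b by omega) z ∈ L.Lift k a :=
  ⟨L.ρ h z, by show L.ρ _ (L.ρ h z) = _; rw [L.ρ_comp]⟩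

theorem ρ_U_add {j : ℕ} (k : ℕ) (h : j ≤ m) (s : L.G (j + k)) :
    L.ρ (Nat.le_add_right m k) (L.U (show j + k ≤ m + k by omega) s) = L.U h (L.ρ (Nat.le_add_right j k) s) :=
  U_ext fun c hc => by
    obtain ⟨K, z, hz⟩ := L.lift c hc (show j + k ≤ m + k by omega) s
    refine ⟨K, ?_⟩
    rw [← map_smul, smul_U _ hc hz, map_smul,
      smul_U h hc (z := L.ρ (Nat.le_add_right m k) z) (by
        rw [← map_smul, ← hz, L.ρ_comp, L.ρ_comp])]
    congr 2
    omega

theorem U_mem_Lift {j k : ℕ} (h : j ≤ m) {s : L.G j} (hs : s ∈ L.Lift k j) : L.U h s ∈ L.Lift k m := by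
  obtain ⟨z, rfl⟩ := hs
  exact ⟨L.U (show j + k ≤ m + k by omega) z, L.ρ_U_add k h z⟩

theorem U_refl (t : L.G m) : L.U (le_refl m) t = t :=
  U_ext fun c hc => ⟨0, by
    rw [smul_U _ hc (K := 0) (z := t) (by rw [L.ρ_self, pow_zero, one_smul]), Nat.sub_self, pow_zero, pow_zero]⟩

theorem mem_Lift_of_U_mem {j k : ℕ} (hjk : j + 1 ≤ k + 1) (a : ℕ) {s : L.G a}
    (hs : L.U a.le_succ s ∈ L.Lift (k + 1) (a + 1)) : s ∈ L.Lift (k + 1) a := by
  obtain ⟨t, ht⟩ := hs
  replace ht : L.ρ (Nat.le_add_right (a + 1) (k + 1)) t = L.U a.le_succ s := ht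
  have h0 : L.ρ (Nat.zero_le (a + 1)) (L.U a.le_succ s) = 0 := ρ_U_eq_zero (j := a) _ (by omega) s
  rw [← ht, L.ρ_comp] at h0
  obtain ⟨t', rfl⟩ := exists_U_of_ρ_eq_zero (j := a + (k + 1)) _ (by omega) t h0
  exact ⟨t', U_injective a.le_succ ((L.ρ_U_add (k + 1) a.le_succ t').symm.trans ht)⟩

section

variable {K : ℕ} (hB1 : ∀ e, Module.Finite A (LinearMap.range (LinearMap.lsmul A (L.G e) (f ^ K))))
variable [IsNoetherianRing A]

include hB1 in
/-- The sections lifting `K` steps are finite. -/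
theorem finite_Lift (a : ℕ) : Module.Finite A (L.Lift K a) := by
  haveI := hB1 (a + K)
  let φ : L.Lift K a →ₗ[A] LinearMap.range (LinearMap.lsmul A (L.G (a + K)) (f ^ K)) :=
    ((L.U (Nat.le_add_right a K)).comp (L.Lift K a).subtype).codRestrict _ (by
      rintro ⟨_, z, rfl⟩
      refine ⟨z, ?_⟩
      show f ^ K • z = L.U _ (L.ρ _ z)
      rw [U_ρ, Nat.add_sub_cancel_left])
  refine Module.Finite.of_injective φ fun x y hxy => Subtype.ext (U_injective (L := L) (Nat.le_add_right a K) ?_)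
  exact congrArg Subtype.val hxy

variable [IsLocalRing A] (hT : Ideal.span (T : Set A) = maximalIdeal A)

include hT in
theorem exists_injective_quotient_Lift (j a : ℕ) :
    ∃ ψ : (L.G a ⧸ L.Lift (j + 1) a) →ₗ[A] LocCoh.H (maximalIdeal A) 2 (L.G j), Function.Injective ψ := by
  let N := L.Lift (j + 1) a
  have htop : DRing.torsionSub (maximalIdeal A) (L.G a ⧸ N) = ⊤ := eq_top_iff.2 fun x _ => by
    obtain ⟨x, rfl⟩ := N.mkQ_surjective x
    refine (mem_torsionSub_iff hT _).2 fun c hc => ?_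
    obtain ⟨K, z, hz⟩ := L.lift c hc (Nat.le_add_right a (j + 1)) x
    exact ⟨K, by rw [← map_smul]; exact (Submodule.Quotient.mk_eq_zero _).2 ⟨z, hz⟩⟩
  let i₀ : (L.G a ⧸ N) ≃ₗ[A] LocCoh.H (maximalIdeal A) 0 (L.G a ⧸ N) :=
    ((H4LC.zeroEquiv (maximalIdeal A) _).trans ((LinearEquiv.ofEq _ _ htop).trans Submodule.topEquiv)).symm
  let δ₀ := H4LC.δH (maximalIdeal A) N.subtype_injective N.mkQ_surjective (LinearMap.exact_subtype_mkQ N) 0
  have h₀ : Function.Injective δ₀ := H4LC.δH_injective (maximalIdeal A) _ _ _ 0 ((L.sat a).subsingleton_H_zero hT)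
  let π : L.G (a + (j + 1)) →ₗ[A] N := (L.ρ (Nat.le_add_right a (j + 1))).toLinearMap.rangeRestrict
  have hπ : Function.Surjective π := LinearMap.surjective_rangeRestrict _
  have hle : j ≤ a + (j + 1) := by omega
  have hex : Function.Exact (L.U hle) π := by
    intro x
    refine ⟨fun hx => ?_, ?_⟩
    · exact exists_U_of_ρ_eq_zero (j := j) _ (by omega) x (congrArg Subtype.val hx)
    · rintro ⟨y, rfl⟩
      exact Subtype.ext (ρ_U_eq_zero (j := j) _ (by omega) y)
  let δ₁ := H4LC.δH (maximalIdeal A) (U_injective (L := L) hle) hπ hex 1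
  have h₁ : Function.Injective δ₁ := H4LC.δH_injective (maximalIdeal A) _ _ _ 1 ((L.sat _).subsingleton_H_one hT)
  exact ⟨δ₁ ∘ₗ δ₀ ∘ₗ i₀.toLinearMap, h₁.comp (h₀.comp i₀.injective)⟩

/-- The sections lifting `K` steps modulo those lifting one more. -/
noncomputable abbrev Qb (K a : ℕ) : Type u := L.Lift K a ⧸ (L.Lift (K + 1) a).comap (L.Lift K a).subtype

variable (hB2 : Module.Finite A (LinearMap.range (LinearMap.lsmul A (LocCoh.H (maximalIdeal A) 2 (L.G K)) (f ^ K))))

include hT in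
theorem length_Qb_le (a : ℕ) :
    Module.length A (L.Qb K a) ≤
      Module.length A (LinearMap.range (LinearMap.lsmul A (LocCoh.H (maximalIdeal A) 2 (L.G K)) (f ^ K))) := by
  obtain ⟨ψ, hψ⟩ := L.exists_injective_quotient_Lift hT K (a + K)
  let φ : L.Qb K a →ₗ[A] L.G (a + K) ⧸ L.Lift (K + 1) (a + K) :=
    Submodule.mapQ _ _ ((L.U (Nat.le_add_right a K)).comp (L.Lift K a).subtype) (fun x hx => L.U_mem_Lift _ hx)
  have hφr : ∀ x, ∃ y, φ x = f ^ K • y := fun x => by
    obtain ⟨⟨_, z, rfl⟩, rfl⟩ := Submodule.mkQ_surjective _ x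
    refine ⟨Submodule.Quotient.mk z, ?_⟩
    show Submodule.Quotient.mk (L.U _ (L.ρ _ z)) = _
    rw [U_ρ, Nat.add_sub_cancel_left, Submodule.Quotient.mk_smul]
  have hφ : Function.Injective φ := by
    refine (injective_iff_map_eq_zero _).2 fun x hx => ?_
    obtain ⟨⟨s, hs⟩, rfl⟩ := Submodule.mkQ_surjective _ x
    have h1 : L.U (Nat.le_add_right a K) s ∈ L.Lift (K + 1) (a + K) := (Submodule.Quotient.mk_eq_zero _).1 hx
    refine (Submodule.Quotient.mk_eq_zero _).2 ?_
    show s ∈ L.Lift (K + 1) a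
    clear hx hs
    -- descend one step at a time
    suffices H : ∀ d (b : ℕ) (hb : a + d = b), L.U (show a ≤ b by omega) s ∈ L.Lift (K + 1) b → s ∈ L.Lift (K + 1) a from
      H K (a + K) rfl h1
    intro d
    induction d with
    | zero =>
      intro b hb h
      obtain rfl : a = b := by omega
      rwa [L.U_refl] at h
    | succ d ih =>
      intro b hb h
      obtain rfl : a + d + 1 = b := by omega
      rw [← U_U (Nat.le_add_right a d) (Nat.le_succ _)] at h
      exact ih (a + d) rfl (L.mem_Lift_of_U_mem (j := 0) (by omega) _ h)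
  refine Module.length_le_of_injective ((ψ.comp φ).codRestrict _ fun x => ?_) fun x y hxy => hφ (hψ ?_)
  · obtain ⟨y, hy⟩ := hφr x
    exact ⟨ψ y, by show f ^ K • ψ y = ψ (φ x); rw [hy, map_smul]⟩
  · exact congrArg Subtype.val hxy

include hT hB2 in
/-- The sections lifting `K` steps stabilise. -/
theorem exists_stable_bound :
    ∃ k₀, ∀ m, ∀ hm : k₀ ≤ m, ∀ t ∈ L.Lift K m,
      ∃ (w : L.G k₀) (t' : L.G (m + (K + 1))), t = L.U hm w + L.ρ (Nat.le_add_right m (K + 1)) t' := by
  let H := LinearMap.range (LinearMap.lsmul A (LocCoh.H (maximalIdeal A) 2 (L.G K)) (f ^ K))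
  haveI : Module.Finite A H := hB2
  haveI : IsNoetherian A H := inferInstance
  by_cases hart : Module.length A H = ⊤
  · exfalso
    haveI : IsArtinian A H := isArtinian_of_isPowerTorsion H fun x => by
      obtain ⟨n, hn⟩ := H4LC.isPowerTorsion_H (maximalIdeal A) (L.G K) (i := 2) x.1
      exact ⟨n, fun a ha => Subtype.ext (hn a ha)⟩
    exact Module.length_ne_top hart
  let q : ∀ a, L.Qb K a →ₗ[A] L.Qb K (a + 1) := fun a =>
    Submodule.mapQ _ _ (((L.U a.le_succ).comp (L.Lift K a).subtype).codRestrict _ fun x => L.U_mem_Lift _ x.2)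
      (fun x hx => L.U_mem_Lift _ hx)
  have hq : ∀ a, Function.Injective (q a) := fun a => by
    refine (injective_iff_map_eq_zero _).2 fun x hx => ?_
    obtain ⟨⟨s, hs⟩, rfl⟩ := Submodule.mkQ_surjective _ x
    have h1 : L.U a.le_succ s ∈ L.Lift (K + 1) (a + 1) :=
      (Submodule.Quotient.mk_eq_zero ((L.Lift (K + 1) (a + 1)).comap (L.Lift K (a + 1)).subtype)).1 hx
    exact (Submodule.Quotient.mk_eq_zero _).2 (L.mem_Lift_of_U_mem (j := 0) (by omega) a h1)
  have hle : ∀ n, Module.length A (L.Qb K n) ≤ Module.length A H := L.length_Qb_le hT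
  obtain ⟨k₀, hk₀⟩ : ∃ k₀, ∀ n, Module.length A (L.Qb K n) ≤ Module.length A (L.Qb K k₀) := by
    have hfin : (Set.range fun n => Module.length A (L.Qb K n)).Finite := by
      lift Module.length A H to ℕ using hart with N hN
      exact ((Set.finite_Iic N).image (fun k : ℕ => (k : ℕ∞))).subset (by
        rintro _ ⟨n, rfl⟩
        have h' : Module.length A (L.Qb K n) ≠ ⊤ := ne_top_of_le_ne_top (ENat.coe_ne_top N) (hle n)
        exact ⟨(Module.length A (L.Qb K n)).toNat, ENat.toNat_le_of_le_coe (hle n), ENat.coe_toNat h'⟩)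
    obtain ⟨_, ⟨k, rfl⟩, hk⟩ := hfin.exists_maximal (Set.range_nonempty _)
    exact ⟨k, fun n => (le_total _ _).elim id (hk ⟨n, rfl⟩)⟩
  have hmono : ∀ m, k₀ ≤ m → Module.length A (L.Qb K k₀) ≤ Module.length A (L.Qb K m) := fun m hm => by
    induction m, hm using Nat.le_induction with
    | base => exact le_rfl
    | succ m _ ih => exact ih.trans (Module.length_le_of_injective _ (hq m))
  have hsurj : ∀ m, k₀ ≤ m → Function.Surjective (q m) := fun m hm => by
    have h := Module.length_eq_add_of_exact (q m) (LinearMap.range (q m)).mkQ (hq m)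
      (Submodule.mkQ_surjective _) (LinearMap.exact_map_mkQ_range _)
    have heq : Module.length A (L.Qb K (m + 1)) = Module.length A (L.Qb K m) :=
      le_antisymm ((hk₀ _).trans (hmono m hm)) (Module.length_le_of_injective _ (hq m))
    rw [heq] at h
    have hz : Module.length A (L.Qb K (m + 1) ⧸ LinearMap.range (q m)) = 0 := by
      have hne : Module.length A (L.Qb K m) ≠ ⊤ := ne_top_of_le_ne_top hart (hle m)
      exact ((ENat.addLECancellable_of_ne_top hne).inj.1 (h.symm.trans (add_zero _).symm))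
    haveI := Module.length_eq_zero_iff.1 hz
    intro x
    exact (Submodule.Quotient.mk_eq_zero _).1 (Subsingleton.elim ((LinearMap.range (q m)).mkQ x) 0)
  refine ⟨k₀, fun m hm => ?_⟩
  induction m, hm using Nat.le_induction with
  | base => exact fun t _ => ⟨t, 0, by rw [L.U_refl, map_zero, add_zero]⟩
  | succ m hm ih =>
    intro t ht
    obtain ⟨x, hx⟩ := hsurj m hm (Submodule.Quotient.mk ⟨t, ht⟩)
    obtain ⟨⟨s, hs⟩, rfl⟩ := Submodule.mkQ_surjective _ x
    obtain ⟨w, t'', rfl⟩ := ih s hs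
    have hmem : t - L.U m.le_succ (L.U hm w + L.ρ (Nat.le_add_right m (K + 1)) t'') ∈ L.Lift (K + 1) (m + 1) :=
      (Submodule.Quotient.eq ((L.Lift (K + 1) (m + 1)).comap (L.Lift K (m + 1)).subtype)).1 hx.symm
    obtain ⟨t', ht'⟩ := hmem
    refine ⟨w, t' + L.U (show m + (K + 1) ≤ m + 1 + (K + 1) by omega) t'', ?_⟩
    rw [map_add, L.ρ_U_add (K + 1) m.le_succ t'',
      show L.ρ (Nat.le_add_right (m + 1) (K + 1)) t' = _ from ht', map_add, U_U hm m.le_succ]
    abel

include hT hB2 in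
/-- Sections lifting far enough lift to every level. -/
theorem exists_lift_all_bound :
    ∃ k : ℕ, K ≤ k ∧ ∀ n (s : L.G n), (∃ t, L.ρ (Nat.le_add_right n k) t = s) →
      ∀ m (h : n ≤ m), ∃ t, L.ρ h t = s := by
  obtain ⟨k₀, hk⟩ := L.exists_stable_bound hT hB2
  refine ⟨k₀ + 1 + K, Nat.le_add_left _ _, fun n s ⟨t, ht⟩ m h => ?_⟩
  suffices H : ∀ M, n + (k₀ + 1) ≤ M → ∀ hM : n ≤ M + K, ∃ z : L.G (M + K), L.ρ hM z = s by
    obtain ⟨z, hz⟩ := H (max m (n + (k₀ + 1))) (le_max_right _ _) (by omega)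
    exact ⟨L.ρ (show m ≤ max m (n + (k₀ + 1)) + K by omega) z, by rw [L.ρ_comp]; exact hz⟩
  intro M hM
  induction M, hM using Nat.le_induction with
  | base => exact fun hM => ⟨L.ρ (show n + (k₀ + 1) + K ≤ n + (k₀ + 1 + K) by omega) t, by rw [L.ρ_comp]; exact ht⟩
  | succ M hM ih =>
    intro hM'
    obtain ⟨z, hz⟩ := ih (by omega)
    obtain ⟨w, t', he⟩ := hk M (by omega) (L.ρ (Nat.le_add_right M K) z) ⟨z, rfl⟩
    refine ⟨L.ρ (show M + 1 + K ≤ M + (K + 1) by omega) t', ?_⟩
    rw [L.ρ_comp, ← hz, ← L.ρ_comp (show n ≤ M by omega) (Nat.le_add_right M K), he, map_add, L.ρ_comp,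
      ← U_U (m := M - n - 1) (by omega) (by omega) w, ρ_U_eq_zero (j := M - n - 1) _ (by omega), zero_add]

include hT hB1 hB2 in
/-- The formal sections are finite and give every level on the cover. -/
theorem lim_finite_bound [IsAdicComplete (Ideal.span {f}) A] :
    Module.Finite A L.lim ∧ ∀ n, ∀ c ∈ T, ∀ s : L.G n, ∃ (K : ℕ) (b : L.lim), L.proj n b = c ^ K • s := by
  classical
  haveI : IsHausdorff (Ideal.span {f}) L.lim := ⟨fun b hb => Subtype.ext (funext fun n => by
    have h := hb (n + 1)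
    rw [SModEq.zero, Ideal.span_singleton_pow, Submodule.ideal_span_singleton_smul] at h
    obtain ⟨y, -, hy⟩ := h
    show L.proj n b = 0
    rw [← hy]
    exact (L.proj_eq_zero_iff n _).2 ⟨y, rfl⟩)⟩
  constructor
  · haveI : Module.Finite A (L.lim ⧸ (Ideal.span {f} • ⊤ : Submodule A L.lim)) := by
      haveI := L.finite_Lift hB1 0
      let φ := Submodule.liftQ (Ideal.span {f} • ⊤ : Submodule A L.lim)
        ((L.proj 0).toLinearMap.codRestrict (L.Lift K 0) fun b => by
          refine ⟨L.proj (0 + K) b, ?_⟩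
          exact L.lim_compat b _) (by
        rw [Submodule.ideal_span_singleton_smul]
        rintro _ ⟨y, -, rfl⟩
        exact Subtype.ext ((L.proj_eq_zero_iff 0 _).2 ⟨y, by rw [pow_one]; rfl⟩))
      refine Module.Finite.of_injective φ ((injective_iff_map_eq_zero _).2 fun x hx => ?_)
      obtain ⟨b, rfl⟩ := Submodule.mkQ_surjective _ x
      obtain ⟨y, rfl⟩ := (L.proj_eq_zero_iff 0 b).1 (congrArg Subtype.val hx)
      refine (Submodule.Quotient.mk_eq_zero _).2 ?_
      rw [pow_one]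
      exact Submodule.smul_mem_smul (Ideal.mem_span_singleton_self f) trivial
    exact H24Adic.finite_of_finite_quotient (Ideal.span {f})
  · obtain ⟨k, -, hk⟩ := L.exists_lift_all_bound hT hB2
    intro n c hc s
    obtain ⟨K, z, hz⟩ := L.lift c hc (Nat.le_add_right n k) s
    let S : ∀ m, Set (L.G m) := fun m => {x | ∃ t, L.ρ (Nat.le_add_right m k) t = x}
    have hstep : ∀ m (x : L.G m), x ∈ S m → ∃ y, y ∈ S (m + 1) ∧ L.ρ m.le_succ y = x := fun m x hx => by
      obtain ⟨t, ht⟩ := hk m x hx (m + 1 + k) (by omega)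
      exact ⟨L.ρ (Nat.le_add_right (m + 1) k) t, ⟨t, rfl⟩, by rw [L.ρ_comp]; exact ht⟩
    choose next hnext hnext' using hstep
    let P : ∀ j, {x : L.G (n + j) // x ∈ S (n + j)} := fun j => Nat.rec
      ⟨c ^ K • s, z, hz⟩ (fun j p => ⟨next _ p.1 p.2, hnext _ _ _⟩) j
    let b : ∀ m, L.G m := fun m => L.ρ (Nat.le_add_left m n) (P m).1
    refine ⟨K, ⟨b, fun m => ?_⟩, ?_⟩
    · show L.ρ m.le_succ (L.ρ _ (P (m + 1)).1) = L.ρ _ (P m).1
      rw [L.ρ_comp, ← hnext' (n + m) (P m).1 (P m).2, L.ρ_comp]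
      rfl
    · show L.ρ (Nat.le_add_left n n) (P n).1 = c ^ K • s
      have : ∀ j, L.ρ (Nat.le_add_right n j) (P j).1 = c ^ K • s := fun j => by
        induction j with
        | zero => exact L.ρ_self n _
        | succ j ih =>
          rw [← ih, ← hnext' (n + j) (P j).1 (P j).2, L.ρ_comp]
          rfl
      exact this n

end

/-- One finite level of multiples makes the formal sections finite. -/
theorem finite_lim_of_finite_range {A : Type u} [CommRing A] [IsNoetherianRing A] [IsLocalRing A] {f : A} {T : Finset A}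
    (L : Levels A f T) [IsAdicComplete (Ideal.span {f}) A] (K : ℕ)
    (h : Module.Finite A (LinearMap.range (LinearMap.lsmul A (L.G K) (f ^ K)))) : Module.Finite A L.lim := by
  haveI : IsHausdorff (Ideal.span {f}) L.lim := ⟨fun b hb => Subtype.ext (funext fun n => by
    have h := hb (n + 1)
    rw [SModEq.zero, Ideal.span_singleton_pow, Submodule.ideal_span_singleton_smul] at h
    obtain ⟨y, -, hy⟩ := h
    show L.proj n b = 0
    rw [← hy]
    exact (L.proj_eq_zero_iff n _).2 ⟨y, rfl⟩)⟩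
  haveI := h
  haveI : Module.Finite A (L.lim ⧸ (Ideal.span {f} • ⊤ : Submodule A L.lim)) := by
    let φ := Submodule.liftQ (Ideal.span {f} • ⊤ : Submodule A L.lim)
      (((L.U (Nat.zero_le K)).comp (L.proj 0).toLinearMap).codRestrict
        (LinearMap.range (LinearMap.lsmul A (L.G K) (f ^ K))) fun b => by
          refine ⟨L.proj K b, ?_⟩
          show f ^ K • L.proj K b = L.U _ (L.proj 0 b)
          rw [← L.lim_compat b (Nat.zero_le K), U_ρ, Nat.sub_zero]) (by
      rw [Submodule.ideal_span_singleton_smul]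
      rintro _ ⟨y, -, rfl⟩
      refine Subtype.ext ?_
      show L.U _ (L.proj 0 _) = (0 : L.G K)
      rw [(L.proj_eq_zero_iff 0 _).2 ⟨y, by rw [pow_one]; rfl⟩, map_zero])
    refine Module.Finite.of_injective φ ((injective_iff_map_eq_zero _).2 fun x hx => ?_)
    obtain ⟨b, rfl⟩ := Submodule.mkQ_surjective _ x
    have h0 : L.proj 0 b = 0 := U_injective (L := L) (Nat.zero_le K) (by
      rw [map_zero]; exact congrArg Subtype.val hx)
    obtain ⟨y, rfl⟩ := (L.proj_eq_zero_iff 0 b).1 h0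
    refine (Submodule.Quotient.mk_eq_zero _).2 ?_
    rw [pow_one]
    exact Submodule.smul_mem_smul (Ideal.mem_span_singleton_self f) trivial
  exact H24Adic.finite_of_finite_quotient (Ideal.span {f})

end Levels

end Groth.Agent.H11Alg
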