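import Groth.Agent.H11Alg.Extend
import Groth.Agent.H11LefFEt.ExtendCompletion
import Groth.Agent.H23Para.Samuel.CI
import Groth.Agent.H4LC.Depth
import Groth.Agent.S0247

/-!
# Purity for complete intersections of dimension at least three
-/

set_option autoImplicit false
set_option linter.style.haveILetI false
set_option backward.isDefEq.respectTransparency false

universe u

open CategoryTheory CategoryTheory.Limits AlgebraicGeometry TopologicalSpace IsLocalRing RingTheory.Sequence

namespace Groth.Agent.H11Alg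

open H18Et.FEtLimit in
/-- Purity descends from the completion. -/
theorem purityHolds_of_adicCompletion (A : Type u) [CommRing A] [IsNoetherianRing A] [IsLocalRing A]
    (h : FEt.PurityHolds (AdicCompletion (maximalIdeal A) A)) : FEt.PurityHolds A := by
  let A' := AdicCompletion (maximalIdeal A) A
  have hm : (maximalIdeal A).map (algebraMap A A') = maximalIdeal A' :=
    (AdicCompletion.maximalIdeal_eq_map (R := A)).symm
  let ι := (FEt.puncturedSpec A).ι
  let ι' := (FEt.puncturedSpec A').ι
  let s := Spec.map (CommRingCat.ofHom (algebraMap A A'))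
  have hU : s ⁻¹ᵁ FEt.puncturedSpec A = FEt.puncturedSpec A' := by
    refine Opens.ext (Set.ext fun p => not_congr ?_)
    simp only [Set.mem_singleton_iff]
    refine ⟨fun h => PrimeSpectrum.ext ?_, fun h => ?_⟩
    · refine ((IsLocalRing.maximalIdeal.isMaximal A').eq_of_le p.isPrime.ne_top ?_).symm
      rw [← hm, Ideal.map_le_iff_le_comap]
      exact (congrArg PrimeSpectrum.asIdeal h).ge
    · subst h
      haveI : IsLocalHom (algebraMap A A') := inferInstance
      exact IsLocalRing.comap_closedPoint (algebraMap A A')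
  have hr : Set.range (ι' ≫ s) ⊆ Set.range ι := by
    rintro _ ⟨x, rfl⟩
    rw [Scheme.Opens.range_ι]
    exact hU.ge x.2
  let κ : (FEt.puncturedSpec A' : Scheme.{u}) ⟶ (FEt.puncturedSpec A : Scheme.{u}) := IsOpenImmersion.lift ι (ι' ≫ s) hr
  have hκ : κ ≫ ι = ι' ≫ s := IsOpenImmersion.lift_fac _ _ _
  have hpb : IsPullback κ ι' ι s := by
    refine IsOpenImmersion.isPullback _ _ _ _ hκ.symm ?_
    simp only [ι, ι', Scheme.Opens.opensRange_ι]
    exact hU
  refine ⟨fun V => ?_⟩
  obtain ⟨Y', ⟨e⟩⟩ := h.mem_essImage ((FEt.restrict κ).obj V)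
  let γ := hpb.isoPullback
  exact H18Pur.Complete.exists_extend V Y'
    ((restrictCompIso γ.inv ι' _ hpb.isoPullback_inv_snd Y').symm ≪≫ (FEt.restrict γ.inv).mapIso e ≪≫
      restrictCompIso γ.inv κ _ hpb.isoPullback_inv_fst V)

/-- In a Noetherian local domain where the nonzero primes contain `t ≠ 0`, the maximal ideal is the
only nonzero prime. -/
theorem eq_maximalIdeal_of_forall_mem {D : Type u} [CommRing D] [IsDomain D] [IsLocalRing D] [IsNoetherianRing D]
    (t : D) (ht : t ≠ 0) (h : ∀ Q : Ideal D, Q.IsPrime → Q ≠ ⊥ → t ∈ Q) (q : Ideal D) (hq : q.IsPrime)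
    (hq0 : q ≠ ⊥) : q = maximalIdeal D := by
  by_contra hne
  let S := (Ideal.span {t}).minimalPrimes
  have hfin : S.Finite := Ideal.finite_minimalPrimes_of_isNoetherianRing D _
  have hnm : maximalIdeal D ∉ S := fun hm => by
    haveI := hq
    exact hne (le_antisymm (le_maximalIdeal hq.ne_top)
      (hm.2 ⟨hq, (Ideal.span_singleton_le_iff_mem _).2 (h q hq hq0)⟩ (le_maximalIdeal hq.ne_top)))
  obtain ⟨a, ha, haS⟩ : ∃ a ∈ maximalIdeal D, ∀ P ∈ S, a ∉ P := by
    by_contra hall
    push Not at hall
    have hsub : (maximalIdeal D : Set D) ⊆ ⋃ P ∈ (hfin.toFinset : Set (Ideal D)), (P : Set D) := fun a ha => by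
      obtain ⟨P, hP, haP⟩ := hall a ha
      exact Set.mem_biUnion (hfin.mem_toFinset.2 hP) haP
    obtain ⟨P, hP, hle⟩ := (Ideal.subset_union_prime (f := id) (s := hfin.toFinset) ⊥ ⊥
      fun P hP _ _ => (hfin.mem_toFinset.1 hP).1.1).1 hsub
    have hPS := hfin.mem_toFinset.1 hP
    exact hnm (le_antisymm (le_maximalIdeal hPS.1.1.ne_top) hle ▸ hPS)
  haveI := hq
  have ha0 : a ≠ 0 := fun h0 => by
    obtain ⟨P, hP, -⟩ := Ideal.exists_minimalPrimes_le ((Ideal.span_singleton_le_iff_mem _).2 (h q hq hq0))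
    exact haS P hP (h0 ▸ P.zero_mem)
  obtain ⟨Q, hQ, -⟩ := Ideal.exists_minimalPrimes_le (J := maximalIdeal D) ((Ideal.span_singleton_le_iff_mem _).2 ha)
  haveI := hQ.1.1
  have hQ0 : Q ≠ ⊥ := fun e => ha0 (by
    have h1 := (Ideal.span_singleton_le_iff_mem _).1 hQ.1.2
    rwa [e, Ideal.mem_bot] at h1)
  obtain ⟨P, hP, hPQ⟩ := Ideal.exists_minimalPrimes_le ((Ideal.span_singleton_le_iff_mem _).2 (h Q hQ.1.1 hQ0))
  haveI := hP.1.1
  have hlt : P < Q := lt_of_le_of_ne hPQ fun e => haS P hP (e ▸ (Ideal.span_singleton_le_iff_mem _).1 hQ.1.2)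
  have hP0 : ⊥ < P := bot_lt_iff_ne_bot.2 fun e => ht (by
    have h1 := (Ideal.span_singleton_le_iff_mem _).1 hP.1.2
    rwa [e, Ideal.mem_bot] at h1)
  have h1 := Ideal.height_strict_mono_of_isPrime hlt
  have h2 := Ideal.height_strict_mono_of_isPrime hP0
  exact absurd (h1.trans_le (Ideal.height_le_one_of_isPrincipal_of_mem_minimalPrimes _ _ hQ)) (by
    rw [not_lt]
    exact Order.one_le_iff_pos.2 (lt_of_le_of_lt zero_le h2))

/-- The maximal ideals of `A_t` have curves as closures. -/
theorem ringKrullDim_quotient_le_one_of_isMaximal (A : Type u) [CommRing A] [IsLocalRing A] [IsNoetherianRing A]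
    (t : A) (htm : t ∈ maximalIdeal A) (P : Ideal (Localization.Away t)) [hP : P.IsMaximal] :
    t ∉ P.comap (algebraMap A (Localization.Away t)) ∧
      ringKrullDim (A ⧸ P.comap (algebraMap A (Localization.Away t))) ≤ 1 := by
  let φ := algebraMap A (Localization.Away t)
  let p : PrimeSpectrum A := ⟨P.comap φ, inferInstance⟩
  have htp : t ∉ p.asIdeal := fun h =>
    hP.ne_top (Ideal.eq_top_of_isUnit_mem _ h (IsLocalization.Away.algebraMap_isUnit t))
  have hmax : ∀ Q : Ideal A, Q.IsPrime → p.asIdeal ≤ Q → t ∉ Q → Q = p.asIdeal := fun Q hQ hle htQ => by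
    have hdisj : Disjoint (Submonoid.powers t : Set A) Q := by
      rw [Set.disjoint_left]
      rintro _ ⟨n, rfl⟩ h
      exact htQ (hQ.mem_of_pow_mem n h)
    have h1 := IsLocalization.isPrime_of_isPrime_disjoint (Submonoid.powers t) (Localization.Away t) Q hQ hdisj
    have h2 : P ≤ Q.map φ := by
      rw [← IsLocalization.map_comap (Submonoid.powers t) (Localization.Away t) P]
      exact Ideal.map_mono hle
    rw [← IsLocalization.comap_map_of_isPrime_disjoint (Submonoid.powers t) (Localization.Away t) hQ hdisj,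
      ← hP.eq_of_le h1.ne_top h2]
  refine ⟨htp, H23Para.Samuel.ringKrullDim_quotient_le_one A t p htm fun q hle htq => PrimeSpectrum.ext ?_⟩
  let π := Ideal.Quotient.mk p.asIdeal
  haveI : IsLocalRing (A ⧸ p.asIdeal) := .of_surjective' π Ideal.Quotient.mk_surjective
  have hker : RingHom.ker π ≤ q.asIdeal := by rwa [Ideal.mk_ker]
  haveI : (q.asIdeal.map π).IsPrime := Ideal.map_isPrime_of_surjective Ideal.Quotient.mk_surjective hker
  have hqc : (q.asIdeal.map π).comap π = q.asIdeal := by
    rw [Ideal.comap_map_of_surjective _ Ideal.Quotient.mk_surjective, sup_eq_left]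
    exact hker
  have h3 := eq_maximalIdeal_of_forall_mem (π t) (fun h => htp (Ideal.Quotient.eq_zero_iff_mem.1 h))
    (fun Q hQ hQ0 => by
      by_contra htQ
      refine hQ0 ?_
      rw [← Ideal.map_comap_of_surjective π Ideal.Quotient.mk_surjective Q,
        hmax (Q.comap π) (hQ.comap π) (fun a ha => by
          show π a ∈ Q
          rw [Ideal.Quotient.eq_zero_iff_mem.2 ha]
          exact zero_mem _) htQ]
      exact Ideal.map_quotient_self _)
    (q.asIdeal.map π) inferInstance fun h0 => htp (by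
      have h4 : q.asIdeal = p.asIdeal := by rw [← hqc, h0]; exact Ideal.mk_ker
      exact h4 ▸ htq)
  show q.asIdeal = maximalIdeal A
  rw [← hqc, h3]
  exact IsLocalRing.eq_maximalIdeal (Ideal.comap_isMaximal_of_surjective π Ideal.Quotient.mk_surjective)

open H23Para.Samuel in
set_option maxHeartbeats 800000 in
/-- The inductive step over a complete regular local ring. -/
theorem purityHolds_quotient_of_isAdicComplete (R : Type u) [CommRing R] [IsRegularLocalRing R]
    [IsAdicComplete (maximalIdeal R) R] (rs : List R) (f : R) (hreg : IsRegular R (rs ++ [f]))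
    [IsLocalRing (R ⧸ Ideal.ofList (rs ++ [f]))]
    (hdim : (3 : WithBot ℕ∞) ≤ ringKrullDim (R ⧸ Ideal.ofList (rs ++ [f])))
    (ih : ∀ (R : Type u) [CommRing R] [IsRegularLocalRing R] (rs' : List R), rs'.length = rs.length →
      IsRegular R rs' → ∀ [IsLocalRing (R ⧸ Ideal.ofList rs')],
      (3 : WithBot ℕ∞) ≤ ringKrullDim (R ⧸ Ideal.ofList rs') →
      FEt.PurityHolds (R ⧸ Ideal.ofList rs')) :
    FEt.PurityHolds (R ⧸ Ideal.ofList (rs ++ [f])) := by
  have hmem := mem_maximalIdeal_of_isRegular hreg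
  have hw := (isWeaklyRegular_append_iff R rs [f]).mp hreg.toIsWeaklyRegular
  have hreg' : IsRegular R rs := (IsLocalRing.isRegular_iff_isWeaklyRegular_of_subset_maximalIdeal
    fun r hr => hmem r (List.mem_append_left _ hr)).mpr hw.1
  let J : Ideal R := Ideal.ofList rs
  let A₁ := R ⧸ J
  let t : A₁ := Ideal.Quotient.mk J f
  have hJm : J ≤ maximalIdeal R := Ideal.span_le.mpr fun r hr => hmem r (List.mem_append_left _ hr)
  haveI : Nontrivial A₁ := Ideal.Quotient.nontrivial_iff.mpr
    (ne_top_of_le_ne_top (maximalIdeal.isMaximal R).ne_top hJm)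
  haveI : IsLocalRing A₁ := IsLocalRing.of_surjective' (Ideal.Quotient.mk J) Ideal.Quotient.mk_surjective
  have hm₁ : (maximalIdeal R).map (Ideal.Quotient.mk J) = maximalIdeal A₁ :=
    IsLocalRing.map_maximalIdeal_of_surjective _ Ideal.Quotient.mk_surjective
  have htm : t ∈ maximalIdeal A₁ := hm₁ ▸ Ideal.mem_map_of_mem _ (hmem f (by simp))
  haveI := H24Adic.isAdicComplete_map_quotient (I := maximalIdeal R) J
  haveI : IsAdicComplete (Ideal.span {t}) A₁ :=
    H23Para.Samuel.isAdicComplete_of_ideal_le (I := (maximalIdeal R).map (Ideal.Quotient.mk J))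
      ((Ideal.span_singleton_le_iff_mem _).mpr (hm₁.symm ▸ htm))
  have hJT : J • (⊤ : Submodule R R) = J := by rw [smul_eq_mul, Ideal.mul_top]
  have hfreg : IsSMulRegular (R ⧸ J) f :=
    ((Submodule.quotEquivOfEq _ _ hJT).isSMulRegular_congr f).mp ((isWeaklyRegular_singleton_iff _ f).mp hw.2)
  have htreg : ∀ z : A₁, t * z = 0 → z = 0 := fun z hz => by
    refine hfreg ?_
    show f • z = f • (0 : A₁)
    rw [smul_zero, ← hz, Algebra.smul_def]
    rfl
  have hnz : t ∈ nonZeroDivisors A₁ :=
    mem_nonZeroDivisors_iff_right.2 fun z hz => htreg z ((mul_comm t z).trans hz)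
  have e : A₁ ⧸ Ideal.span {t} ≃+* R ⧸ Ideal.ofList (rs ++ [f]) :=
    (Ideal.quotEquivOfEq (show Ideal.span {t} = (Ideal.span {f}).map (Ideal.Quotient.mk J) by
      rw [Ideal.map_span, Set.image_singleton])).trans
    ((DoubleQuot.quotQuotEquivQuotSup J (Ideal.span {f})).trans
      (Ideal.quotEquivOfEq (by rw [Ideal.ofList_append, Ideal.ofList_singleton])))
  haveI : IsLocalRing (A₁ ⧸ Ideal.span {t}) := e.symm.isLocalRing
  have hd0 := ringKrullDim_add_length_eq_ringKrullDim_of_isRegular (rs ++ [f]) hreg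
  have hd1 := ringKrullDim_add_length_eq_ringKrullDim_of_isRegular rs hreg'
  have hd : ringKrullDim A₁ = ringKrullDim (R ⧸ Ideal.ofList (rs ++ [f])) + 1 := by
    refine withBot_add_natCast_cancel (n := rs.length) (hd1.trans ?_)
    rw [← hd0, List.length_append, List.length_singleton]
    push_cast
    rw [add_assoc, add_comm (1 : WithBot ℕ∞)]
  have hdim₁ : (3 : WithBot ℕ∞) + 1 ≤ ringKrullDim A₁ := hd ▸ add_le_add hdim le_rfl
  have hdepth : (3 : ℕ∞) ≤ LocCoh.depth A₁ (A₁ ⧸ Ideal.span {t}) := by
    rw [← H8Props.FlatDepth.depth_eq_of_surjective (R := A₁) (Ideal.Quotient.mk_surjective (I := Ideal.span {t}))]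
    have h1 := H8Props.FlatDepth.depth_self_quotient_add_one A₁ htm
      (fun a b (hab : t * a = t * b) => sub_eq_zero.mp (htreg _ (by rw [mul_sub, hab, sub_self]))) (Ideal.span {t}) rfl
    have h2 := depth_quotient_eq_ringKrullDim rs hreg'
    rw [← h2, ← h1] at hdim₁
    exact (ENat.add_le_add_iff_right ENat.one_ne_top).mp (WithBot.coe_le_coe.mp hdim₁)
  have hH : ∀ i : ℕ, i < 3 → Module.Finite A₁ (LocCoh.H (maximalIdeal A₁) i (A₁ ⧸ Ideal.span {t})) := fun i hi => by
    haveI : Subsingleton (LocCoh.H (maximalIdeal A₁) i (A₁ ⧸ Ideal.span {t})) :=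
      H4LC.subsingleton_H_of_lt_idealDepth _ _ (lt_of_lt_of_le (show (i : ℕ∞) < 3 by exact_mod_cast hi) hdepth)
    infer_instance
  refine purityHolds_of_ringEquiv e (purityHolds_quotient A₁ t htm hnz (hH 1 (by norm_num)) (hH 2 (by norm_num))
    (fun P hPmax => ?_) (ih R rs rfl hreg' (le_trans (le_add_of_nonneg_right zero_le_one) hdim₁)))
  haveI := hPmax
  obtain ⟨-, hp⟩ := ringKrullDim_quotient_le_one_of_isMaximal A₁ t htm P
  let p : PrimeSpectrum A₁ := ⟨P.comap (algebraMap A₁ (Localization.Away t)), inferInstance⟩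
  let q := p.asIdeal.comap (Ideal.Quotient.mk J)
  have hJq : J ≤ q := fun x hx => by
    rw [Ideal.mem_comap, Ideal.Quotient.eq_zero_iff_mem.mpr hx]
    exact zero_mem _
  have hmap : q.map (Ideal.Quotient.mk J) = p.asIdeal :=
    Ideal.map_comap_of_surjective _ Ideal.Quotient.mk_surjective _
  haveI : (q.map (Ideal.Quotient.mk J)).IsPrime := hmap ▸ p.2
  obtain ⟨e₁⟩ := H13CI.exists_quotient_localization_equiv J q hJq
  have hS : (q.map (Ideal.Quotient.mk J)).primeCompl = p.asIdeal.primeCompl :=
    SetLike.ext fun a => not_congr (SetLike.ext_iff.1 hmap a)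
  have hloc : IsLocalization (P.comap (algebraMap A₁ (Localization.Away t))).primeCompl (Localization.AtPrime P) :=
    IsLocalization.isLocalization_isLocalization_atPrime_isLocalization (Submonoid.powers t) _ P
  haveI : IsLocalization (q.map (Ideal.Quotient.mk J)).primeCompl (Localization.AtPrime P) := hS.symm ▸ hloc
  have e₂ : Localization.AtPrime (q.map (Ideal.Quotient.mk J)) ≃+* Localization.AtPrime P :=
    (IsLocalization.algEquiv (q.map (Ideal.Quotient.mk J)).primeCompl
      (Localization.AtPrime (q.map (Ideal.Quotient.mk J))) (Localization.AtPrime P)).toRingEquiv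
  let R' := Localization.AtPrime q
  haveI : IsRegularRing R := H05EGA4.isRegularRing_of_isRegularLocalRing R
  haveI : IsRegularLocalRing R' := IsRegularRing.isRegularLocalRing_localization _
  let rs' := rs.map (algebraMap R R')
  have hrs' : IsRegular R' rs' :=
    (IsLocalRing.isRegular_iff_isWeaklyRegular_of_subset_maximalIdeal fun x hx => by
      obtain ⟨r, hr, rfl⟩ := List.mem_map.mp hx
      exact (IsLocalization.AtPrime.to_map_mem_maximal_iff R' q r).mpr (hJq (Ideal.subset_span hr))).mpr
    (IsWeaklyRegular.of_flat hw.1)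
  have e₃ : Localization.AtPrime P ≃+* R' ⧸ Ideal.ofList rs' :=
    (e₁.trans e₂).symm.trans (Ideal.quotEquivOfEq (Ideal.map_ofList _ _))
  haveI : IsLocalRing (R' ⧸ Ideal.ofList rs') := e₃.isLocalRing
  refine purityHolds_of_ringEquiv e₃.symm (ih R' rs' (by simp [rs']) hrs' ?_)
  have hq1 : ringKrullDim (R ⧸ q) ≤ 1 := by
    refine le_trans (le_of_eq ?_) hp
    let g := (Ideal.Quotient.mk p.asIdeal).comp (Ideal.Quotient.mk J)
    have hg : RingHom.ker g = q := by rw [← RingHom.comap_ker, Ideal.mk_ker]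
    exact ringKrullDim_eq_of_ringEquiv ((Ideal.quotEquivOfEq hg.symm).trans
      (RingHom.quotientKerEquivOfSurjective (f := g)
        (Ideal.Quotient.mk_surjective.comp Ideal.Quotient.mk_surjective)))
  have hd2 : ringKrullDim (R' ⧸ Ideal.ofList rs') + rs.length = ringKrullDim R' := by
    simpa [rs'] using ringKrullDim_add_length_eq_ringKrullDim_of_isRegular rs' hrs'
  have hd3 : ringKrullDim A₁ + rs.length ≤ 1 + (ringKrullDim (R' ⧸ Ideal.ofList rs') + rs.length) := by
    rw [hd2, hd1, ringKrullDim_eq_quotient_add_localization q]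
    exact add_le_add hq1 le_rfl
  rw [← add_assoc, add_comm (1 : WithBot ℕ∞)] at hd3
  exact withBot_le_of_add_le (n := rs.length + 1) (by
    push_cast
    refine le_trans ?_ (hd3.trans (le_of_eq (by abel)))
    rw [← add_assoc, add_right_comm]
    exact add_le_add hdim₁ le_rfl)

open H23Para.Samuel in
/-- Quotients of regular local rings by regular sequences are pure from dimension three on. -/
theorem purityHolds_quotient_regular (c : ℕ) : ∀ (R : Type u) [CommRing R] [IsRegularLocalRing R]
    (rs : List R), rs.length = c → IsRegular R rs → ∀ [IsLocalRing (R ⧸ Ideal.ofList rs)],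
    (3 : WithBot ℕ∞) ≤ ringKrullDim (R ⧸ Ideal.ofList rs) →
    FEt.PurityHolds (R ⧸ Ideal.ofList rs) := by
  induction c with
  | zero =>
    intro R _ _ rs hlen _ _ hdim
    obtain rfl := List.length_eq_zero_iff.mp hlen
    have e : R ⧸ Ideal.ofList ([] : List R) ≃+* R :=
      (Ideal.quotEquivOfEq Ideal.ofList_nil).trans (RingEquiv.quotientBot R)
    refine purityHolds_of_ringEquiv e.symm (S0247.result R ?_)
    rw [← ringKrullDim_eq_of_ringEquiv e]
    exact le_trans (by norm_num) hdim
  | succ c ih =>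
    intro R _ _ rs hlen hreg _ hdim
    let A := R ⧸ Ideal.ofList rs
    let S := AdicCompletion (maximalIdeal R) R
    haveI : IsRegularLocalRing S := H02CA.isRegularLocalRing_adicCompletion R
    haveI : Module.Flat R S := AdicCompletion.flat_of_isNoetherian _
    haveI := H05EGA4.isNoetherianRing_adicCompletion A (maximalIdeal A)
    obtain ⟨e⟩ := H05EGA4.exists_completion_quotient_equiv (maximalIdeal R) A
      (Ideal.Quotient.mk (Ideal.ofList rs)) Ideal.Quotient.mk_surjective (maximalIdeal A)
      (IsLocalRing.map_maximalIdeal_of_surjective _ Ideal.Quotient.mk_surjective)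
    have hker : (RingHom.ker (Ideal.Quotient.mk (Ideal.ofList rs))).map (algebraMap R S) =
        Ideal.ofList (rs.map (algebraMap R S)) := by rw [Ideal.mk_ker, Ideal.map_ofList]
    let e' : AdicCompletion (maximalIdeal A) A ≃+* S ⧸ Ideal.ofList (rs.map (algebraMap R S)) :=
      e.symm.trans (Ideal.quotEquivOfEq hker)
    haveI : IsLocalRing (S ⧸ Ideal.ofList (rs.map (algebraMap R S))) := e'.isLocalRing
    have hreg₀ : IsRegular S (rs.map (algebraMap R S)) :=
      (IsLocalRing.isRegular_iff_isWeaklyRegular_of_subset_maximalIdeal fun x hx => by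
        obtain ⟨r, hr, rfl⟩ := List.mem_map.mp hx
        exact (mem_maximalIdeal _).mpr fun hu =>
          (mem_maximalIdeal r).mp (mem_maximalIdeal_of_isRegular hreg r hr)
            ((isUnit_map_iff (algebraMap R S) r).mp hu)).mpr
      (IsWeaklyRegular.of_flat hreg.toIsWeaklyRegular)
    refine purityHolds_of_adicCompletion _ (purityHolds_of_ringEquiv e'.symm ?_)
    have hdim₀ : (3 : WithBot ℕ∞) ≤ ringKrullDim (S ⧸ Ideal.ofList (rs.map (algebraMap R S))) := by
      rwa [← ringKrullDim_eq_of_ringEquiv e', H05EGA4.ringKrullDim_adicCompletion]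
    haveI : IsAdicComplete (maximalIdeal S) S :=
      (AdicCompletion.maximalIdeal_eq_map (R := R)).symm ▸
        H05EGA4.FiniteSemilocalCompletion.isAdicComplete_completion (maximalIdeal R)
    suffices key : ∀ rs₀ : List S, rs₀.length = c + 1 → IsRegular S rs₀ →
        ∀ [IsLocalRing (S ⧸ Ideal.ofList rs₀)], (3 : WithBot ℕ∞) ≤ ringKrullDim (S ⧸ Ideal.ofList rs₀) →
        FEt.PurityHolds (S ⧸ Ideal.ofList rs₀) from key _ (by simp [hlen]) hreg₀ hdim₀
    intro rs₀ hlen₀ hreg₁ _ hdim₁
    rcases rs₀.eq_nil_or_concat' with rfl | ⟨l, f, rfl⟩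
    · simp at hlen₀
    refine purityHolds_quotient_of_isAdicComplete S l f hreg₁ hdim₁ ?_
    obtain rfl : l.length = c := by simpa using hlen₀
    exact ih

/-- Complete intersections of dimension at least three are pure. -/
theorem purityHolds_of_CI (A : Type u) [CommRing A] [IsNoetherianRing A] [IsLocalRing A]
    (hA : Pi1.IsCompleteIntersection A) (hd : (3 : WithBot ℕ∞) ≤ ringKrullDim A) : FEt.PurityHolds A := by
  haveI := H05EGA4.isNoetherianRing_adicCompletion A (maximalIdeal A)
  obtain ⟨B, _, _, rs, -, hreg, ⟨e⟩⟩ := hA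
  haveI : IsLocalRing (B ⧸ Ideal.ofList rs) := e.isLocalRing
  exact purityHolds_of_adicCompletion A (purityHolds_of_ringEquiv e.symm
    (purityHolds_quotient_regular rs.length B rs rfl hreg
      ((hd.trans (H05EGA4.ringKrullDim_adicCompletion A).ge).trans (ringKrullDim_eq_of_ringEquiv e).le)))

end Groth.Agent.H11Alg
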