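import Groth.Agent.H4LC.LC
import Groth.Agent.H4LC.Artinian
import Groth.Agent.H4LC.Torsion
import Groth.Agent.H4LC.FiniteLength
import Groth.Agent.H4LC.LocalDuality
import Mathlib.RingTheory.Length
import Mathlib.RingTheory.HopkinsLevitzki

/-!
# Finiteness of local cohomology of modules that are locally direct summands
-/

set_option autoImplicit false
set_option linter.style.haveILetI false

universe u

open IsLocalRing CategoryTheory

namespace Groth.Agent.H11Alg

variable {A : Type u} [CommRing A]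

/-- Sections over the cover glue, uniquely. -/
structure IsSat (T : Finset A) (G : Type u) [AddCommGroup G] [Module A G] : Prop where
  sep : ∀ x : G, (∀ c ∈ T, ∃ K : ℕ, c ^ K • x = 0) → x = 0
  glue : ∀ (K : ℕ) (z : A → G), (∀ c ∈ T, ∀ d ∈ T, d ^ K • z c = c ^ K • z d) →
    ∃ a : G, ∀ c ∈ T, c ^ K • a = z c

theorem exists_pow_le_span {T : Finset A} (K : ℕ) :
    ∃ R, Ideal.span (T : Set A) ^ R ≤ Ideal.span ((fun c => c ^ K) '' (T : Set A)) := by
  refine Ideal.exists_pow_le_of_le_radical_of_fg ?_ ⟨T, rfl⟩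
  rw [Ideal.span_le]
  exact fun c hc => ⟨K, Ideal.subset_span ⟨c, hc, rfl⟩⟩

/-- Elements killed by powers of all generators are killed by a power of the ideal. -/
theorem exists_pow_smul_eq_zero {T : Finset A} {G : Type u} [AddCommGroup G] [Module A G] (x : G)
    (h : ∀ c ∈ T, ∃ K : ℕ, c ^ K • x = 0) :
    ∃ R, ∀ a ∈ Ideal.span (T : Set A) ^ R, a • x = 0 := by
  choose K hK using h
  let K₀ := T.attach.sup fun c => K c.1 c.2
  obtain ⟨R, hR⟩ := exists_pow_le_span (T := T) K₀
  refine ⟨R, fun a ha => ?_⟩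
  have := hR ha
  clear ha
  induction this using Submodule.span_induction with
  | mem a ha =>
    obtain ⟨c, hc, rfl⟩ := ha
    have hle : K c hc ≤ K₀ := Finset.le_sup (f := fun c : T => K c.1 c.2) (Finset.mem_attach T ⟨c, hc⟩)
    obtain ⟨d, hd⟩ := Nat.exists_eq_add_of_le hle
    show c ^ K₀ • x = 0
    rw [hd, add_comm (K c hc) d, pow_add, mul_smul, hK c hc, smul_zero]
  | zero => exact zero_smul _ _
  | add a b _ _ ha hb => rw [add_smul, ha, hb, add_zero]
  | smul t a _ ha => rw [smul_eq_mul, mul_smul, ha, smul_zero]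

variable [IsLocalRing A] {T : Finset A} (hT : Ideal.span (T : Set A) = maximalIdeal A)
  {G : Type u} [AddCommGroup G] [Module A G]

include hT in
/-- Torsion elements, read on the generators. -/
theorem mem_torsionSub_iff (x : G) :
    x ∈ DRing.torsionSub (maximalIdeal A) G ↔ ∀ c ∈ T, ∃ K : ℕ, c ^ K • x = 0 := by
  constructor
  · intro hx c hc
    obtain ⟨n, hn⟩ := H4LC.isPowerTorsion_torsionSub (maximalIdeal A) G ⟨x, hx⟩
    exact ⟨n, congrArg Subtype.val (hn (c ^ n) (Ideal.pow_mem_pow (hT ▸ Ideal.subset_span hc) n))⟩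
  · intro h
    obtain ⟨R, hR⟩ := exists_pow_smul_eq_zero x h
    rw [hT] at hR
    exact (H4LC.torsionSub_eq_iSup (I := maximalIdeal A) G).ge (Submodule.mem_iSup_of_mem R
      ((Submodule.mem_torsionBySet_iff _ _).2 fun a => hR a.1 a.2))

include hT in
theorem IsSat.subsingleton_H_zero (h : IsSat T G) : Subsingleton (LocCoh.H (maximalIdeal A) 0 G) := by
  refine (H4LC.zeroEquiv (maximalIdeal A) G).toEquiv.subsingleton_congr.2 ⟨fun a b => Subtype.ext ?_⟩
  rw [h.sep a.1 ((mem_torsionSub_iff hT a.1).1 a.2), h.sep b.1 ((mem_torsionSub_iff hT b.1).1 b.2)]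

include hT in
theorem IsSat.subsingleton_H_one (h : IsSat T G) : Subsingleton (LocCoh.H (maximalIdeal A) 1 G) := by
  classical
  obtain ⟨E, _, _, hE, ι, hι⟩ : ∃ (E : Type u) (_ : AddCommGroup E) (_ : Module A E),
      Module.Injective A E ∧ ∃ ι : G →ₗ[A] E, Function.Injective ι := by
    let X : ModuleCat.{u} A := ModuleCat.of A G
    let E : ModuleCat.{u} A := Injective.under X
    exact ⟨E, inferInstance, inferInstance,
      (Module.injective_iff_injective_object A _).2 (Injective.injective_under X),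
      (Injective.ι X).hom, (ModuleCat.mono_iff_injective _).1 (Injective.ι_mono X)⟩
  let q := (LinearMap.range ι).mkQ
  have hq : Function.Surjective q := Submodule.mkQ_surjective _
  have hιq : Function.Exact ι q := LinearMap.exact_map_mkQ_range ι
  haveI := H4LC.subsingleton_H_of_injective (maximalIdeal A) E one_pos
  refine ⟨fun a b => ?_⟩
  suffices key : ∀ z, z = (0 : LocCoh.H (maximalIdeal A) 1 G) by rw [key a, key b]
  intro z
  obtain ⟨w, rfl⟩ := H4LC.δH_surjective (maximalIdeal A) hι hq hιq 0 inferInstance z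
  refine (H4LC.exactH₃ (maximalIdeal A) hι hq hιq 0 w).2 ?_
  -- lift the torsion element
  let t := H4LC.zeroEquiv (maximalIdeal A) _ w
  obtain ⟨e, he⟩ := hq t.1
  have hk := (mem_torsionSub_iff hT t.1).1 t.2
  choose K hK using hk
  let K₀ := T.attach.sup fun c => K c.1 c.2
  have hz : ∀ c : A, ∃ g : G, c ∈ T → ι g = c ^ K₀ • e := fun c => by
    by_cases hc : c ∈ T
    · have hle : K c hc ≤ K₀ := Finset.le_sup (f := fun c : T => K c.1 c.2) (Finset.mem_attach T ⟨c, hc⟩)
      obtain ⟨d, hd⟩ := Nat.exists_eq_add_of_le hle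
      have : q (c ^ K₀ • e) = 0 := by
        rw [map_smul, he, hd, add_comm (K c hc) d, pow_add, mul_smul, hK c hc, smul_zero]
      obtain ⟨g, hg⟩ := (hιq _).1 this
      exact ⟨g, fun _ => hg⟩
    · exact ⟨0, fun h => absurd h hc⟩
  choose g hg using hz
  obtain ⟨a, ha⟩ := h.glue K₀ g fun c hc d hd => hι (by
    rw [map_smul, map_smul, hg c hc, hg d hd, smul_comm])
  have hmem : e - ι a ∈ DRing.torsionSub (maximalIdeal A) E := (mem_torsionSub_iff hT _).2 fun c hc =>
    ⟨K₀, by rw [smul_sub, ← map_smul ι, ha c hc, hg c hc, sub_self]⟩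
  refine ⟨(H4LC.zeroEquiv (maximalIdeal A) E).symm ⟨_, hmem⟩, (H4LC.zeroEquiv (maximalIdeal A) _).injective
    (Subtype.ext ?_)⟩
  rw [H4LC.zeroEquiv_naturality, LinearEquiv.apply_symm_apply]
  show q (e - ι a) = t.1
  rw [map_sub, hιq.apply_apply_eq_zero, he, sub_zero]

variable [IsNoetherianRing A]

/-- An Artinian module killed by a power of the maximal ideal is finite. -/
theorem finite_of_isArtinian_of_killed (H : Type u) [AddCommGroup H] [Module A H] [IsArtinian A H] (S : ℕ)
    (h : ∀ a ∈ maximalIdeal A ^ S, ∀ x : H, a • x = 0) : Module.Finite A H := by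
  induction S generalizing H with
  | zero =>
    haveI : Subsingleton H := subsingleton_of_forall_eq 0 fun x => by simpa using h 1 (by simp) x
    infer_instance
  | succ S ih =>
    let N := LocCoh.torsionBy (maximalIdeal A) H
    haveI : Module.Finite (A ⧸ maximalIdeal A) N := ((H4Matlis.isArtinian_iff H).1 inferInstance).2
    haveI : Module.Finite A N := Module.Finite.trans (A ⧸ maximalIdeal A) N
    haveI : IsArtinian A (H ⧸ N) := inferInstance
    haveI : Module.Finite A (H ⧸ N) := ih _ fun a ha x => by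
      obtain ⟨x, rfl⟩ := N.mkQ_surjective x
      refine (Submodule.Quotient.mk_eq_zero _).2 ((Submodule.mem_torsionBySet_iff _ _).2 fun b => ?_)
      show b.1 • a • x = 0
      rw [smul_smul]
      exact h _ (pow_succ' (maximalIdeal A) S ▸ Ideal.mul_mem_mul b.2 ha) x
    exact Module.Finite.of_submodule_quotient N

include hT in
/-- Finiteness of local cohomology of a module that is locally a summand of copies of `Q`. -/
theorem finite_H_of_dual (i : ℕ) (M Q : Type u) [AddCommGroup M] [Module A M] [Module.Finite A M]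
    [AddCommGroup Q] [Module A Q] (hQ : Module.Finite A (LocCoh.H (maximalIdeal A) i Q))
    (hd : ∀ c ∈ T, ∃ (L n : ℕ) (φ : Fin n → (M →ₗ[A] Q)) (ψ : Fin n → (Q →ₗ[A] M)),
      ∀ y, ∑ k, ψ k (φ k y) = c ^ L • y) :
    Module.Finite A (LocCoh.H (maximalIdeal A) i M) := by
  classical
  choose L n φ ψ hψ using hd
  let H := LocCoh.H (maximalIdeal A) i M
  haveI : IsArtinian A H := H4LC.isArtinian_H i M
  let W : Submodule A H := ⨆ c : T, ⨆ k, LinearMap.range (H4LC.Hmap (maximalIdeal A) (ψ c.1 c.2 k) i)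
  haveI : Module.Finite A W := inferInstance
  haveI : IsArtinian A W := inferInstance
  obtain ⟨R, hR⟩ := H4LC.exists_pow_smul_top_eq_bot_of_isFiniteLength
    (isFiniteLength_iff_isNoetherian_isArtinian.2 ⟨(inferInstance : IsNoetherian A W), inferInstance⟩)
  have hW : ∀ c (hc : c ∈ T) (x : H), c ^ L c hc • x ∈ W := by
    intro c hc x
    have e : ∑ k, ψ c hc k ∘ₗ φ c hc k = (c ^ L c hc) • (LinearMap.id : M →ₗ[A] M) := LinearMap.ext fun y => by
      simpa using hψ c hc y
    have e' : (∑ k, H4LC.Hmap (maximalIdeal A) (ψ c hc k ∘ₗ φ c hc k) i) x = c ^ L c hc • x := by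
      have h1 : ∑ k, H4LC.Hmap (maximalIdeal A) (ψ c hc k ∘ₗ φ c hc k) i =
          H4LC.Hmap (maximalIdeal A) (∑ k, ψ c hc k ∘ₗ φ c hc k) i :=
        (map_sum (H4LC.HmapHom (maximalIdeal A) M M i) _ _).symm
      rw [h1, e, H4LC.Hmap_smul_id]
    rw [← e', LinearMap.sum_apply]
    refine Submodule.sum_mem _ fun k _ => ?_
    rw [H4LC.Hmap_comp]
    exact Submodule.mem_iSup_of_mem ⟨c, hc⟩ (Submodule.mem_iSup_of_mem k ⟨_, rfl⟩)
  let K := T.attach.sup fun c => L c.1 c.2
  obtain ⟨S, hS⟩ := exists_pow_le_span (T := T) (K + R)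
  rw [hT] at hS
  refine finite_of_isArtinian_of_killed H S fun a ha x => ?_
  have := hS ha
  clear ha
  induction this using Submodule.span_induction with
  | mem a ha =>
    obtain ⟨c, hc, rfl⟩ := ha
    have hle : L c hc ≤ K := Finset.le_sup (f := fun c : T => L c.1 c.2) (Finset.mem_attach T ⟨c, hc⟩)
    obtain ⟨d, hd⟩ := Nat.exists_eq_add_of_le hle
    show c ^ (K + R) • x = 0
    have hw : (⟨_, hW c hc (c ^ d • x)⟩ : W) ∈ (⊤ : Submodule A W) := trivial
    have h0 := Submodule.smul_mem_smul (Ideal.pow_mem_pow (hT ▸ Ideal.subset_span hc : c ∈ maximalIdeal A) R) hw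
    rw [hR, Submodule.mem_bot] at h0
    have h1 := congrArg Subtype.val h0
    simp only [SetLike.val_smul, ZeroMemClass.coe_zero, smul_smul, ← pow_add] at h1
    rwa [show K + R = R + (L c hc + d) by omega]
  | zero => exact zero_smul _ _
  | add a b _ _ ha hb => rw [add_smul, ha, hb, add_zero]
  | smul t a _ ha => rw [smul_eq_mul, mul_smul, ha, smul_zero]

include hT in
/-- Sections are finite when a finite submodule has torsion cokernel and finite first cohomology. -/
theorem IsSat.finite (h : IsSat T G) (G' : Submodule A G) [Module.Finite A G']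
    (htor : ∀ x : G, ∀ c ∈ T, ∃ K : ℕ, c ^ K • x ∈ G')
    (h1 : Module.Finite A (LocCoh.H (maximalIdeal A) 1 G')) : Module.Finite A G := by
  let δ := H4LC.δH (maximalIdeal A) G'.subtype_injective G'.mkQ_surjective (LinearMap.exact_subtype_mkQ G') 0
  have hδ : Function.Injective δ := H4LC.δH_injective (maximalIdeal A) _ _ _ 0 (h.subsingleton_H_zero hT)
  have htop : DRing.torsionSub (maximalIdeal A) (G ⧸ G') = ⊤ := eq_top_iff.2 fun x _ => by
    obtain ⟨x, rfl⟩ := G'.mkQ_surjective x
    exact (mem_torsionSub_iff hT _).2 fun c hc => (htor x c hc).imp fun K hK => by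
      rw [← map_smul]; exact (Submodule.Quotient.mk_eq_zero _).2 hK
  haveI : Module.Finite A (LocCoh.H (maximalIdeal A) 0 (G ⧸ G')) := Module.Finite.of_injective δ hδ
  haveI : Module.Finite A (G ⧸ G') :=
    Module.Finite.equiv (((H4LC.zeroEquiv (maximalIdeal A) (G ⧸ G')).trans (LinearEquiv.ofEq _ _ htop)).trans
      Submodule.topEquiv)
  exact Module.Finite.of_submodule_quotient G'

end Groth.Agent.H11Alg
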