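import Groth.Agent.H11LefFEt.DualKill
import Groth.Agent.H23Para.Samuel.Quotient
import Groth.Agent.H11Alg.Torsion
import Groth.Agent.H4LC.Hiso

/-!
# A power of `f` makes the local cohomology of the truncations finite
-/

set_option autoImplicit false
set_option linter.style.haveILetI false

universe u

open IsLocalRing

namespace Groth.Agent.H11Alg

variable {A : Type u} [CommRing A] [IsNoetherianRing A] [IsLocalRing A]

/-- Away from `V(f)` and the closed curves, `H^i_m(A)` is killed for `i ≤ s`. -/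
theorem exists_kill (s : ℕ) (hd : ∃ ω : Dual.D A, Dual.IsDualizing A ω) (f : A) (hf : f ∈ maximalIdeal A)
    (h : ∀ p : Ideal A, ∀ _ : p.IsPrime, f ∉ p → (p ⊔ Ideal.span {f}).radical ≠ maximalIdeal A →
      (s : WithBot ℕ∞) < (LocCoh.depth (Localization.AtPrime p) (Localization.AtPrime p) : WithBot ℕ∞) + ringKrullDim (A ⧸ p)) :
    ∃ (k : ℕ) (J : Ideal A), maximalIdeal A ≤ (J ⊔ Ideal.span {f}).radical ∧
      ∀ a ∈ J, ∀ i ≤ s, ∀ x : LocCoh.H (maximalIdeal A) i A, (f ^ k * a) • x = 0 := by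
  let I : Ideal A :=
    { carrier := {a | ∀ i ≤ s, ∀ x : LocCoh.H (maximalIdeal A) i A, a • x = 0}
      add_mem' := fun ha hb i hi x => by rw [add_smul, ha i hi, hb i hi, add_zero]
      zero_mem' := fun i _ x => zero_smul _ _
      smul_mem' := fun c a ha i hi x => by rw [smul_eq_mul, mul_smul, ha i hi, smul_zero] }
  have hI : ∀ p : PrimeSpectrum A, I ≤ p.asIdeal → f ∉ p.asIdeal →
      ∀ q : PrimeSpectrum A, p.asIdeal ≤ q.asIdeal → f ∈ q.asIdeal → q = closedPoint A := by
    intro p hIp hfp q hpq hfq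
    by_contra hq
    have hqm : q.asIdeal ≠ maximalIdeal A := fun e => hq (PrimeSpectrum.ext e)
    obtain ⟨g, hgp, hg⟩ := S1765.result A hd (maximalIdeal A) A p (fun hle => hfp (hle hf)) s
      fun p' q' hp' hq' _ => by
        have hqc : q' = closedPoint A :=
          PrimeSpectrum.ext ((maximalIdeal.isMaximal A).eq_of_le q'.isPrime.ne_top hq').symm
        subst hqc
        obtain ⟨e⟩ := H4Depth.exists_localizedModule_self_equiv p'.asIdeal
        rw [H4Depth.depth_congr e, H11LefFEt.DualKill.krullDim_Icc_closedPoint]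
        refine h p'.asIdeal p'.isPrime (fun hfp' => hfp (hp' hfp')) fun hr => hqm
          (le_antisymm (le_maximalIdeal q.isPrime.ne_top) ?_)
        rw [← hr, q.isPrime.radical_le_iff]
        exact sup_le (le_trans hp' hpq) ((Ideal.span_singleton_le_iff_mem _).2 hfq)
    exact hgp (hIp hg)
  -- the saturation
  let J : Ideal A :=
    { carrier := {a | ∃ n : ℕ, f ^ n * a ∈ I}
      add_mem' := fun {a b} ha hb => by
        obtain ⟨n, hn⟩ := ha
        obtain ⟨m, hm⟩ := hb
        refine ⟨n + m, ?_⟩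
        rw [show f ^ (n + m) * (a + b) = f ^ m * (f ^ n * a) + f ^ n * (f ^ m * b) by rw [pow_add]; ring]
        exact add_mem (I.mul_mem_left _ hn) (I.mul_mem_left _ hm)
      zero_mem' := ⟨0, by rw [mul_zero]; exact zero_mem _⟩
      smul_mem' := fun c a ha => ha.imp fun n hn => by
        rw [smul_eq_mul, mul_left_comm]; exact I.mul_mem_left _ hn }
  have hIJ : I ≤ J := fun a ha => ⟨0, by rwa [pow_zero, one_mul]⟩
  obtain ⟨S, hS⟩ : J.FG := J.fg_of_isNoetherianRing
  have hk : ∀ a ∈ J, ∃ n : ℕ, f ^ n * a ∈ I := fun a ha => ha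
  choose n hn using hk
  let k := S.attach.sup fun a => n a.1 (hS ▸ Ideal.subset_span a.2)
  have hfJ : ∀ a ∈ J, f ^ k * a ∈ I := by
    intro a ha
    rw [← hS] at ha
    induction ha using Submodule.span_induction with
    | mem a ha =>
      have hle : n a (hS ▸ Ideal.subset_span ha) ≤ k :=
        Finset.le_sup (f := fun a : S => n a.1 (hS ▸ Ideal.subset_span a.2)) (Finset.mem_attach S ⟨a, ha⟩)
      obtain ⟨d, hd'⟩ := Nat.exists_eq_add_of_le hle
      rw [hd', pow_add, mul_comm (f ^ _), mul_assoc]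
      exact I.mul_mem_left _ (hn a _)
    | zero => rw [mul_zero]; exact zero_mem _
    | add a b _ _ ha hb => rw [mul_add]; exact add_mem ha hb
    | smul c a _ ha => rw [smul_eq_mul, mul_left_comm]; exact I.mul_mem_left _ ha
  refine ⟨k, J, ?_, fun a ha i hi x => hfJ a ha i hi x⟩
  rw [Ideal.radical_eq_sInf]
  refine le_sInf fun q hq => ?_
  obtain ⟨hle, hqp⟩ := hq
  haveI := hqp
  have hfq : f ∈ q := hle (le_sup_right (a := J) (Ideal.mem_span_singleton_self f))
  obtain ⟨P, hP, hPq⟩ := Ideal.exists_minimalPrimes_le (I := J) (le_sup_left.trans hle)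
  haveI := hP.1.1
  have hfP : f ∉ P := fun hfP => by
    obtain ⟨y, hy, hfy⟩ := Ideal.exists_mul_mem_of_mem_minimalPrimes hP hfP
    obtain ⟨m, hm⟩ := hfy
    exact hy ⟨m + 1, by rwa [pow_succ, mul_assoc]⟩
  exact (congrArg PrimeSpectrum.asIdeal (hI ⟨P, hP.1.1⟩ (hIJ.trans hP.1.2) hfP ⟨q, hqp⟩ hPq hfq)).ge

/-- Away from `V(f)` and the closed curves, `H^i_m(A)` is killed for `i ≤ 3`. -/
theorem exists_kill_three (hd : ∃ ω : Dual.D A, Dual.IsDualizing A ω) (f : A) (hf : f ∈ maximalIdeal A)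
    (h : ∀ p : Ideal A, ∀ _ : p.IsPrime, f ∉ p → (p ⊔ Ideal.span {f}).radical ≠ maximalIdeal A →
      (3 : WithBot ℕ∞) < (LocCoh.depth (Localization.AtPrime p) (Localization.AtPrime p) : WithBot ℕ∞) + ringKrullDim (A ⧸ p)) :
    ∃ (k : ℕ) (J : Ideal A), maximalIdeal A ≤ (J ⊔ Ideal.span {f}).radical ∧
      ∀ a ∈ J, ∀ i ≤ 3, ∀ x : LocCoh.H (maximalIdeal A) i A, (f ^ k * a) • x = 0 :=
  exists_kill 3 hd f hf h

variable {T : Finset A}

/-- The image of `f ^ K` on `H^i_m(A ⧸ f ^ e)` is finite for `i < s`. -/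
theorem exists_finite_range_H' (s : ℕ) (hd : ∃ ω : Dual.D A, Dual.IsDualizing A ω) (f : A) (hf : f ∈ maximalIdeal A)
    (hnz : f ∈ nonZeroDivisors A)
    (h : ∀ p : Ideal A, ∀ _ : p.IsPrime, f ∉ p → (p ⊔ Ideal.span {f}).radical ≠ maximalIdeal A →
      (s : WithBot ℕ∞) < (LocCoh.depth (Localization.AtPrime p) (Localization.AtPrime p) : WithBot ℕ∞) + ringKrullDim (A ⧸ p)) :
    ∃ K : ℕ, ∀ i < s, ∀ e : ℕ, Module.Finite A
      (LinearMap.range (LinearMap.lsmul A (LocCoh.H (maximalIdeal A) i (A ⧸ Ideal.span {f} ^ e)) (f ^ K))) := by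
  obtain ⟨k, J, hJ, hkill⟩ := exists_kill s hd f hf h
  refine ⟨k + k, fun i hi e => ?_⟩
  let Q := A ⧸ Ideal.span {f} ^ e
  let H := LocCoh.H (maximalIdeal A) i Q
  let μ : A →ₗ[A] A := f ^ e • LinearMap.id
  let π : A →ₗ[A] Q := Submodule.mkQ (Ideal.span {f} ^ e)
  have hμ : Function.Injective μ := fun a b hab => (mul_cancel_left_mem_nonZeroDivisors (pow_mem hnz e)).1 hab
  have hπ : Function.Surjective π := Submodule.mkQ_surjective _
  have hex : Function.Exact μ π := fun y => by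
    show Submodule.Quotient.mk y = 0 ↔ _
    rw [Submodule.Quotient.mk_eq_zero, Ideal.span_singleton_pow, Ideal.mem_span_singleton']
    exact exists_congr fun a => by
      show a * f ^ e = y ↔ f ^ e • a = y
      rw [smul_eq_mul, mul_comm]
  -- two factors kill
  have h2 : ∀ a ∈ J, ∀ b ∈ J, ∀ x : H, (f ^ (k + k) * (a * b)) • x = 0 := by
    intro a ha b hb x
    let δ := H4LC.δH (maximalIdeal A) hμ hπ hex i
    have h1 : δ ((f ^ k * a) • x) = 0 := by
      rw [map_smul]; exact hkill a ha (i + 1) (by omega) _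
    obtain ⟨y, hy⟩ := (H4LC.exactH₃ (maximalIdeal A) hμ hπ hex i _).1 h1
    rw [show f ^ (k + k) * (a * b) = f ^ k * b * (f ^ k * a) by rw [pow_add]; ring, mul_smul, ← hy, ← map_smul,
      hkill b hb i (by omega) y, map_zero]
  have he : ∀ x : H, f ^ e • x = 0 := fun x => by
    rw [← H4LC.Hmap_smul_id (maximalIdeal A) Q (f ^ e) i x,
      show (f ^ e • LinearMap.id : Q →ₗ[A] Q) = 0 from Submodule.linearMap_qext _ (LinearMap.ext fun a => by
        show f ^ e • π a = 0
        rw [← map_smul]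
        exact (Submodule.Quotient.mk_eq_zero _).2 (by
          rw [Ideal.span_singleton_pow, smul_eq_mul]
          exact Ideal.mul_mem_right _ _ (Ideal.mem_span_singleton_self _))),
      ← zero_smul A (LinearMap.id : Q →ₗ[A] Q), H4LC.Hmap_smul_id, zero_smul]
  let K : Ideal A := J * J ⊔ Ideal.span {f ^ e}
  obtain ⟨S, hS⟩ := Ideal.exists_pow_le_of_le_radical_of_fg (I := maximalIdeal A) (J := K) (fun x hx => by
    have hmax : maximalIdeal A ≤ K.radical := by
      refine hJ.trans (Ideal.radical_le_radical_iff.2 (sup_le (fun a ha => ?_) ?_))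
      · exact ⟨2, le_sup_left (b := Ideal.span {f ^ e}) (by rw [sq]; exact Ideal.mul_mem_mul ha ha)⟩
      · rw [Ideal.span_singleton_le_iff_mem]
        exact ⟨e, le_sup_right (a := J * J) (Ideal.mem_span_singleton_self _)⟩
    exact hmax hx) (maximalIdeal A).fg_of_isNoetherianRing
  haveI : IsArtinian A H := H4LC.isArtinian_H i Q
  refine finite_of_isArtinian_of_killed _ S ?_
  rintro a ha ⟨_, x, rfl⟩
  refine Subtype.ext ?_
  show a • f ^ (k + k) • x = 0
  obtain ⟨u, hu, w, hw, rfl⟩ := Submodule.mem_sup.1 (hS ha)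
  obtain ⟨c, rfl⟩ := Ideal.mem_span_singleton'.1 hw
  have hu' : u • f ^ (k + k) • x = 0 := by
    clear ha
    induction hu using Submodule.mul_induction_on' with
    | mem_mul_mem a ha b hb => rw [smul_smul, mul_comm]; exact h2 a ha b hb x
    | add a _ b _ ha hb => rw [add_smul, ha, hb, add_zero]
  rw [add_smul, hu', mul_smul, smul_comm (f ^ e), he, smul_zero, smul_zero, add_zero]

/-- The image of `f ^ K` on `H^i_m(A ⧸ f ^ e)` is finite for `i ≤ 2`. -/
theorem exists_finite_range_H (hd : ∃ ω : Dual.D A, Dual.IsDualizing A ω) (f : A) (hf : f ∈ maximalIdeal A)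
    (hnz : f ∈ nonZeroDivisors A)
    (h : ∀ p : Ideal A, ∀ _ : p.IsPrime, f ∉ p → (p ⊔ Ideal.span {f}).radical ≠ maximalIdeal A →
      (3 : WithBot ℕ∞) < (LocCoh.depth (Localization.AtPrime p) (Localization.AtPrime p) : WithBot ℕ∞) + ringKrullDim (A ⧸ p)) :
    ∃ K : ℕ, ∀ i ≤ 2, ∀ e : ℕ, Module.Finite A
      (LinearMap.range (LinearMap.lsmul A (LocCoh.H (maximalIdeal A) i (A ⧸ Ideal.span {f} ^ e)) (f ^ K))) :=
  (exists_finite_range_H' 3 hd f hf hnz h).imp fun _ hK i hi => hK i (by omega)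

end Groth.Agent.H11Alg
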