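import Groth.Agent.H11Alg.Clopen
import Groth.Agent.H11Alg.Kill
import Groth.Agent.H4DR.Dualizing.FiniteMap
import Groth.Agent.H11Curve.NormalTotal
import Groth.Agent.H24Adic.Rig
import Groth.Agent.H4LC.Hiso

/-!
# Separation of clopen pieces under dimension hypotheses
-/

set_option autoImplicit false
set_option linter.style.haveILetI false
set_option backward.isDefEq.respectTransparency false

universe u

open CategoryTheory CategoryTheory.Limits AlgebraicGeometry TopologicalSpace IsLocalRing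

namespace Groth.Agent.H11Alg

/-- Finite first cohomology of the hypersurface suffices. -/
theorem hasSep_of_finite {A : Type u} [CommRing A] [IsNoetherianRing A] [IsLocalRing A] (f : A)
    [IsAdicComplete (Ideal.span {f}) A] (hnz : f ∈ nonZeroDivisors A)
    (h1 : Module.Finite A (LocCoh.H (maximalIdeal A) 1 (A ⧸ Ideal.span {f}))) : HasSep A f := by
  refine hasSep_of_bound f hnz 0 ?_
  haveI : Module.Finite A (LocCoh.H (maximalIdeal A) 1 (A ⧸ Ideal.span {f} ^ (0 + 1))) := by
    obtain ⟨e⟩ := H4LC.nonempty_H_congr (maximalIdeal A) (Submodule.quotEquivOfEq (Ideal.span {f}) (Ideal.span {f} ^ (0 + 1)) (by rw [zero_add, pow_one])) 1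
    exact Module.Finite.equiv e
  infer_instance

/-- The closure of a point whose trace on `V(f)` is not only the closed point has dimension at least two. -/
theorem two_le_dim_quotient {A : Type u} [CommRing A] [IsNoetherianRing A] [IsLocalRing A] {f : A}
    (hf : f ∈ maximalIdeal A) (p : Ideal A) [hp : p.IsPrime] (hfp : f ∉ p)
    (hr : (p ⊔ Ideal.span {f}).radical ≠ maximalIdeal A) : (2 : WithBot ℕ∞) ≤ ringKrullDim (A ⧸ p) := by
  by_contra hb2
  have hdim1 : ringKrullDim (A ⧸ p) ≤ 1 := by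
    haveI : Nontrivial (A ⧸ p) := Ideal.Quotient.nontrivial_iff.2 hp.ne_top
    generalize hδ : ringKrullDim (A ⧸ p) = δ at hb2 ⊢
    induction δ using WithBot.recBotCoe with
    | bot => exact bot_le
    | coe δ =>
      induction δ using ENat.recTopCoe with
      | top => exact absurd (WithBot.coe_le_coe.2 (le_top : (2 : ℕ∞) ≤ ⊤)) hb2
      | coe d =>
        have : ¬ (2 ≤ d) := fun h => hb2 (WithBot.coe_le_coe.2 (show ((2 : ℕ) : ℕ∞) ≤ (d : ℕ∞) from Nat.cast_le.2 h))
        exact_mod_cast (show d ≤ 1 by omega)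
  haveI : Ring.KrullDimLE 1 (A ⧸ p) := Ring.krullDimLE_iff.2 hdim1
  refine hr (le_antisymm (le_maximalIdeal fun htop => ?_) ?_)
  · exact (maximalIdeal.isMaximal A).ne_top (top_le_iff.1 ((Ideal.radical_eq_top.1 htop).symm.trans_le
      (sup_le (le_maximalIdeal hp.ne_top) ((Ideal.span_singleton_le_iff_mem _).2 hf))))
  · rw [Ideal.radical_eq_sInf]
    refine le_sInf fun q hq => ?_
    obtain ⟨hle', hq'⟩ := hq
    haveI := hq'
    haveI : (q.map (Ideal.Quotient.mk p)).IsPrime := Ideal.map_isPrime_of_surjective Ideal.Quotient.mk_surjective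
      (by rw [Ideal.mk_ker]; exact le_sup_left.trans hle')
    have hne : q.map (Ideal.Quotient.mk p) ≠ ⊥ := fun h0 => hfp (by
      have h1 := Ideal.mem_map_of_mem (Ideal.Quotient.mk p) (hle' (Submodule.mem_sup_right (Ideal.mem_span_singleton_self f)))
      rw [h0, Ideal.mem_bot, Ideal.Quotient.eq_zero_iff_mem] at h1
      exact h1)
    haveI := Ring.krullDimLE_one_iff_of_isPrime_bot.1 ‹Ring.KrullDimLE 1 (A ⧸ p)› (q.map (Ideal.Quotient.mk p)) hne inferInstance
    haveI : q.IsMaximal := by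
      have h1 := Ideal.comap_isMaximal_of_surjective (Ideal.Quotient.mk p) Ideal.Quotient.mk_surjective
        (K := q.map (Ideal.Quotient.mk p))
      rwa [Ideal.comap_map_of_surjective _ Ideal.Quotient.mk_surjective, ← RingHom.ker_eq_comap_bot, Ideal.mk_ker,
        sup_eq_left.2 (le_sup_left.trans hle')] at h1
    exact (IsLocalRing.eq_maximalIdeal ‹q.IsMaximal›).ge

/-- A reduced ring with components of dimension at least three has bounded `f`-multiples of `H¹`. -/
theorem hasSep_of_reduced {A : Type u} [CommRing A] [IsNoetherianRing A] [IsLocalRing A] [_root_.IsReduced A]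
    (f : A) (hf : f ∈ maximalIdeal A) (hd : ∃ ω : Dual.D A, Dual.IsDualizing A ω)
    [IsAdicComplete (Ideal.span {f}) A] (hnz : f ∈ nonZeroDivisors A)
    (hdim : ∀ p : Ideal A, p ∈ minimalPrimes A → (3 : WithBot ℕ∞) ≤ ringKrullDim (A ⧸ p)) : HasSep A f := by
  obtain ⟨K, hK⟩ := exists_finite_range_H' 2 hd f hf hnz fun p hp hfp hr => by
    have h0 : (0 : WithBot ℕ∞) ≤ (LocCoh.depth (Localization.AtPrime p) (Localization.AtPrime p) : WithBot ℕ∞) :=
      WithBot.coe_le_coe.2 (zero_le (a := LocCoh.depth (Localization.AtPrime p) (Localization.AtPrime p)))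
    by_cases hmin : p ∈ minimalPrimes A
    · exact lt_of_lt_of_le (by norm_num) ((hdim p hmin).trans (le_add_of_nonneg_left h0))
    · haveI : _root_.IsReduced (Localization.AtPrime p) :=
        isReduced_localizationPreserves p.primeCompl (Localization.AtPrime p) inferInstance
      have h1 : (1 : ℕ∞) ≤ LocCoh.depth (Localization.AtPrime p) (Localization.AtPrime p) := by
        refine (H17.ZDepth.one_le_depth_iff _).2 fun hass => hmin ?_
        have hm := H1CAlg.hasSk_one_self_iff.1 (H1CAlg.isReduced_iff_R0_S1.1 ‹_›).2 _ hass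
        refine Ideal.height_eq_zero_iff.1 ?_
        have h0 := IsLocalization.AtPrime.ringKrullDim_eq_height p (Localization.AtPrime p)
        rw [← IsLocalRing.maximalIdeal_height_eq_ringKrullDim, Ideal.height_eq_zero_iff.2 hm] at h0
        exact_mod_cast h0.symm
      exact lt_of_lt_of_le (by norm_num) (add_le_add (WithBot.coe_le_coe.2 h1) (two_le_dim_quotient hf p hfp hr))
  exact hasSep_of_bound f hnz K (hK 1 one_lt_two (K + 1))

/-- Separation passes from a quotient carrying every point off `V(f)`. -/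
theorem hasSep_of_quotient {A : Type u} [CommRing A] [IsLocalRing A] (f : A) (I : Ideal A)
    [IsLocalRing (A ⧸ I)] (hI : ∀ P : Ideal A, ∀ _ : P.IsPrime, f ∉ P → I ≤ P)
    (h : HasSep (A ⧸ I) (Ideal.Quotient.mk I f)) : HasSep A f := by
  intro U' hU hmem Z q _ _ C₁ C₂ hC₁ hC₂ hdisj hC
  let π := Ideal.Quotient.mk I
  let σ := Spec.map (CommRingCat.ofHom π)
  haveI : IsClosedImmersion σ := IsClosedImmersion.spec_of_surjective _ Ideal.Quotient.mk_surjective
  haveI : IsLocalHom π := IsLocalHom.of_surjective π Ideal.Quotient.mk_surjective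
  have hσm : ∀ P, σ P = closedPoint A ↔ P = closedPoint (A ⧸ I) := fun P => by
    have hm : σ (closedPoint (A ⧸ I)) = closedPoint A := IsLocalRing.comap_closedPoint π
    exact ⟨fun e => σ.isClosedEmbedding.injective (e.trans hm.symm), fun e => e ▸ hm⟩
  let U'' := σ ⁻¹ᵁ U'
  let ι := pullback.fst q (σ ∣_ U')
  haveI : IsClosedImmersion ι := MorphismProperty.pullback_fst _ _ inferInstance
  haveI : IsFinite (pullback.snd q (σ ∣_ U')) := MorphismProperty.pullback_snd _ _ inferInstance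
  have hpt : ∀ z : ↥(pullback q (σ ∣_ U')),
      U'.ι (q (ι z)) = σ (U''.ι (pullback.snd q (σ ∣_ U') z)) := fun z => by
    show (ι ≫ q ≫ U'.ι) z = (pullback.snd q (σ ∣_ U') ≫ U''.ι ≫ σ) z
    rw [pullback.condition_assoc, morphismRestrict_ι]
  obtain ⟨O₁', O₂', hd', h₁, h₂⟩ := h U'' (fun P hP e => hU hP ((hσm P).2 e))
    (fun P hP hfP => hmem (σ P) (fun e => hP ((hσm P).1 e)) hfP) _ (pullback.snd q (σ ∣_ U'))
    (ι ⁻¹' C₁) (ι ⁻¹' C₂) (hC₁.preimage ι.continuous) (hC₂.preimage ι.continuous) (hdisj.preimage ι) (by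
      rw [← Set.preimage_union, hC]
      ext z
      show f ∈ (U'.ι (q (ι z))).asIdeal ↔ _
      rw [hpt]
      exact Iff.rfl)
  let D₁ : Set Z := ι '' (O₁' : Set _)ᶜ ∪ C₂
  let D₂ : Set Z := ι '' (O₂' : Set _)ᶜ ∪ C₁
  refine ⟨⟨D₁ᶜ, ((ι.isClosedEmbedding.isClosedMap _ O₁'.2.isClosed_compl).union hC₂).isOpen_compl⟩,
    ⟨D₂ᶜ, ((ι.isClosedEmbedding.isClosedMap _ O₂'.2.isClosed_compl).union hC₁).isOpen_compl⟩, ?_, ?_, ?_⟩
  · refine Set.disjoint_left.2 fun z hz₁ hz₂ => ?_
    have hf' : f ∉ (U'.ι (q z)).asIdeal := fun hf' => by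
      rcases (hC.ge hf' : z ∈ C₁ ∪ C₂) with hz | hz
      · exact hz₂ (Or.inr hz)
      · exact hz₁ (Or.inr hz)
    obtain ⟨P', hP'⟩ := (range_comap_of_surjective _ π Ideal.Quotient.mk_surjective).ge
      (show U'.ι (q z) ∈ PrimeSpectrum.zeroLocus (RingHom.ker π : Set A) by
        rw [PrimeSpectrum.mem_zeroLocus, Ideal.mk_ker]
        exact hI _ (U'.ι (q z)).2 hf')
    replace hP' : σ P' = U'.ι (q z) := hP'
    have hz : z ∈ Set.range ι := by
      show z ∈ Set.range (pullback.fst q (σ ∣_ U'))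
      rw [Scheme.Pullback.range_fst]
      refine ⟨⟨P', show σ P' ∈ U' from hP' ▸ (q z).2⟩, U'.ι.isOpenEmbedding.injective ?_⟩
      rw [← Scheme.Hom.comp_apply, morphismRestrict_ι]
      exact hP'
    obtain ⟨z', rfl⟩ := hz
    exact Set.disjoint_left.1 hd' (not_not.1 fun h => hz₁ (Or.inl ⟨z', h, rfl⟩))
      (not_not.1 fun h => hz₂ (Or.inl ⟨z', h, rfl⟩))
  · rintro z hz (⟨z', hz', rfl⟩ | hz₂)
    · exact hz' (h₁ hz)
    · exact Set.disjoint_left.1 hdisj hz hz₂
  · rintro z hz (⟨z', hz', rfl⟩ | hz₂)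
    · exact hz' (h₂ hz)
    · exact Set.disjoint_left.1 hdisj hz₂ hz

/-- Separation under a dualizing complex and the dimension bound on the components off `V(f)`. -/
theorem hasSep_of_dualizing {A : Type u} [CommRing A] [IsNoetherianRing A] [IsLocalRing A] (f : A)
    (hf : f ∈ maximalIdeal A) (hd : ∃ ω : Dual.D A, Dual.IsDualizing A ω) [IsAdicComplete (Ideal.span {f}) A]
    (hc : ∀ p : Ideal A, p ∈ minimalPrimes A → f ∉ p → (3 : WithBot ℕ∞) ≤ ringKrullDim (A ⧸ p)) :
    HasSep A f := by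
  by_cases hnil : IsNilpotent f
  · intro U' _ _ Z q _ _ C₁ C₂ hC₁ hC₂ hdisj hC
    have huniv : C₁ ∪ C₂ = Set.univ := Set.eq_univ_of_forall fun z => hC.ge (by
      obtain ⟨n, hn⟩ := hnil
      exact (U'.ι (q z)).2.mem_of_pow_mem n (hn ▸ zero_mem _))
    exact ⟨⟨C₂ᶜ, hC₂.isOpen_compl⟩, ⟨C₁ᶜ, hC₁.isOpen_compl⟩,
      Set.disjoint_left.2 fun z h₁ h₂ => (huniv.ge (Set.mem_univ z)).elim h₂ h₁,
      fun z hz => Set.disjoint_left.1 hdisj hz, fun z hz => Set.disjoint_right.1 hdisj hz⟩
  let I : Ideal A :=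
    { carrier := {a | f * a ∈ nilradical A}
      add_mem' := fun {a b} ha hb => by rw [Set.mem_setOf_eq, mul_add]; exact add_mem ha hb
      zero_mem' := by rw [Set.mem_setOf_eq, mul_zero]; exact zero_mem _
      smul_mem' := fun c a ha => by
        rw [Set.mem_setOf_eq, smul_eq_mul, mul_left_comm]; exact (nilradical A).mul_mem_left _ ha }
  have hImem : ∀ a, a ∈ I ↔ IsNilpotent (f * a) := fun a => mem_nilradical
  have hI : I ≠ ⊤ := fun h => hnil (by simpa using (hImem 1).1 (h ▸ Submodule.mem_top))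
  have hIP : ∀ P : Ideal A, ∀ _ : P.IsPrime, f ∉ P → I ≤ P := fun P hP hfP a ha => by
    obtain ⟨n, hn⟩ := (hImem a).1 ha
    exact (hP.mem_or_mem (hP.mem_of_pow_mem n (hn ▸ zero_mem _))).resolve_left hfP
  let A' := A ⧸ I
  let π := Ideal.Quotient.mk I
  haveI : Nontrivial A' := Ideal.Quotient.nontrivial_iff.2 hI
  haveI : IsLocalRing A' := .of_surjective' π Ideal.Quotient.mk_surjective
  haveI : _root_.IsReduced A' := (Ideal.isRadical_iff_quotient_reduced I).1 fun a ha => by
    obtain ⟨n, hn⟩ := Ideal.mem_radical_iff.1 ha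
    obtain ⟨k, hk⟩ := (hImem _).1 hn
    refine (hImem a).2 ⟨(n + 1) * k, ?_⟩
    rw [pow_mul, show (f * a) ^ (n + 1) = f * a ^ n * (f ^ n * a) by ring, mul_pow, hk, zero_mul]
  have hnz : π f ∈ nonZeroDivisors A' := mem_nonZeroDivisors_iff_right.2 fun z hz => by
    obtain ⟨a, rfl⟩ := Ideal.Quotient.mk_surjective z
    rw [← map_mul, Ideal.Quotient.eq_zero_iff_mem, hImem] at hz
    obtain ⟨k, hk⟩ := hz
    refine Ideal.Quotient.eq_zero_iff_mem.2 ((hImem a).2 ⟨k + k, ?_⟩)
    rw [show (f * a) ^ (k + k) = (f * (a * f)) ^ k * a ^ k by ring, hk, zero_mul]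
  have hm : (maximalIdeal A).map π = maximalIdeal A' :=
    IsLocalRing.map_maximalIdeal_of_surjective _ Ideal.Quotient.mk_surjective
  haveI : IsAdicComplete (Ideal.span {π f}) A' := by
    have h := H24Adic.isAdicComplete_map_quotient (I := Ideal.span {f}) I
    rwa [Ideal.map_span, Set.image_singleton] at h
  obtain ⟨ω, hω⟩ := hd
  refine hasSep_of_quotient f I hIP (hasSep_of_reduced (π f) (hm ▸ Ideal.mem_map_of_mem π hf)
    (H4DR.Dualizing.exists_isDualizing_finite π (RingHom.Finite.of_surjective π Ideal.Quotient.mk_surjective) hω)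
    hnz fun p' hp' => ?_)
  haveI := hp'.isPrime
  have hfp' : π f ∉ p' := fun h =>
    Set.disjoint_left.1 (Ideal.disjoint_nonZeroDivisors_of_mem_minimalPrimes hp') h hnz
  let p := p'.comap π
  obtain ⟨p₀, hp₀, hle⟩ := Ideal.exists_minimalPrimes_le (I := (⊥ : Ideal A)) (J := p) bot_le
  haveI := hp₀.isPrime
  have hIp₀ : I ≤ p₀ := hIP p₀ inferInstance fun h => hfp' (hle h)
  haveI : (p₀.map π).IsPrime := Ideal.map_isPrime_of_surjective Ideal.Quotient.mk_surjective (by rw [Ideal.mk_ker]; exact hIp₀)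
  have hle' : p₀.map π ≤ p' := Ideal.map_le_iff_le_comap.2 hle
  have heq : p₀.map π = p' := le_antisymm hle' (hp'.2 ⟨inferInstance, bot_le⟩ hle')
  have hmin := hc p₀ hp₀ fun h => hfp' (hle h)
  refine hmin.trans (le_of_eq (ringKrullDim_eq_of_ringEquiv ?_))
  exact ((DoubleQuot.quotQuotEquivQuotOfLE hIp₀).symm.trans (Ideal.quotEquivOfEq heq))

end Groth.Agent.H11Alg
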