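import Groth.Agent.H11Alg.FullFaith
import Groth.Agent.H11Alg.Sep
import Groth.Agent.H18Pur.Pair.Descent
import Groth.Agent.H18Pur.Formal.Purity
import Groth.Agent.H4LC.FiniteH1
import Groth.Agent.H4LC.HLVT
import Groth.Agent.H9CI.RegLocal
import Groth.Agent.H13CI.Regular
import Groth.Agent.H4DR.Dualizing.Gorenstein
import Groth.Agent.S0238
import Groth.Agent.S0239
import Groth.Prelude.Def_SGA2

/-!
# Purity rises from the quotient by a regular element

A cover of the punctured spectrum agrees near `V(t)` with the lift of its restriction, and the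
points off a neighbourhood of `V(t)` have depth at least two.
-/

set_option autoImplicit false
set_option linter.style.haveILetI false
set_option backward.isDefEq.respectTransparency false

universe u

open CategoryTheory CategoryTheory.Limits AlgebraicGeometry TopologicalSpace IsLocalRing

namespace Groth.Agent.H11Alg.PurePair

/-- Restriction along isomorphisms. -/
theorem isEquivalence_of_isIso {X Y : Scheme.{u}} (a : X ⟶ Y) [IsIso a] : (FEt.restrict a).IsEquivalence :=
  S0238.result a

/-- Restriction along a composite of two equivalences. -/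
theorem isEquivalence_comp {X Y S : Scheme.{u}} (a : X ⟶ Y) (b : Y ⟶ S) (c : X ⟶ S) (h : c = a ≫ b)
    [(FEt.restrict a).IsEquivalence] [(FEt.restrict b).IsEquivalence] : (FEt.restrict c).IsEquivalence :=
  Functor.isEquivalence_of_iso (show FEt.restrict b ⋙ FEt.restrict a ≅ FEt.restrict c from
    (MorphismProperty.Over.pullbackComp (P := FEt.prop.{u}) (Q := ⊤) a b c h).symm)

/-- Purity of the pair at the closed point is restriction to the punctured spectrum. -/
theorem isPurePair_iff (A : Type u) [CommRing A] [IsLocalRing A] :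
    SGA2.IsPurePair (Spec (CommRingCat.of A)) (FEt.puncturedSpec A) ↔
      (FEt.restrict (FEt.puncturedSpec A).ι).IsEquivalence := by
  let X := Spec (CommRingCat.of A)
  let U := FEt.puncturedSpec A
  constructor
  · intro h
    haveI := h ⊤
    haveI := isEquivalence_of_isIso X.topIso.hom
    let σ : (U : Scheme.{u}) ⟶ ((⊤ ⊓ U : X.Opens) : Scheme.{u}) := X.homOfLE (le_inf le_top le_rfl)
    haveI : IsIso σ := by
      refine ⟨X.homOfLE inf_le_right, ?_, ?_⟩
      · simp only [σ, Scheme.homOfLE_homOfLE, Scheme.homOfLE_rfl]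
      · simp only [σ, Scheme.homOfLE_homOfLE, Scheme.homOfLE_rfl]
    haveI := isEquivalence_of_isIso σ
    let b := X.homOfLE (inf_le_left : (⊤ : X.Opens) ⊓ U ≤ ⊤)
    haveI := isEquivalence_comp b X.topIso.hom (b ≫ X.topIso.hom) rfl
    exact isEquivalence_comp σ (b ≫ X.topIso.hom) U.ι (by
      simp only [σ, b, Scheme.topIso_hom, Scheme.homOfLE_ι])
  · intro h V
    by_cases hV : closedPoint A ∈ V
    · obtain rfl : V = ⊤ := (IsLocalRing.closed_point_mem_iff (U := V)).1 hV
      haveI := h
      haveI := isEquivalence_of_isIso X.topIso.inv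
      let σ : ((⊤ ⊓ U : X.Opens) : Scheme.{u}) ⟶ (U : Scheme.{u}) := X.homOfLE inf_le_right
      haveI : IsIso σ := by
        refine ⟨X.homOfLE (le_inf le_top le_rfl), ?_, ?_⟩
        · simp only [σ, Scheme.homOfLE_homOfLE, Scheme.homOfLE_rfl]
        · simp only [σ, Scheme.homOfLE_homOfLE, Scheme.homOfLE_rfl]
      haveI := isEquivalence_of_isIso σ
      haveI := isEquivalence_comp σ U.ι (σ ≫ U.ι) rfl
      exact isEquivalence_comp (σ ≫ U.ι) X.topIso.inv _ (by
        rw [← cancel_mono X.topIso.hom]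
        simp only [σ, Category.assoc, Iso.inv_hom_id, Category.comp_id]
        simp only [Scheme.topIso_hom, Scheme.homOfLE_ι]
        exact X.homOfLE_ι _)
    · have hle : V ≤ V ⊓ U := le_inf le_rfl fun P hP (h : P ∈ ({closedPoint A} : Set X)) => hV (h ▸ hP)
      haveI : IsIso (X.homOfLE (inf_le_left : V ⊓ U ≤ V)) := by
        refine ⟨X.homOfLE hle, ?_, ?_⟩ <;> simp only [Scheme.homOfLE_homOfLE, Scheme.homOfLE_rfl]
      exact isEquivalence_of_isIso _

variable {A : Type u} [CommRing A] [IsLocalRing A] [IsNoetherianRing A]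

/-- A closure of dimension at least two meets `V(t)` off the closed point. -/
theorem exists_prime_over (t : A) (ht : t ∈ maximalIdeal A) (p : Ideal A) [hp : p.IsPrime]
    (hd : (2 : WithBot ℕ∞) ≤ ringKrullDim (A ⧸ p)) :
    ∃ r : Ideal A, r.IsPrime ∧ p ≤ r ∧ t ∈ r ∧ r ≠ maximalIdeal A := by
  by_contra h
  push Not at h
  let D := A ⧸ p
  haveI : Nontrivial D := Ideal.Quotient.nontrivial_iff.2 hp.ne_top
  haveI : IsLocalRing D := .of_surjective' (Ideal.Quotient.mk p) Ideal.Quotient.mk_surjective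
  let τ : D := Ideal.Quotient.mk p t
  have hτ : τ ∈ maximalIdeal D := IsLocalRing.map_maximalIdeal_of_surjective (Ideal.Quotient.mk p)
    Ideal.Quotient.mk_surjective ▸ Ideal.mem_map_of_mem _ ht
  have h0 : ringKrullDim (D ⧸ Ideal.span ({τ} : Set D)) ≤ 0 := by
    rw [ringKrullDim_quotient]
    haveI : Subsingleton (PrimeSpectrum.zeroLocus (Ideal.span ({τ} : Set D) : Set D)) := by
      refine ⟨fun x y => Subtype.ext (PrimeSpectrum.ext ?_)⟩
      have key : ∀ z : PrimeSpectrum.zeroLocus (Ideal.span ({τ} : Set D) : Set D),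
          z.1.asIdeal.comap (Ideal.Quotient.mk p) = maximalIdeal A := fun z =>
        h _ inferInstance (fun a ha => by
          rw [Ideal.mem_comap, Ideal.Quotient.eq_zero_iff_mem.2 ha]; exact zero_mem _)
          (z.2 (Ideal.mem_span_singleton_self τ))
      exact Ideal.comap_injective_of_surjective _ Ideal.Quotient.mk_surjective ((key x).trans (key y).symm)
    exact Order.krullDim_nonpos_of_subsingleton
  have h1 := ringKrullDim_le_ringKrullDim_quotient_add_card (R := D) {τ} (by
    rw [IsLocalRing.ringJacobson_eq_maximalIdeal, Finset.coe_singleton, Set.singleton_subset_iff]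
    exact hτ)
  rw [Finset.coe_singleton, Finset.card_singleton] at h1
  have h3 : (2 : WithBot ℕ∞) ≤ 1 := hd.trans (h1.trans ((add_le_add h0 le_rfl).trans (by simp)))
  norm_num at h3

variable (hdepth : ∀ p : Ideal A, ∀ _ : p.IsPrime, ringKrullDim (A ⧸ p) = 1 →
  (2 : ℕ∞) ≤ LocCoh.depth (Localization.AtPrime p) (Localization.AtPrime p))

include hdepth in
/-- Points of dimension two have positive depth. -/
theorem depth_add_dim (p : Ideal A) [hp : p.IsPrime] (hd : (2 : WithBot ℕ∞) ≤ ringKrullDim (A ⧸ p)) :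
    (2 : WithBot ℕ∞) < (LocCoh.depth (Localization.AtPrime p) (Localization.AtPrime p) : WithBot ℕ∞) +
      ringKrullDim (A ⧸ p) := by
  have h0 : (0 : WithBot ℕ∞) ≤ (LocCoh.depth (Localization.AtPrime p) (Localization.AtPrime p) : WithBot ℕ∞) :=
    WithBot.coe_le_coe.2 (zero_le (a := LocCoh.depth (Localization.AtPrime p) (Localization.AtPrime p)))
  rcases hd.lt_or_eq with hlt | heq
  · exact lt_of_lt_of_le hlt (le_add_of_nonneg_left h0)
  suffices h1 : (1 : ℕ∞) ≤ LocCoh.depth (Localization.AtPrime p) (Localization.AtPrime p) from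
    lt_of_lt_of_le (by norm_num) (add_le_add (WithBot.coe_le_coe.2 h1) hd)
  obtain ⟨e⟩ := H4Depth.exists_localizedModule_self_equiv p
  rw [← H4Depth.depth_congr e]
  refine H4LC.one_le_depth_of_not_associated (M := A) (p := ⟨p, hp⟩) fun hass => ?_
  obtain ⟨q, hq, hpq, hq1⟩ := H4LC.exists_prime_dim_one p (le_trans (by norm_num) hd)
  haveI := hq
  have hlt : p < q := lt_of_le_of_ne hpq fun e => by
    rw [← e, ← heq] at hq1
    norm_num at hq1
  let R := Localization.AtPrime q
  have hdisj : Disjoint (q.primeCompl : Set A) (p : Set A) := Set.disjoint_left.2 fun a ha hap => ha (hpq hap)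
  let P : Ideal R := p.map (algebraMap A R)
  haveI : P.IsPrime := IsLocalization.isPrime_of_isPrime_disjoint q.primeCompl R p hp hdisj
  have hP : P.comap (algebraMap A R) = p := IsLocalization.under_map_of_isPrime_disjoint q.primeCompl R hp hdisj
  haveI : IsNoetherianRing R := IsLocalization.isNoetherianRing q.primeCompl R inferInstance
  have hPass : P ∈ associatedPrimes R R :=
    Module.associatedPrimes.mem_associatedPrimes_of_comap_mem_associatedPrimes_of_isLocalizedModule
      q.primeCompl (Algebra.linearMap A R) P (by rw [hP]; exact hass)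
  have h2 := (WithBot.coe_le_coe.2 (hdepth q hq hq1)).trans
    (H4Depth.depth_le_ringKrullDim_quotient_of_mem_associatedPrimes (R := R) (M := R) hPass)
  -- the localised closure is a curve
  let π := Ideal.Quotient.mk p
  haveI : (q.map π).IsPrime := Ideal.map_isPrime_of_surjective Ideal.Quotient.mk_surjective
    (by rw [Ideal.mk_ker]; exact hpq)
  obtain ⟨e₁⟩ := H13CI.exists_quotient_localization_equiv p q hpq
  rw [ringKrullDim_eq_of_ringEquiv e₁,
    IsLocalization.AtPrime.ringKrullDim_eq_height (q.map π) (Localization.AtPrime (q.map π))] at h2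
  haveI : Nontrivial (A ⧸ p) := Ideal.Quotient.nontrivial_iff.2 hp.ne_top
  haveI : IsLocalRing (A ⧸ p) := .of_surjective' π Ideal.Quotient.mk_surjective
  have hqm : q.map π < maximalIdeal (A ⧸ p) := by
    refine lt_of_le_of_ne (le_maximalIdeal ‹(q.map π).IsPrime›.ne_top) fun e => ?_
    have : q = maximalIdeal A := by
      refine ((maximalIdeal.isMaximal A).eq_of_le hq.ne_top fun a ha => ?_).symm
      have h' : π a ∈ q.map π := e ▸ (IsLocalRing.map_maximalIdeal_of_surjective π Ideal.Quotient.mk_surjective ▸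
        Ideal.mem_map_of_mem π ha)
      obtain ⟨b, hb, hba⟩ := (Ideal.mem_map_iff_of_surjective π Ideal.Quotient.mk_surjective).1 h'
      have := hpq (Ideal.Quotient.eq.1 hba)
      have h'' := q.sub_mem hb this
      rwa [sub_sub_cancel] at h''
    subst this
    rw [ringKrullDim_eq_zero_of_isField ((Ideal.Quotient.maximal_ideal_iff_isField_quotient _).1 inferInstance)] at hq1
    norm_num at hq1
  have h3 := Ideal.height_add_one_le_of_lt_of_isPrime hqm
  have h4 : ((maximalIdeal (A ⧸ p)).height : WithBot ℕ∞) = 2 :=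
    (IsLocalRing.maximalIdeal_height_eq_ringKrullDim).trans heq.symm
  have h4' : (maximalIdeal (A ⧸ p)).height = 2 := WithBot.coe_injective h4
  have h5 : (2 : ℕ∞) + 1 ≤ 2 := (add_le_add (WithBot.coe_le_coe.1 h2) le_rfl).trans (h3.trans h4'.le)
  norm_num at h5

include hdepth in
/-- The minimal primes have closures of dimension at least two. -/
theorem two_le_dim_minimal (t : A) (ht : t ∈ maximalIdeal A) (hnz : t ∈ nonZeroDivisors A) (p : Ideal A)
    (hp : p ∈ minimalPrimes A) : (2 : WithBot ℕ∞) ≤ ringKrullDim (A ⧸ p) := by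
  haveI := hp.isPrime
  have htp : t ∉ p := fun h => Set.disjoint_left.1 (Ideal.disjoint_nonZeroDivisors_of_mem_minimalPrimes hp) h hnz
  have hpm : p ≠ maximalIdeal A := fun e => htp (e ▸ ht)
  obtain ⟨b, hb⟩ : ∃ b : ℕ, ringKrullDim (A ⧸ p) = b := by
    haveI : Nontrivial (A ⧸ p) := Ideal.Quotient.nontrivial_iff.2 hp.isPrime.ne_top
    haveI : IsLocalRing (A ⧸ p) := .of_surjective' _ Ideal.Quotient.mk_surjective
    exact H9CI.exists_nat_dim _
  rw [hb]
  rcases b with _ | _ | b
  · exfalso
    haveI : Ring.KrullDimLE 0 (A ⧸ p) := Ring.krullDimLE_iff.2 hb.le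
    exact hpm (IsLocalRing.eq_maximalIdeal (Ideal.Quotient.maximal_of_isField p Ring.KrullDimLE.isField_of_isDomain))
  · exfalso
    have h2 := hdepth p inferInstance (by rw [hb]; norm_num)
    obtain ⟨P, hP⟩ := associatedPrimes.nonempty (Localization.AtPrime p) (Localization.AtPrime p)
    haveI := hP.isPrime
    have h3 := (WithBot.coe_le_coe.2 h2).trans
      ((H4Depth.depth_le_ringKrullDim_quotient_of_mem_associatedPrimes hP).trans
        (ringKrullDim_le_of_surjective (Ideal.Quotient.mk P) Ideal.Quotient.mk_surjective))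
    rw [IsLocalization.AtPrime.ringKrullDim_eq_height p (Localization.AtPrime p),
      Ideal.height_eq_zero_iff.2 hp] at h3
    exact absurd (WithBot.coe_le_coe.1 h3) (by norm_num)
  · exact_mod_cast (show 2 ≤ b + 1 + 1 by omega)

include hdepth in
set_option maxHeartbeats 1000000 in
/-- Purity rises from the quotient by a regular element. -/
theorem isPurePair_of_quotient (hd : ∃ ω : Dual.D A, Dual.IsDualizing A ω) (t : A) (ht : t ∈ maximalIdeal A)
    (hnz : t ∈ nonZeroDivisors A) [IsAdicComplete (Ideal.span {t}) A] [IsLocalRing (A ⧸ Ideal.span {t})]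
    (hB : SGA2.IsPurePair (Spec (CommRingCat.of (A ⧸ Ideal.span {t}))) (FEt.puncturedSpec (A ⧸ Ideal.span {t}))) :
    SGA2.IsPurePair (Spec (CommRingCat.of A)) (FEt.puncturedSpec A) := by
  rw [isPurePair_iff] at hB ⊢
  let X := Spec (CommRingCat.of A)
  let U := FEt.puncturedSpec A
  let q := Spec.map (CommRingCat.ofHom (Ideal.Quotient.mk (Ideal.span {t})))
  haveI : IsClosedImmersion q := IsClosedImmersion.spec_of_surjective _ Ideal.Quotient.mk_surjective
  let k := pullback.fst U.ι q
  haveI := hB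
  haveI : (FEt.restrict q).IsEquivalence := S0239.result A (Ideal.span {t})
  obtain ⟨k₁, hk₁⟩ := H18Pur.Formal.exists_isPullback_punctured A (Ideal.span {t})
  haveI := isEquivalence_of_isIso hk₁.isoPullback.inv
  haveI := isEquivalence_comp hk₁.isoPullback.inv (FEt.puncturedSpec (A ⧸ Ideal.span {t})).ι (pullback.snd U.ι q)
    hk₁.isoPullback_inv_snd.symm
  haveI := isEquivalence_comp (pullback.snd U.ι q) q (k ≫ U.ι) pullback.condition
  let F := FEt.restrict U.ι
  let G := FEt.restrict k
  haveI hFG : (F ⋙ G).IsEquivalence :=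
    Functor.isEquivalence_of_iso (show FEt.restrict (k ≫ U.ι) ≅ F ⋙ G from
      MorphismProperty.Over.pullbackComp (P := FEt.prop.{u}) (Q := ⊤) k U.ι (k ≫ U.ι) rfl)
  -- nonempty clopens meet the hypersurface
  have hmin : ∀ V : Set X, IsOpen V → V.Nonempty → ∃ p : X, p.asIdeal ∈ minimalPrimes A ∧ p ∈ V := fun V hV ⟨x, hx⟩ => by
    obtain ⟨p₀, hp₀, hle⟩ := Ideal.exists_minimalPrimes_le (I := (⊥ : Ideal A)) (J := x.asIdeal) bot_le
    exact ⟨⟨p₀, hp₀.isPrime⟩, hp₀, ((PrimeSpectrum.le_iff_specializes (⟨p₀, hp₀.isPrime⟩ : PrimeSpectrum A) x).1 hle).mem_open hV hx⟩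
  have hminU : ∀ p : X, p.asIdeal ∈ minimalPrimes A → p ∈ U := fun p hp (h : p ∈ ({closedPoint A} : Set X)) => by
    rw [Set.mem_singleton_iff] at h
    exact Set.disjoint_left.1 (Ideal.disjoint_nonZeroDivisors_of_mem_minimalPrimes hp) (h ▸ ht) hnz
  have hrk : ∀ x : (U : Scheme.{u}), t ∈ (U.ι x).asIdeal → x ∈ Set.range k := fun x hx => by
    show x ∈ Set.range (pullback.fst U.ι q)
    rw [Scheme.Pullback.range_fst]
    refine (range_comap_of_surjective _ _ Ideal.Quotient.mk_surjective).ge ?_
    rw [Ideal.mk_ker]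
    exact (Ideal.span_singleton_le_iff_mem _).2 hx
  have hmF : H18Et.FEtRestrict.MeetsClopens U.ι :=
    H18Et.FEtDepth.meetsClopens_of_dense U (dense_iff_inter_open.2 fun V hV hne => by
      obtain ⟨p, hp, hpV⟩ := hmin V hV hne
      exact ⟨p, hpV, hminU p hp⟩)
  have hmG : H18Et.FEtRestrict.MeetsClopens k := fun C hC hne => by
    obtain ⟨p, hp, x, hxC, hx⟩ := hmin (U.ι '' C) (U.ι.isOpenEmbedding.isOpenMap _ hC.2) (hne.image _)
    obtain ⟨r, hr, hpr, htr, hrm⟩ := exists_prime_over t ht p.asIdeal (two_le_dim_minimal hdepth t ht hnz p.asIdeal hp)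
    let y : (U : Scheme.{u}) := ⟨⟨r, hr⟩, fun e => hrm (congrArg PrimeSpectrum.asIdeal (Set.mem_singleton_iff.1 e))⟩
    refine ⟨y, ?_, hrk y htr⟩
    have hspec : x ⤳ y := by
      rw [← U.ι.isOpenEmbedding.isInducing.specializes_iff, hx]
      exact (PrimeSpectrum.le_iff_specializes p (⟨r, hr⟩ : PrimeSpectrum A)).1 hpr
    exact hspec.mem_closed hC.1 hxC
  haveI : F.Faithful := H18Et.FEtRestrict.faithful _ hmF
  haveI : G.Faithful := H18Et.FEtRestrict.faithful _ hmG
  haveI : G.ReflectsIsomorphisms := H18Et.FEtRestrict.reflectsIsomorphisms _ hmG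
  haveI : F.Full := Functor.Full.of_comp_faithful F G
  -- morphisms over the hypersurface extend
  have hsep : HasSep A t := by
    obtain ⟨K, hK⟩ := exists_finite_range_H' 2 hd t ht hnz fun p hp htp hr =>
      depth_add_dim hdepth p (two_le_dim_quotient ht p htp hr)
    exact hasSep_of_bound t hnz K (hK 1 one_lt_two (K + 1))
  haveI : IsNoetherianRing (CommRingCat.of A) := ‹IsNoetherianRing A›
  have hlift : ∀ (V W : FEt.Cat (U : Scheme.{u})) (φ₀ : G.obj V ⟶ G.obj W), ∃ ψ : V ⟶ W, G.map ψ = φ₀ := by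
    intro V W φ₀
    obtain ⟨U'', h, u'', hu, φ, hφ⟩ := (fullyFaithful_of_hasSep t hsep U le_rfl k rfl V W).1 φ₀
    let i := X.homOfLE h
    have hpts : ∀ x : (U : Scheme.{u}), x ∉ U.ι ⁻¹ᵁ U'' →
        (2 : ℕ∞) ≤ LocCoh.depth ((U : Scheme.{u}).presheaf.stalk x) ((U : Scheme.{u}).presheaf.stalk x) := fun x hx => by
      let P : PrimeSpectrum A := U.ι x
      let p : Ideal A := P.asIdeal
      haveI hp : p.IsPrime := P.2
      have h1 : ringKrullDim (A ⧸ p) = 1 := by
        haveI : Nontrivial (A ⧸ p) := Ideal.Quotient.nontrivial_iff.2 hp.ne_top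
        haveI : IsLocalRing (A ⧸ p) := .of_surjective' _ Ideal.Quotient.mk_surjective
        obtain ⟨b, hb⟩ := H9CI.exists_nat_dim (A ⧸ p)
        rcases b with _ | _ | b
        · exfalso
          haveI : Ring.KrullDimLE 0 (A ⧸ p) := Ring.krullDimLE_iff.2 hb.le
          have hm : p = maximalIdeal A := IsLocalRing.eq_maximalIdeal
            (Ideal.Quotient.maximal_of_isField p Ring.KrullDimLE.isField_of_isDomain)
          exact x.2 (PrimeSpectrum.ext hm)
        · rw [hb]; norm_num
        · exfalso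
          obtain ⟨r, hr, hxr, htr, hrm⟩ := exists_prime_over t ht p
            (by rw [hb]; exact_mod_cast (show 2 ≤ b + 1 + 1 by omega))
          let y : (U : Scheme.{u}) := ⟨⟨r, hr⟩, fun e => hrm (congrArg PrimeSpectrum.asIdeal (Set.mem_singleton_iff.1 e))⟩
          obtain ⟨z, hz⟩ := hrk y htr
          have hy : U.ι y ∈ U'' := by
            rw [← hz, ← hu, Scheme.Hom.comp_apply, ← Scheme.Hom.comp_apply i U.ι, X.homOfLE_ι]
            exact (u'' z).2
          exact hx (((PrimeSpectrum.le_iff_specializes P (⟨r, hr⟩ : PrimeSpectrum A)).1 hxr).mem_open U''.2 hy)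
      rw [← H05EGA4.depth_eq_of_ringEquiv (asIso (U.ι.stalkMap x)).commRingCatIsoToRingEquiv]
      let e : Localization.AtPrime P.asIdeal ≃+* X.presheaf.stalk P := (StructureSheaf.stalkIso A P).toRingEquiv
      show (2 : ℕ∞) ≤ LocCoh.depth (X.presheaf.stalk P) (X.presheaf.stalk P)
      rw [← H05EGA4.depth_eq_of_ringEquiv e]
      exact hdepth p hp h1
    obtain ⟨hifull, -⟩ := H18Pur.Pair.full_faithful_of_range_eq (U.ι ⁻¹ᵁ U'') hpts i (by
      rw [Scheme.Opens.range_ι]
      ext x
      constructor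
      · exact fun hx => ⟨⟨U.ι x, hx⟩, U.ι.isOpenEmbedding.injective (by
          rw [← Scheme.Hom.comp_apply, X.homOfLE_ι]; rfl)⟩
      · rintro ⟨z, rfl⟩
        show U.ι (i z) ∈ U''
        rw [← Scheme.Hom.comp_apply, X.homOfLE_ι]
        exact z.2)
    obtain ⟨ψ, hψ⟩ := hifull.map_surjective φ
    refine ⟨ψ, ?_⟩
    let c := MorphismProperty.Over.pullbackComp (P := FEt.prop.{u}) (Q := ⊤) u'' i k hu.symm
    have h2 : G.map ψ ≫ c.hom.app W = c.hom.app V ≫ (FEt.restrict u'').map ((FEt.restrict i).map ψ) :=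
      c.hom.naturality ψ
    rw [hψ, hφ, Iso.hom_inv_id_app_assoc, cancel_mono] at h2
    exact h2
  haveI : F.EssSurj := ⟨fun V => by
    let Y := (F ⋙ G).objPreimage (G.obj V)
    obtain ⟨ψ, hψ⟩ := hlift (F.obj Y) V ((F ⋙ G).objObjPreimageIso (G.obj V)).hom
    haveI : IsIso (G.map ψ) := by rw [hψ]; infer_instance
    haveI := isIso_of_reflects_iso ψ G
    exact ⟨Y, ⟨asIso ψ⟩⟩⟩
  exact { }

end Groth.Agent.H11Alg.PurePair
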