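import Groth.Agent.H11Alg.VDim
import Groth.Agent.H11Alg.PurePair
import Groth.Agent.S14269
import Groth.Prelude.Def_CInt

/-!
# Purity for quotients of regular local rings by few equations

A quotient of a regular local ring `R` by `n` equations is pure when `n + 3 ≤ dim R`; for a complete
intersection in codimension `2 + δ` one may always replace the equations by few ones.
-/

set_option autoImplicit false
set_option linter.style.haveILetI false
set_option backward.isDefEq.respectTransparency false

universe u

open CategoryTheory CategoryTheory.Limits AlgebraicGeometry TopologicalSpace IsLocalRing RingTheory.Sequence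

namespace Groth.Agent.H11Alg.CIVDim

/-- The equivalence from a presentation of the completion by few equations. -/
theorem isEquivalence_of_presentation (A : Type u) [CommRing A] [IsNoetherianRing A] [IsLocalRing A]
    (S : Type u) [CommRing S] [IsRegularLocalRing S] [IsAdicComplete (maximalIdeal S) S]
    (d : ℕ) (hd : ringKrullDim S = d) (rs : List S) (hs : rs.length + 3 ≤ d)
    (e : AdicCompletion (maximalIdeal A) A ≃+* S ⧸ Ideal.ofList rs) :
    (FEt.restrict (FEt.puncturedSpec A).ι).IsEquivalence := by
  classical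
  have hspan : Ideal.ofList rs = Ideal.span ((rs.toFinset : Finset S) : Set S) :=
    congrArg Ideal.span (Set.ext fun x => List.mem_toFinset.symm)
  have hcard : rs.toFinset.card + 3 ≤ d := by
    have := rs.toFinset_card_le
    omega
  let e' := e.trans (Ideal.quotEquivOfEq hspan)
  haveI := purityHolds_of_vdim A S d hd rs.toFinset hcard e'
  obtain ⟨⟨hfull, hfaith⟩, -⟩ := S14269.result A S d hd rs.toFinset (by omega) e'
  exact { full := hfull, faithful := hfaith, essSurj := this }

/-- Few equations in a regular local ring give purity of the quotient and of its completion. -/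
theorem isPurePair_of_few (R : Type u) [CommRing R] [IsRegularLocalRing R] (A : Type u) [CommRing A]
    [IsNoetherianRing A] [IsLocalRing A] (π : R →+* A) (hπ : Function.Surjective π) (rs : List R)
    (hker : RingHom.ker π = Ideal.ofList rs) (d : ℕ) (hd : ringKrullDim R = d) (hs : rs.length + 3 ≤ d) :
    SGA2.IsPurePair (Spec (CommRingCat.of A)) (FEt.puncturedSpec A) ∧
      SGA2.IsPurePair (Spec (CommRingCat.of (AdicCompletion (maximalIdeal A) A)))
        (FEt.puncturedSpec (AdicCompletion (maximalIdeal A) A)) := by
  let S := AdicCompletion (maximalIdeal R) R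
  haveI : IsRegularLocalRing S := H02CA.isRegularLocalRing_adicCompletion R
  haveI : IsAdicComplete (maximalIdeal S) S :=
    (AdicCompletion.maximalIdeal_eq_map (R := R)).symm ▸
      H05EGA4.FiniteSemilocalCompletion.isAdicComplete_completion (maximalIdeal R)
  let A' := AdicCompletion (maximalIdeal A) A
  haveI := H05EGA4.isNoetherianRing_adicCompletion A (maximalIdeal A)
  haveI : IsAdicComplete (maximalIdeal A') A' :=
    (AdicCompletion.maximalIdeal_eq_map (R := A)).symm ▸
      H05EGA4.FiniteSemilocalCompletion.isAdicComplete_completion (maximalIdeal A)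
  have hd' : ringKrullDim S = d := by rw [H05EGA4.ringKrullDim_adicCompletion, hd]
  obtain ⟨e⟩ := H05EGA4.exists_completion_quotient_equiv (maximalIdeal R) A π hπ (maximalIdeal A)
    (IsLocalRing.map_maximalIdeal_of_surjective π hπ)
  let e' : A' ≃+* S ⧸ Ideal.ofList (rs.map (algebraMap R S)) :=
    e.symm.trans (Ideal.quotEquivOfEq (by rw [hker, Ideal.map_ofList]))
  have hlen : (rs.map (algebraMap R S)).length + 3 ≤ d := by rw [List.length_map]; exact hs
  refine ⟨(PurePair.isPurePair_iff A).2 (isEquivalence_of_presentation A S d hd' _ hlen e'),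
    (PurePair.isPurePair_iff A').2 (isEquivalence_of_presentation A' S d hd' _ hlen ?_)⟩
  exact (AdicCompletion.ofAlgEquiv (maximalIdeal A')).symm.toRingEquiv.trans e'

open H23Para.Samuel in
/-- A quotient by a regular ideal is cut out by few equations. -/
theorem exists_few_of_isRegularIdeal (R : Type u) [CommRing R] [IsRegularLocalRing R] (I : Ideal R)
    (hI : CInt.IsRegularIdeal I) (d a : ℕ) (hd : ringKrullDim R = d) (ha : ringKrullDim (R ⧸ I) = a) (h3 : 3 ≤ a) :
    ∃ rs : List R, Ideal.ofList rs = I ∧ rs.length + 3 ≤ d := by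
  obtain ⟨rs, hreg, rfl⟩ := hI
  refine ⟨rs, rfl, ?_⟩
  have h := ringKrullDim_add_length_eq_ringKrullDim_of_isRegular rs hreg
  rw [hd, ha] at h
  have : a + rs.length = d := by exact_mod_cast h
  omega

/-- Purity at a prime of a complete intersection in codimension `2 + δ`. -/
theorem isPurePair_localization (R : Type u) [CommRing R] [IsRegularLocalRing R] (s : Finset R)
    [IsLocalRing (R ⧸ Ideal.span (s : Set R))] (c : ℕ)
    (hc : ringKrullDim R = ringKrullDim (R ⧸ Ideal.span (s : Set R)) + (c : WithBot ℕ∞))
    (hci : ∀ (Q : Ideal (R ⧸ Ideal.span (s : Set R))) [Q.IsPrime],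
      Q.height + (c : ℕ∞) ≤ ((2 + s.card : ℕ) : ℕ∞) →
        CInt.IsRegularIdeal ((Ideal.span (s : Set R)).map (algebraMap R
          (Localization.AtPrime (Q.comap (Ideal.Quotient.mk (Ideal.span (s : Set R))))))))
    (Q : Ideal (R ⧸ Ideal.span (s : Set R))) [Q.IsPrime] (hQ : (3 : ℕ∞) ≤ Q.height) :
    SGA2.IsPurePair (Spec (CommRingCat.of (Localization.AtPrime Q))) (FEt.puncturedSpec (Localization.AtPrime Q)) ∧
      SGA2.IsPurePair (Spec (CommRingCat.of (AdicCompletion (maximalIdeal (Localization.AtPrime Q)) (Localization.AtPrime Q))))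
        (FEt.puncturedSpec (AdicCompletion (maximalIdeal (Localization.AtPrime Q)) (Localization.AtPrime Q))) := by
  let I := Ideal.span (s : Set R)
  let π := Ideal.Quotient.mk I
  let q := Q.comap π
  have hIq : I ≤ q := fun x hx => by
    rw [Ideal.mem_comap, Ideal.Quotient.eq_zero_iff_mem.mpr hx]
    exact zero_mem _
  have hmap : q.map π = Q := Ideal.map_comap_of_surjective _ Ideal.Quotient.mk_surjective _
  haveI : (q.map π).IsPrime := hmap ▸ ‹Q.IsPrime›
  obtain ⟨e₁⟩ := H13CI.exists_quotient_localization_equiv I q hIq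
  have hS : (q.map π).primeCompl = Q.primeCompl :=
    SetLike.ext fun a => not_congr (SetLike.ext_iff.1 hmap a)
  haveI : IsLocalization (q.map π).primeCompl (Localization.AtPrime Q) := hS.symm ▸ inferInstance
  let e₂ : Localization.AtPrime (q.map π) ≃+* Localization.AtPrime Q :=
    (IsLocalization.algEquiv (q.map π).primeCompl (Localization.AtPrime (q.map π)) (Localization.AtPrime Q)).toRingEquiv
  let R' := Localization.AtPrime q
  haveI : IsRegularRing R := H05EGA4.isRegularRing_of_isRegularLocalRing R
  haveI : IsRegularLocalRing R' := IsRegularRing.isRegularLocalRing_localization _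
  let J := I.map (algebraMap R R')
  let ρ : R' →+* Localization.AtPrime Q := (e₁.trans e₂).toRingHom.comp (Ideal.Quotient.mk J)
  have hρ : Function.Surjective ρ := (e₁.trans e₂).surjective.comp Ideal.Quotient.mk_surjective
  have hker : RingHom.ker ρ = J := by
    rw [RingHom.ker_equiv_comp, Ideal.mk_ker]
  -- the numbers
  obtain ⟨d, hd⟩ := H9CI.exists_nat_dim R
  obtain ⟨hq, hhq⟩ := H9CI.exists_nat_dim R'
  obtain ⟨a, ha⟩ := H9CI.exists_nat_dim (R ⧸ I)
  obtain ⟨hQn, hhQ⟩ := H05EGA4.exists_nat_height_eq Q
  obtain ⟨b, hb⟩ := H05EGA4.exists_nat_dim_quotient_eq Q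
  have h1 : d = a + c := by rw [hd, ha] at hc; exact_mod_cast hc
  have h2 : hQn + b ≤ a := by
    have := H05EGA4.height_add_dim_quotient_le Q
    rw [hhQ, hb, ha] at this
    exact_mod_cast this
  have hqb : ringKrullDim (R ⧸ q) = b := by
    rw [← hb]
    let g := (Ideal.Quotient.mk Q).comp π
    have hg : RingHom.ker g = q := by rw [← RingHom.comap_ker, Ideal.mk_ker]
    exact ringKrullDim_eq_of_ringEquiv ((Ideal.quotEquivOfEq hg.symm).trans
      (RingHom.quotientKerEquivOfSurjective (f := g)
        (Ideal.Quotient.mk_surjective.comp Ideal.Quotient.mk_surjective)))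
  have h3 : d = b + hq := by
    have := H23Para.Samuel.ringKrullDim_eq_quotient_add_localization q
    rw [hd, hqb, hhq] at this
    exact_mod_cast this
  have h4 : ringKrullDim (R' ⧸ J) = hQn := by
    rw [ringKrullDim_eq_of_ringEquiv (e₁.trans e₂),
      IsLocalization.AtPrime.ringKrullDim_eq_height Q (Localization.AtPrime Q), hhQ]
    rfl
  have h5 : 3 ≤ hQn := by rw [hhQ] at hQ; exact_mod_cast hQ
  by_cases hcase : s.card + 3 ≤ hq
  · refine isPurePair_of_few R' _ ρ hρ (s.toList.map (algebraMap R R')) ?_ hq hhq
      (by rw [List.length_map, Finset.length_toList]; exact hcase)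
    rw [hker, ← Ideal.map_ofList]
    exact congrArg (Ideal.map (algebraMap R R'))
      (congrArg Ideal.span (Set.ext fun x => Finset.mem_toList.symm))
  · obtain ⟨rs, hrs, hlen⟩ := exists_few_of_isRegularIdeal R' J (hci Q (by
      rw [hhQ]; exact_mod_cast (show hQn + c ≤ 2 + s.card by omega))) hq hQn hhq h4 h5
    exact isPurePair_of_few R' _ ρ hρ rs (hker.trans hrs.symm) hq hhq hlen

/-- Purity of a complete intersection in codimension `2 + δ`. -/
theorem isPurePair_self (R : Type u) [CommRing R] [IsRegularLocalRing R] (s : Finset R)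
    [IsLocalRing (R ⧸ Ideal.span (s : Set R))] (c : ℕ)
    (hdim : (3 : WithBot ℕ∞) ≤ ringKrullDim (R ⧸ Ideal.span (s : Set R)))
    (hc : ringKrullDim R = ringKrullDim (R ⧸ Ideal.span (s : Set R)) + (c : WithBot ℕ∞))
    (hci : ∀ (Q : Ideal (R ⧸ Ideal.span (s : Set R))) [Q.IsPrime],
      Q.height + (c : ℕ∞) ≤ ((2 + s.card : ℕ) : ℕ∞) →
        CInt.IsRegularIdeal ((Ideal.span (s : Set R)).map (algebraMap R
          (Localization.AtPrime (Q.comap (Ideal.Quotient.mk (Ideal.span (s : Set R)))))))) :
    SGA2.IsPurePair (Spec (CommRingCat.of (R ⧸ Ideal.span (s : Set R))))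
      (FEt.puncturedSpec (R ⧸ Ideal.span (s : Set R))) := by
  let A := R ⧸ Ideal.span (s : Set R)
  obtain ⟨d, hd⟩ := H9CI.exists_nat_dim R
  obtain ⟨a, ha⟩ := H9CI.exists_nat_dim A
  by_cases hcase : s.card + 3 ≤ d
  · refine (isPurePair_of_few R A (Ideal.Quotient.mk _) Ideal.Quotient.mk_surjective s.toList ?_ d hd
      (by rw [Finset.length_toList]; exact hcase)).1
    rw [Ideal.mk_ker]
    exact congrArg Ideal.span (Set.ext fun x => Finset.mem_toList.symm)
  · let I := Ideal.span (s : Set R)
    let m := maximalIdeal A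
    have h1 : d = a + c := by rw [hd, ha] at hc; exact_mod_cast hc
    have hm : m.height = (a : ℕ∞) :=
      WithBot.coe_injective ((IsLocalRing.maximalIdeal_height_eq_ringKrullDim).trans ha)
    haveI : IsLocalHom (Ideal.Quotient.mk I) := IsLocalHom.of_surjective _ Ideal.Quotient.mk_surjective
    have hq : m.comap (Ideal.Quotient.mk I) = maximalIdeal R :=
      congrArg PrimeSpectrum.asIdeal (IsLocalRing.comap_closedPoint (Ideal.Quotient.mk I))
    have hr := hci m (by rw [hm]; exact_mod_cast (show a + c ≤ 2 + s.card by omega))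
    let e : R ≃+* Localization.AtPrime (m.comap (Ideal.Quotient.mk I)) :=
      (IsLocalization.atUnits R (m.comap (Ideal.Quotient.mk I)).primeCompl (fun x hx => by
        exact not_not.1 fun h => hx (by rw [hq]; exact (mem_maximalIdeal x).2 h))).toRingEquiv
    let R' := Localization.AtPrime (m.comap (Ideal.Quotient.mk I))
    haveI : IsRegularRing R := H05EGA4.isRegularRing_of_isRegularLocalRing R
    haveI : IsRegularLocalRing R' := IsRegularRing.isRegularLocalRing_localization _
    let π' : R' →+* A := (Ideal.Quotient.mk I).comp e.symm.toRingHom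
    have hπ' : Function.Surjective π' := Ideal.Quotient.mk_surjective.comp e.symm.surjective
    have hker : RingHom.ker π' = I.map (algebraMap R R') := by
      rw [← RingHom.comap_ker, Ideal.mk_ker]
      show I.comap e.symm = _
      rw [Ideal.comap_symm]
      rfl
    have hd' : ringKrullDim R' = d := (ringKrullDim_eq_of_ringEquiv e).symm.trans hd
    have ha' : ringKrullDim (R' ⧸ I.map (algebraMap R R')) = a :=
      (ringKrullDim_eq_of_ringEquiv ((Ideal.quotEquivOfEq hker.symm).trans
        (RingHom.quotientKerEquivOfSurjective hπ'))).trans ha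
    obtain ⟨rs', hrs', hlen⟩ := exists_few_of_isRegularIdeal R' _ hr d a hd' ha'
      (by rw [ha] at hdim; exact_mod_cast hdim)
    exact (isPurePair_of_few R' A π' hπ' rs' (hker.trans hrs'.symm) d hd' hlen).1

end Groth.Agent.H11Alg.CIVDim
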