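import Groth.Agent.H11Alg.FiniteBound
import Groth.Agent.H11Alg.Bound
import Groth.Agent.H18Et.FEtRestrictGamma
import Mathlib.AlgebraicGeometry.Morphisms.Etale
import Mathlib.RingTheory.Support

/-!
# Clopen pieces over the punctured hypersurface spread to a neighbourhood

A compatible system of idempotents of the truncations of a finite étale cover gives an element of
the finite algebra of formal sections, which agrees with the sections of the cover near `V(f)`.
-/

set_option autoImplicit false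
set_option linter.style.haveILetI false
set_option backward.isDefEq.respectTransparency false

universe u

open CategoryTheory CategoryTheory.Limits AlgebraicGeometry TopologicalSpace IsLocalRing

namespace Groth.Agent.H11Alg

/-- Disjoint closed pieces of the part over `V(f)` of a finite étale cover have disjoint
neighbourhoods. -/
def HasSep (A : Type u) [CommRing A] [IsLocalRing A] (f : A) : Prop :=
  ∀ (U' : (Spec (CommRingCat.of A)).Opens), U' ≤ FEt.puncturedSpec A →
    (∀ P ∈ FEt.puncturedSpec A, f ∈ P.asIdeal → P ∈ U') →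
    ∀ (Z : Scheme.{u}) (q : Z ⟶ (U' : Scheme.{u})) [IsFinite q] [Etale q] (C₁ C₂ : Set Z),
      IsClosed C₁ → IsClosed C₂ → Disjoint C₁ C₂ → C₁ ∪ C₂ = {z | f ∈ (U'.ι (q z)).asIdeal} →
      ∃ O₁ O₂ : Z.Opens, Disjoint (O₁ : Set Z) O₂ ∧ C₁ ⊆ O₁ ∧ C₂ ⊆ O₂

/-- An idempotent is determined by where it is invertible. -/
theorem idempotent_ext {X : Scheme.{u}} [CompactSpace X] {e e' : Γ(X, ⊤)} (he : e * e = e) (he' : e' * e' = e')
    (h : X.basicOpen e = X.basicOpen e') : e = e' := by
  suffices key : ∀ a b : Γ(X, ⊤), a * a = a → b * b = b → X.basicOpen a = X.basicOpen b → a * (1 - b) = 0 by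
    have h1 := key e e' he he' h
    have h2 := key e' e he' he h.symm
    linear_combination h1 - h2
  intro a b ha hb hab
  have hbot : X.basicOpen (a * (1 - b)) = ⊥ := by
    rw [Scheme.basicOpen_mul, hab, ← Scheme.basicOpen_mul,
      show b * (1 - b) = 0 by rw [mul_sub, mul_one, hb, sub_self], Scheme.basicOpen_zero]
  obtain ⟨n, hn⟩ := (Scheme.isNilpotent_iff_basicOpen_eq_bot (a * (1 - b))).2 hbot
  have hi : IsIdempotentElem (a * (1 - b)) := by
    show a * (1 - b) * (a * (1 - b)) = a * (1 - b)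
    linear_combination ((1 - b) * (1 - b)) * ha + a * hb
  rcases n with _ | n
  · have h1 : (1 : Γ(X, ⊤)) = 0 := by simpa using hn
    rw [← mul_one (a * (1 - b)), h1, mul_zero]
  · rwa [hi.pow_succ_eq] at hn

/-- Where an idempotent is not invertible its complement is. -/
theorem mem_basicOpen_one_sub {X : Scheme.{u}} (e : Γ(X, ⊤)) {x : X} (hx : x ∉ X.basicOpen e) :
    x ∈ X.basicOpen (1 - e) := by
  refine (X.mem_basicOpen_top (1 - e) x).mpr ?_
  rw [map_sub, map_one]
  exact (IsLocalRing.isUnit_or_isUnit_one_sub_self (X.presheaf.germ ⊤ x trivial e)).resolve_left fun h =>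
    hx ((X.mem_basicOpen_top e x).mpr h)

theorem specQuotTrans_specQuot {A : Type u} [CommRing A] (J : Ideal A) (n : ℕ) :
    CohB1.specQuotTrans J n ≫ CohB1.specQuot J (n + 1) = CohB1.specQuot J n := by
  rw [CohB1.specQuotTrans, CohB1.specQuot, ← Spec.map_comp, ← CommRingCat.ofHom_comp, Ideal.Quotient.factor_comp_mk]
  rfl

variable {A : Type u} [CommRing A] [IsNoetherianRing A] [IsLocalRing A]

theorem isAffineOpen_basicOpen_spec {R : Type u} [CommRing R] (c : R) :
    IsAffineOpen (X := Spec (CommRingCat.of R)) (PrimeSpectrum.basicOpen c) := by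
  have h := (isAffineOpen_top (Spec (CommRingCat.of R))).basicOpen ((Scheme.ΓSpecIso (CommRingCat.of R)).inv c)
  rwa [basicOpen_eq_of_affine] at h

section

variable (f : A) {T : Finset A} (hT : Ideal.span (T : Set A) = maximalIdeal A)
  {U' : (Spec (CommRingCat.of A)).Opens} (hU : U' ≤ FEt.puncturedSpec A)
  (hmem : ∀ P ∈ FEt.puncturedSpec A, f ∈ P.asIdeal → P ∈ U')
  {Z : Scheme.{u}} (q : Z ⟶ (U' : Scheme.{u})) [IsFinite q] [Etale q]

include hT hU hmem in
theorem nbr_factor (n : ℕ) : ∃ y : pullback (q ≫ U'.ι) (CohB1.specQuot (Ideal.span {f}) n) ⟶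
      pullback U'.ι (CohB1.specQuot (Ideal.span {f}) n),
    IsFinite y ∧ y ≫ pullback.snd _ _ = pullback.snd _ _ ∧
      ∀ c ∈ T, (PrimeSpectrum.basicOpen (Ideal.Quotient.mk (Ideal.span {f} ^ (n + 1)) c) :
        (Spec (CommRingCat.of (A ⧸ Ideal.span {f} ^ (n + 1)))).Opens) ≤
          (pullback.snd U'.ι (CohB1.specQuot (Ideal.span {f}) n)).opensRange := by
  let J : Ideal A := Ideal.span {f}
  let sq := CohB1.specQuot J n
  let y : pullback (q ≫ U'.ι) sq ⟶ pullback U'.ι sq :=
    pullback.lift (pullback.fst _ _ ≫ q) (pullback.snd _ _) (by rw [Category.assoc, pullback.condition])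
  have hy : y ≫ pullback.snd _ _ = pullback.snd (q ≫ U'.ι) sq := pullback.lift_snd _ _ _
  have hpb : IsPullback (pullback.fst (q ≫ U'.ι) sq) y q (pullback.fst U'.ι sq) :=
    IsPullback.of_bot (by rw [hy]; exact IsPullback.of_hasPullback _ _) (pullback.lift_fst _ _ _).symm
      (IsPullback.of_hasPullback _ _)
  refine ⟨y, MorphismProperty.of_isPullback hpb inferInstance, hy, fun c hc P hP => ?_⟩
  show P ∈ Set.range (pullback.snd U'.ι sq)
  rw [Scheme.Pullback.range_snd, Scheme.Opens.range_ι]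
  refine hmem _ (fun h => hP ?_) ?_
  · rw [Set.mem_singleton_iff] at h
    show c ∈ (sq P).asIdeal
    rw [h]
    show c ∈ maximalIdeal A
    exact hT ▸ Ideal.subset_span hc
  · show Ideal.Quotient.mk (J ^ (n + 1)) f ∈ P.asIdeal
    refine P.2.mem_of_pow_mem (n + 1) ?_
    rw [← map_pow, Ideal.Quotient.eq_zero_iff_mem.2 (Ideal.pow_mem_pow (Ideal.mem_span_singleton_self f) _)]
    exact zero_mem _

/-- The truncations of a cover of a neighbourhood of the punctured hypersurface. -/
noncomputable def nbrTower : Tower A f T :=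
  haveI : IsNoetherianRing (CommRingCat.of A) := inferInstanceAs (IsNoetherianRing A)
  haveI : CompactSpace (U' : Scheme.{u}) := isCompact_iff_compactSpace.1 (NoetherianSpace.isCompact _)
  haveI : QuasiCompact U'.ι := quasiCompact_of_compactSpace _
  { Y := fun n => pullback (q ≫ U'.ι) (CohB1.specQuot (Ideal.span {f}) n)
    cpt := fun n => QuasiCompact.compactSpace_of_compactSpace (pullback.snd (q ≫ U'.ι) (CohB1.specQuot (Ideal.span {f}) n))
    qs := fun n => quasiSeparatedSpace_of_quasiSeparated (pullback.snd (q ≫ U'.ι) (CohB1.specQuot (Ideal.span {f}) n))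
    p := fun n => pullback.snd _ _
    flat := fun n => inferInstance
    t := fun n => pullback.lift (pullback.fst _ _) (pullback.snd _ _ ≫ CohB1.specQuotTrans (Ideal.span {f}) n)
      (by rw [Category.assoc, specQuotTrans_specQuot, pullback.condition])
    pb := fun n => by
      refine IsPullback.of_right (h₁₂ := pullback.fst (q ≫ U'.ι) (CohB1.specQuot (Ideal.span {f}) (n + 1)))
        (h₂₂ := CohB1.specQuot (Ideal.span {f}) (n + 1)) (v₁₃ := q ≫ U'.ι) ?_
        (pullback.lift_snd _ _ _) (IsPullback.of_hasPullback _ _)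
      rw [pullback.lift_fst, specQuotTrans_specQuot]
      exact IsPullback.of_hasPullback _ _
    cover := fun n z => by
      let P := (pullback.snd (q ≫ U'.ι) (CohB1.specQuot (Ideal.span {f}) n) ≫ CohB1.specQuot (Ideal.span {f}) n) z
      show ∃ c ∈ T, P ∈ PrimeSpectrum.basicOpen c
      have hP : P ∈ FEt.puncturedSpec A := hU (by
        show (pullback.snd (q ≫ U'.ι) _ ≫ CohB1.specQuot (Ideal.span {f}) n) z ∈ U'
        rw [← pullback.condition]
        exact (q (pullback.fst (q ≫ U'.ι) (CohB1.specQuot (Ideal.span {f}) n) z)).2)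
      by_contra h
      push Not at h
      refine hP (PrimeSpectrum.ext (le_antisymm (le_maximalIdeal P.2.ne_top) ?_))
      show maximalIdeal A ≤ P.asIdeal
      rw [← hT, Ideal.span_le]
      exact fun c hc => not_not.1 (h c hc)
    affine := fun n c hc => by
      obtain ⟨y, hy, hys, hle⟩ := nbr_factor f hT hU hmem q n
      haveI := hy
      haveI : IsOpenImmersion (pullback.snd U'.ι (CohB1.specQuot (Ideal.span {f}) n)) :=
        MorphismProperty.pullback_snd _ _ inferInstance
      rw [← hys, Category.assoc, Scheme.Hom.comp_preimage, Scheme.Hom.comp_preimage]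
      exact (IsAffineOpen.preimage_of_isOpenImmersion (isAffineOpen_basicOpen_spec _) _ (hle c hc)).preimage y }

theorem nbrTower_finApp (m : ℕ) (c : A) (hc : c ∈ T) :
    (((nbrTower f hT hU hmem q).p m).app
      (PrimeSpectrum.basicOpen (Ideal.Quotient.mk (Ideal.span {f} ^ (m + 1)) c))).hom.Finite := by
  obtain ⟨y, hy, hys, hle⟩ := nbr_factor f hT hU hmem q m
  haveI := hy
  let D : (Spec (CommRingCat.of (A ⧸ Ideal.span {f} ^ (m + 1)))).Opens :=
    PrimeSpectrum.basicOpen (Ideal.Quotient.mk _ c)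
  haveI : IsOpenImmersion (pullback.snd U'.ι (CohB1.specQuot (Ideal.span {f}) m)) :=
    MorphismProperty.pullback_snd _ _ inferInstance
  show ((pullback.snd (q ≫ U'.ι) (CohB1.specQuot (Ideal.span {f}) m)).app D).hom.Finite
  rw [← hys, Scheme.Hom.comp_app, CommRingCat.hom_comp]
  haveI := (pullback.snd U'.ι (CohB1.specQuot (Ideal.span {f}) m)).isIso_app _ (hle c hc)
  exact RingHom.Finite.comp (y.finite_app _ ((isAffineOpen_basicOpen_spec _).preimage_of_isOpenImmersion _ (hle c hc)))
    (RingHom.Finite.of_surjective _ (ConcreteCategory.bijective_of_isIso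
      ((pullback.snd U'.ι (CohB1.specQuot (Ideal.span {f}) m)).app D)).2)

end

/-- A power of a single element outside `P` kills a finite module vanishing at `P`. -/
theorem exists_kill_away {M : Type u} [AddCommGroup M] [Module A M] [Module.Finite A M] (P : Ideal A) [P.IsPrime]
    (h : ∀ x : M, ∃ s ∉ P, s • x = 0) : ∃ s ∉ P, ∀ x : M, ∃ N : ℕ, s ^ N • x = 0 := by
  haveI : Subsingleton (LocalizedModule P.primeCompl M) :=
    LocalizedModule.subsingleton_iff.2 fun x => by
      obtain ⟨s, hs, hx⟩ := h x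
      exact ⟨s, hs, hx⟩
  obtain ⟨s, hs, hss⟩ := LocalizedModule.exists_subsingleton_away (M := M) P
  refine ⟨s, hs, fun x => ?_⟩
  obtain ⟨r, ⟨N, rfl⟩, hr⟩ := LocalizedModule.subsingleton_iff.1 hss x
  exact ⟨N, hr⟩

/-- Elements of arbitrarily high `f`-divisibility off `a` vanish at `P`. -/
theorem exists_kill_of_divisible {M : Type u} [AddCommGroup M] [Module A M] [Module.Finite A M] (P : Ideal A)
    [P.IsPrime] {f a : A} (hf : f ∈ P) (ha : a ∉ P) (x : M)
    (h : ∀ n : ℕ, ∃ (N : ℕ) (y : M), a ^ N • x = f ^ n • y) : ∃ s ∉ P, s • x = 0 := by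
  let R := Localization.AtPrime P
  let l := LocalizedModule.mkLinearMap P.primeCompl M
  haveI : IsNoetherianRing R := IsLocalization.isNoetherianRing P.primeCompl R inferInstance
  have hfR : algebraMap A R f ∈ maximalIdeal R := (IsLocalization.AtPrime.to_map_mem_maximal_iff R P f).2 hf
  have hmem : l x ∈ (⨅ n : ℕ, Ideal.span {algebraMap A R f} ^ n • ⊤ : Submodule R (LocalizedModule P.primeCompl M)) := by
    rw [Submodule.mem_iInf]
    intro n
    obtain ⟨N, y, hy⟩ := h n
    have hu : IsUnit (algebraMap A R (a ^ N)) :=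
      IsLocalization.map_units R (⟨a ^ N, fun e => ha (‹P.IsPrime›.mem_of_pow_mem N e)⟩ : P.primeCompl)
    have e : algebraMap A R (a ^ N) • l x = algebraMap A R (f ^ n) • l y := by
      rw [algebraMap_smul, algebraMap_smul, ← map_smul, ← map_smul, hy]
    have e' : l x = (hu.unit⁻¹.1 * algebraMap A R (f ^ n)) • l y := by
      rw [mul_smul, ← e, smul_smul, IsUnit.val_inv_mul, one_smul]
    rw [e']
    simp only [map_pow (algebraMap A R) f n]
    exact Submodule.smul_mem_smul (Ideal.mul_mem_left _ _ (Ideal.pow_mem_pow (Ideal.mem_span_singleton_self _) n)) trivial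
  rw [Ideal.iInf_pow_smul_eq_bot_of_isLocalRing _ (fun e => (maximalIdeal.isMaximal R).ne_top
    (top_le_iff.1 (e ▸ (Ideal.span_singleton_le_iff_mem _).2 hfR))), Submodule.mem_bot] at hmem
  obtain ⟨⟨s, hs⟩, hs'⟩ := (IsLocalizedModule.eq_zero_iff P.primeCompl l).1 hmem
  exact ⟨s, hs, hs'⟩

/-- A finite module divisible by `f` off `a` vanishes at `P`. -/
theorem exists_kill_of_nakayama {M : Type u} [AddCommGroup M] [Module A M] [Module.Finite A M] (P : Ideal A)
    [P.IsPrime] {f a : A} (hf : f ∈ P) (ha : a ∉ P)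
    (h : ∀ x : M, ∃ (N : ℕ) (y : M), a ^ N • x = f • y) (x : M) : ∃ s ∉ P, s • x = 0 := by
  let R := Localization.AtPrime P
  let l := LocalizedModule.mkLinearMap P.primeCompl M
  let M' := LocalizedModule P.primeCompl M
  haveI : Module.Finite R M' := Module.Finite.of_isLocalizedModule P.primeCompl l
  have hfR : algebraMap A R f ∈ maximalIdeal R := (IsLocalization.AtPrime.to_map_mem_maximal_iff R P f).2 hf
  have htop : (⊤ : Submodule R M') = ⊥ := by
    refine Submodule.eq_bot_of_le_smul_of_le_jacobson_bot (Ideal.span {algebraMap A R f}) ⊤ Module.Finite.fg_top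
      (fun z _ => ?_) (((Ideal.span_singleton_le_iff_mem _).2 hfR).trans (maximalIdeal_le_jacobson _))
    obtain ⟨⟨m, s⟩, hz⟩ := IsLocalizedModule.surj P.primeCompl l z
    obtain ⟨N, y, hy⟩ := h m
    have hu : IsUnit (algebraMap A R (a ^ N * s.1)) :=
      IsLocalization.map_units R (⟨a ^ N * s.1,
        fun e => (‹P.IsPrime›.mem_or_mem e).elim (fun e => ha (‹P.IsPrime›.mem_of_pow_mem N e)) s.2⟩ : P.primeCompl)
    have e : algebraMap A R (a ^ N * s.1) • z = algebraMap A R f • l y := by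
      rw [map_mul, mul_smul, algebraMap_smul (A := R) s.1 z]
      show algebraMap A R (a ^ N) • (s • z) = _
      rw [hz, algebraMap_smul, algebraMap_smul, ← map_smul, ← map_smul, hy]
    have e' : z = (hu.unit⁻¹.1 * algebraMap A R f) • l y := by
      rw [mul_smul, ← e, smul_smul, IsUnit.val_inv_mul, one_smul]
    rw [e']
    exact Submodule.smul_mem_smul (Ideal.mul_mem_left _ _ (Ideal.mem_span_singleton_self _)) trivial
  have h0 : l x = 0 := (Submodule.mem_bot R).1 (htop ▸ Submodule.mem_top)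
  obtain ⟨⟨s, hs⟩, hs'⟩ := (IsLocalizedModule.eq_zero_iff P.primeCompl l).1 h0
  exact ⟨s, hs, hs'⟩

set_option maxHeartbeats 1000000 in
/-- Clopen pieces spread when some multiples of the first cohomology of a truncation are finite. -/
theorem hasSep_of_bound (f : A) [IsAdicComplete (Ideal.span {f}) A] (hnz : f ∈ nonZeroDivisors A) (K : ℕ)
    (hK : Module.Finite A (LinearMap.range (LinearMap.lsmul A
      (LocCoh.H (maximalIdeal A) 1 (A ⧸ Ideal.span {f} ^ (K + 1))) (f ^ K)))) : HasSep A f := by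
  classical
  intro U' hU hmem Z q _ _ C₁ C₂ hC₁ hC₂ hdisj hC
  obtain ⟨T, hT⟩ := (maximalIdeal A).fg_of_isNoetherianRing
  let D := nbrTower f hT hU hmem q
  let L := D.levels hnz
  haveI : Module.Finite A L.lim := L.finite_lim_of_finite_range K
    ((D.finite_range_level' hT K K (nbrTower_finApp f hT hU hmem q K)).1 hK)
  haveI : IsNoetherianRing (CommRingCat.of A) := inferInstanceAs (IsNoetherianRing A)
  haveI : CompactSpace (U' : Scheme.{u}) := isCompact_iff_compactSpace.1 (NoetherianSpace.isCompact _)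
  haveI : CompactSpace Z := QuasiCompact.compactSpace_of_compactSpace q
  haveI : QuasiSeparatedSpace Z := quasiSeparatedSpace_of_quasiSeparated (q ≫ U'.ι)
  let sq := fun n => CohB1.specQuot (Ideal.span {f}) n
  haveI hsq : ∀ n, IsClosedImmersion (sq n) := fun n => IsClosedImmersion.spec_of_surjective _ Ideal.Quotient.mk_surjective
  let ι : ∀ n, D.Y n ⟶ Z := fun n => pullback.fst (q ≫ U'.ι) (sq n)
  haveI hι : ∀ n, IsClosedImmersion (ι n) := fun n => MorphismProperty.pullback_fst _ _ (hsq n)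
  have hιg : ∀ n, ι n ≫ q ≫ U'.ι = D.g n := fun n => pullback.condition
  have hιt : ∀ n, D.t n ≫ ι (n + 1) = ι n := fun n => pullback.lift_fst _ _ _
  let πA : Z ⟶ Spec (CommRingCat.of A) := q ≫ U'.ι
  let R : Type u := Γ(Z, ⊤)
  letI : Algebra A R := ((Scheme.ΓSpecIso (CommRingCat.of A)).inv ≫ πA.appTop).hom.toAlgebra
  let r : ∀ n, R →ₐ[A] D.Sec n := fun n =>
    { (ι n).appTop.hom with
      commutes' := fun a => by
        show (ι n).appTop (πA.appTop ((Scheme.ΓSpecIso (CommRingCat.of A)).inv a)) =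
          (D.g n).appTop ((Scheme.ΓSpecIso (CommRingCat.of A)).inv a)
        rw [← hιg]
        rfl }
  have hrt : ∀ n x, D.res n.le_succ (r (n + 1) x) = r n x := fun n x => by
    show ((ι (n + 1)).appTop ≫ (D.tr n.le_succ).appTop) x = (ι n).appTop x
    rw [← Scheme.Hom.comp_appTop, Tower.tr_succ, hιt]
  let ρ : R →ₐ[A] L.lim := (Pi.algHom A D.Sec r).codRestrict L.lim fun x n => hrt n x
  -- the formal idempotent
  have hrange : ∀ n (y : D.Y n), ι n y ∈ C₁ ∪ C₂ := fun n y => by
    rw [hC]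
    show f ∈ ((q ≫ U'.ι) (ι n y)).asIdeal
    rw [← Scheme.Hom.comp_apply, hιg]
    show Ideal.Quotient.mk _ f ∈ (D.p n y).asIdeal
    refine (D.p n y).2.mem_of_pow_mem (n + 1) ?_
    rw [← map_pow, Ideal.Quotient.eq_zero_iff_mem.2 (Ideal.pow_mem_pow (Ideal.mem_span_singleton_self f) _)]
    exact zero_mem _
  have hclop : ∀ n, IsClopen (ι n ⁻¹' C₁) := fun n => by
    refine ⟨hC₁.preimage (ι n).continuous, ?_⟩
    rw [show ι n ⁻¹' C₁ = (ι n ⁻¹' C₂)ᶜ from Set.ext fun y =>
      ⟨fun h h' => Set.disjoint_left.1 hdisj h h', fun h => (hrange n y).resolve_right h⟩]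
    exact (hC₂.preimage (ι n).continuous).isOpen_compl
  choose e he hbe using fun n => H18Et.FEtRestrictGamma.exists_idempotent_of_isClopen _ (hclop n)
  have het : ∀ n, D.res n.le_succ (e (n + 1)) = e n := fun n => by
    refine idempotent_ext (by rw [← map_mul, he]) (he n) (Opens.ext ?_)
    show ((D.Y n).basicOpen ((D.tr n.le_succ).appTop (e (n + 1))) : Set (D.Y n)) = _
    rw [← Scheme.preimage_basicOpen_top, hbe n]
    show D.tr n.le_succ ⁻¹' ((D.Y (n + 1)).basicOpen (e (n + 1)) : Set (D.Y (n + 1))) = ι n ⁻¹' C₁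
    rw [hbe (n + 1), ← hιt n, Tower.tr_succ]
    rfl
  let ê : L.lim := ⟨e, het⟩
  have hee : ê * ê = ê := Subtype.ext (funext he)
  -- the neighbourhood of a point
  have key : ∀ P : Spec (CommRingCat.of A), P ∈ U' → f ∈ P.asIdeal → ∃ (c : A) (x : R), c ∉ P.asIdeal ∧
      (∀ y, ρ y = 0 → ∃ N : ℕ, c ^ N • y = 0) ∧ ρ x = c • ê := by
    intro P hP hfP
    obtain ⟨_, ⟨_, ⟨a, rfl⟩, rfl⟩, haP, haU⟩ :=
      PrimeSpectrum.isBasis_basic_opens.exists_subset_of_mem_open hP U'.2
    let Da : (Spec (CommRingCat.of A)).Opens := PrimeSpectrum.basicOpen a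
    let W : Z.Opens := Z.basicOpen (algebraMap A R a)
    have hW' : W = πA ⁻¹ᵁ Da := by
      show Z.basicOpen (πA.appTop ((Scheme.ΓSpecIso (CommRingCat.of A)).inv a)) = _
      rw [← Scheme.preimage_basicOpen_top]
      congr 1
      exact basicOpen_eq_of_affine (R := CommRingCat.of A) a
    have hle : Da ≤ U'.ι.opensRange := by rw [Scheme.Opens.opensRange_ι]; exact haU
    have hW : IsAffineOpen W := by
      rw [hW', Scheme.Hom.comp_preimage]
      exact ((isAffineOpen_basicOpen_spec a).preimage_of_isOpenImmersion _ hle).preimage q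
    let E := Γ(Z, W)
    haveI : IsLocalization.Away (algebraMap A R a) E :=
      isLocalization_basicOpen_of_qcqs isCompact_univ (isQuasiSeparated_univ (α := Z)) _
    let res : R →+* E := algebraMap Γ(Z, ⊤) E
    have hsep : ∀ x y : R, res x = res y → ∃ N : ℕ, a ^ N • x = a ^ N • y := fun x y h => by
      obtain ⟨⟨_, N, rfl⟩, hN⟩ := (IsLocalization.eq_iff_exists (Submonoid.powers (algebraMap A R a)) E).1 h
      exact ⟨N, by rw [Algebra.smul_def, Algebra.smul_def, map_pow]; exact hN⟩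
    have hsurj : ∀ z : E, ∃ (N : ℕ) (x : R), res x = res (algebraMap A R a) ^ N * z := fun z => by
      obtain ⟨N, x, hx⟩ := IsLocalization.Away.surj (algebraMap A R a) z
      exact ⟨N, x, hx.symm.trans (mul_comm _ _)⟩
    have hres : ∀ (k : A) (x : R), res (k • x) = res (algebraMap A R k) * res x := fun k x => by
      rw [Algebra.smul_def, map_mul]
    -- a finite piece of the sections
    obtain ⟨M, hMfg, hM⟩ : ∃ M : Submodule A R, M.FG ∧ ∀ x : R, ∃ N : ℕ, a ^ N • x ∈ M := by
      let Ac := Γ(Spec (CommRingCat.of A), Da)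
      letI : Algebra A Ac := StructureSheaf.openAlgebra A (Opposite.op Da)
      haveI : IsLocalization.Away a Ac := StructureSheaf.IsLocalization.to_basicOpen A a
      let α : Ac ⟶ E := πA.appLE Da W hW'.le
      letI : Algebra Ac E := α.hom.toAlgebra
      haveI : Module.Finite Ac E := by
        rw [← RingHom.finite_algebraMap]
        show α.hom.Finite
        have ee : α = πA.app Da ≫ Z.presheaf.map (eqToHom hW').op := by
          rw [Scheme.Hom.app_eq_appLE, Scheme.Hom.appLE_map]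
        rw [ee]
        refine RingHom.Finite.comp (RingHom.Finite.of_surjective _
          (ConcreteCategory.bijective_of_isIso (Z.presheaf.map (eqToHom hW').op)).2) ?_
        show ((q.app (U'.ι ⁻¹ᵁ Da)).hom.comp (U'.ι.app Da).hom).Finite
        haveI := U'.ι.isIso_app _ hle
        exact RingHom.Finite.comp (q.finite_app _ ((isAffineOpen_basicOpen_spec a).preimage_of_isOpenImmersion _ hle))
          (RingHom.Finite.of_surjective _ (ConcreteCategory.bijective_of_isIso (U'.ι.app Da)).2)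
      have hA : ∀ k : A, algebraMap Ac E (algebraMap A Ac k) = res (algebraMap A R k) := fun k => by
        show (((Scheme.ΓSpecIso (CommRingCat.of A)).inv ≫ (Spec (CommRingCat.of A)).presheaf.map (homOfLE le_top).op) ≫ α) k =
          (((Scheme.ΓSpecIso (CommRingCat.of A)).inv ≫ πA.appTop) ≫ Z.presheaf.map (homOfLE le_top).op) k
        rw [Category.assoc, Category.assoc, Scheme.Hom.map_appLE]
        simp only [Scheme.Hom.appTop, Scheme.Hom.app_eq_appLE, Scheme.Hom.appLE_map]
        rfl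
      obtain ⟨gens, hgens⟩ := Module.Finite.fg_top (R := Ac) (M := E)
      choose N g hg using hsurj
      let M : Submodule A R := Submodule.span A ((gens.image g : Finset R) : Set R)
      refine ⟨M, ⟨gens.image g, rfl⟩, fun x => ?_⟩
      have hk : ∀ z : E, ∃ (K : ℕ) (y : R), y ∈ M ∧ res y = res (algebraMap A R a) ^ K * z := by
        intro z
        induction (hgens.ge (Submodule.mem_top (x := z))) using Submodule.span_induction with
        | mem z hz => exact ⟨N z, g z, Submodule.subset_span (Finset.mem_image_of_mem g hz), hg z⟩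
        | zero => exact ⟨0, 0, zero_mem _, by simp⟩
        | add z₁ z₂ _ _ h₁ h₂ =>
          obtain ⟨K₁, y₁, m₁, e₁⟩ := h₁
          obtain ⟨K₂, y₂, m₂, e₂⟩ := h₂
          refine ⟨K₁ + K₂, a ^ K₂ • y₁ + a ^ K₁ • y₂, add_mem (M.smul_mem _ m₁) (M.smul_mem _ m₂), ?_⟩
          rw [map_add, hres, hres, map_pow, map_pow, map_pow, map_pow, e₁, e₂, pow_add]
          ring
        | smul b z _ h₁ =>
          obtain ⟨K₁, y₁, m₁, e₁⟩ := h₁
          obtain ⟨k, b', hb'⟩ := IsLocalization.Away.surj a b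
          refine ⟨k + K₁, b' • y₁, M.smul_mem _ m₁, ?_⟩
          have h2 := congrArg (algebraMap Ac E) hb'
          rw [map_mul, map_pow, hA, hA] at h2
          rw [hres, e₁, Algebra.smul_def, ← h2, pow_add]
          ring
      obtain ⟨K₀, y, hy, e'⟩ := hk (res x)
      obtain ⟨n₀, hn₀⟩ := hsep y (a ^ K₀ • x) (by rw [hres, map_pow, map_pow]; exact e')
      exact ⟨n₀ + K₀, by rw [pow_add, mul_smul, ← hn₀]; exact M.smul_mem _ hy⟩
    haveI : Module.Finite A M := Module.Finite.iff_fg.2 hMfg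
    -- kernel of restriction to a truncation
    have hker : ∀ (n : ℕ) (x : R), r n x = 0 → ∃ (N : ℕ) (y : R), a ^ N • x = f ^ (n + 1) • y := by
      intro n x hx
      let ν : E := res (algebraMap A R (f ^ (n + 1)))
      let E' : CommRingCat.{u} := CommRingCat.of (E ⧸ Ideal.span {ν})
      let π : E ⟶ E' := CommRingCat.ofHom (Ideal.Quotient.mk _)
      let γ : CommRingCat.of A ⟶ E' := CommRingCat.ofHom (algebraMap A R) ≫ CommRingCat.ofHom res ≫ π
      let β : CommRingCat.of (A ⧸ Ideal.span {f} ^ (n + 1)) ⟶ E' :=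
        CommRingCat.ofHom (Ideal.Quotient.lift _ γ.hom fun k hk => by
          obtain ⟨b, rfl⟩ := Ideal.mem_span_singleton'.1 ((Ideal.span_singleton_pow f (n + 1)) ▸ hk)
          rw [map_mul]
          exact mul_eq_zero_of_right _ (Ideal.Quotient.eq_zero_iff_mem.2 (Ideal.mem_span_singleton_self ν)))
      have hto : hW.fromSpec ≫ Z.toSpecΓ = Spec.map (CommRingCat.ofHom res) := hW.fromSpec_toSpecΓ
      have hπA : πA = Z.toSpecΓ ≫ Spec.map (CommRingCat.ofHom (algebraMap A R)) := by
        refine Eq.symm ?_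
        show Z.toSpecΓ ≫ Spec.map ((Scheme.ΓSpecIso (CommRingCat.of A)).inv ≫ πA.appTop) = πA
        rw [Spec.map_comp, ← Scheme.toSpecΓ_naturality_assoc, toSpecΓ_SpecMap_ΓSpecIso_inv, Category.comp_id]
      have hab : (Spec.map π ≫ hW.fromSpec) ≫ πA = Spec.map β ≫ sq n := by
        rw [hπA, Category.assoc, reassoc_of% hto, ← Spec.map_comp, ← Spec.map_comp,
          show sq n = Spec.map (CommRingCat.ofHom (Ideal.Quotient.mk (Ideal.span {f} ^ (n + 1)))) from rfl,
          ← Spec.map_comp]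
        rfl
      let l : Spec E' ⟶ D.Y n := pullback.lift (Spec.map π ≫ hW.fromSpec) (Spec.map β) hab
      have h1 : l ≫ ι n ≫ Z.toSpecΓ = Spec.map (CommRingCat.ofHom res ≫ π) := by
        rw [← Category.assoc, show l ≫ ι n = Spec.map π ≫ hW.fromSpec from pullback.lift_fst _ _ _,
          Category.assoc, hto, ← Spec.map_comp]
      have h2 : l ≫ ι n ≫ Z.toSpecΓ = Spec.map ((ι n).appTop ≫ l.appTop ≫ (Scheme.ΓSpecIso E').hom) := by
        rw [Scheme.toSpecΓ_naturality, Scheme.toSpecΓ_naturality_assoc, Spec.map_comp, Spec.map_comp]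
        have h3 : (Spec E').toSpecΓ = Spec.map (Scheme.ΓSpecIso E').hom := by
          rw [← cancel_mono (Spec.map (Scheme.ΓSpecIso E').inv), toSpecΓ_SpecMap_ΓSpecIso_inv, ← Spec.map_comp,
            Iso.inv_hom_id, Spec.map_id]
        rw [h3, Category.assoc]
      have h4 := ConcreteCategory.congr_hom (Spec.map_injective (h2.symm.trans h1)) x
      replace h4 : π (res x) = 0 := by
        refine h4.symm.trans ?_
        show (Scheme.ΓSpecIso E').hom (l.appTop (r n x)) = 0
        rw [hx, map_zero, map_zero]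
      obtain ⟨z, hz⟩ := Ideal.mem_span_singleton'.1 (Ideal.Quotient.eq_zero_iff_mem.1 h4)
      obtain ⟨N, y, hy⟩ := hsurj z
      obtain ⟨N', hN'⟩ := hsep (a ^ N • x) (f ^ (n + 1) • y) (by rw [hres, hres, map_pow, map_pow, hy, ← hz]; ring)
      exact ⟨N' + N, a ^ N' • y, by rw [pow_add, mul_smul, hN', smul_comm]⟩
    -- surjectivity on the bottom
    have hbot : ∀ g : D.Sec 0, ∃ (N : ℕ) (x : R), r 0 x = a ^ N • g := by
      intro g
      have hpre : ι 0 ⁻¹ᵁ W = D.W 0 a := by
        rw [Scheme.preimage_basicOpen_top]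
        exact congrArg (D.Y 0).basicOpen ((r 0).commutes a)
      have hsur : Function.Surjective ((ι 0).appLE W (D.W 0 a) hpre.ge) := by
        have ee : (ι 0).appLE W (D.W 0 a) hpre.ge = (ι 0).app W ≫ (D.Y 0).presheaf.map (eqToHom hpre.symm).op := by
          rw [Scheme.Hom.app_eq_appLE, Scheme.Hom.appLE_map]
        rw [ee]
        exact (ConcreteCategory.bijective_of_isIso ((D.Y 0).presheaf.map (eqToHom hpre.symm).op)).2.comp
          ((ι 0).app_surjective _ hW)
      obtain ⟨z, hz⟩ := hsur (D.rW 0 a g)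
      obtain ⟨N, x, hx⟩ := hsurj z
      have hnat : ∀ y : R, (ι 0).appLE W (D.W 0 a) hpre.ge (res y) = D.rW 0 a (r 0 y) := fun y => by
        show (Z.presheaf.map (homOfLE le_top).op ≫ (ι 0).appLE W (D.W 0 a) hpre.ge) y =
          ((ι 0).appTop ≫ (D.Y 0).presheaf.map (homOfLE le_top).op) y
        rw [Scheme.Hom.map_appLE, Scheme.Hom.appTop, Scheme.Hom.app_eq_appLE, Scheme.Hom.appLE_map]
      obtain ⟨N', hN'⟩ := D.exists_of_rW_eq (c := a) (x := r 0 x) (y := a ^ N • g) (by
        rw [← hnat, hx, map_mul, map_pow, hz, hnat, AlgHom.commutes, Tower.rW_smul, map_pow, map_pow])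
      exact ⟨N' + N, a ^ N' • x, by rw [map_smul, hN', smul_smul, ← pow_add]⟩
    haveI := P.2
    let φ : M →ₗ[A] L.lim := ρ.toLinearMap.comp M.subtype
    obtain ⟨s₁, hs₁, hk₁⟩ := exists_kill_away P.asIdeal (M := LinearMap.ker φ) fun x => by
      obtain ⟨s, hs, hsx⟩ := exists_kill_of_divisible P.asIdeal hfP haP x.1 fun n => by
        obtain ⟨N, y, hy⟩ := hker n x.1.1 (congrArg (L.proj n) x.2)
        obtain ⟨N', hN'⟩ := hM (f • y)
        refine ⟨N' + N, ⟨_, hN'⟩, Subtype.ext ?_⟩
        show a ^ (N' + N) • x.1.1 = f ^ n • a ^ N' • f • y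
        rw [pow_add, mul_smul, hy, pow_succ, mul_smul, smul_comm (f ^ n) (a ^ N')]
      exact ⟨s, hs, Subtype.ext hsx⟩
    obtain ⟨s₂, hs₂, hk₂⟩ := exists_kill_away P.asIdeal (M := L.lim ⧸ LinearMap.range φ) fun x =>
      exists_kill_of_nakayama P.asIdeal hfP haP (fun x => by
        obtain ⟨b, rfl⟩ := Submodule.mkQ_surjective _ x
        obtain ⟨N, z, hz⟩ := hbot (L.proj 0 b)
        obtain ⟨N', hN'⟩ := hM z
        obtain ⟨y, hy⟩ := (L.proj_eq_zero_iff 0 (a ^ (N' + N) • b - ρ (a ^ N' • z))).1 (by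
          rw [map_sub, map_smul]
          show a ^ (N' + N) • (show D.Sec 0 from L.proj 0 b) - r 0 (a ^ N' • z) = 0
          rw [map_smul, hz, pow_add, mul_smul, sub_self])
        refine ⟨N' + N, (LinearMap.range φ).mkQ y, ?_⟩
        rw [← map_smul, ← map_smul]
        refine (Submodule.Quotient.eq _).2 ⟨⟨_, hN'⟩, ?_⟩
        show ρ (a ^ N' • z) = a ^ (N' + N) • b - f • y
        rw [zero_add, pow_one] at hy
        rw [← hy, sub_sub_cancel]) x
    obtain ⟨N₂, hN₂⟩ := hk₂ ((LinearMap.range φ).mkQ ê)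
    rw [← map_smul] at hN₂
    obtain ⟨x₂, hx₂⟩ := (Submodule.Quotient.mk_eq_zero _).1 hN₂
    refine ⟨a * s₁ * s₂ ^ (N₂ + 1), (a * s₁ * s₂) • x₂.1, ?_, fun y hy => ?_, ?_⟩
    · exact fun h => ((P.2.mem_or_mem h).elim (fun h => (P.2.mem_or_mem h).elim haP hs₁)
        fun h => hs₂ (P.2.mem_of_pow_mem _ h))
    · obtain ⟨N, hN⟩ := hM y
      obtain ⟨k, hk⟩ := hk₁ ⟨⟨_, hN⟩, by
        show ρ (a ^ N • y) = 0
        rw [map_smul, hy, smul_zero]⟩
      refine ⟨N + k, ?_⟩
      have hk' : s₁ ^ k • a ^ N • y = 0 := congrArg (fun w : LinearMap.ker φ => w.1.1) hk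
      rw [show (a * s₁ * s₂ ^ (N₂ + 1)) ^ (N + k) =
          (a ^ k * s₁ ^ N * (s₂ ^ (N₂ + 1)) ^ (N + k)) * (s₁ ^ k * a ^ N) by ring,
        mul_smul, mul_smul (s₁ ^ k), hk', smul_zero]
    · rw [map_smul, show ρ x₂.1 = s₂ ^ N₂ • ê from hx₂, smul_smul]
      congr 1
      ring
  -- the two neighbourhoods
  let S := {t : A × R // (∀ y, ρ y = 0 → ∃ N : ℕ, t.1 ^ N • y = 0) ∧ ρ t.2 = t.1 • ê}
  let cb : S → R := fun t => algebraMap A R t.1.1
  let O₁ : Z.Opens := ⨆ t : S, Z.basicOpen (cb t) ⊓ Z.basicOpen t.1.2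
  let O₂ : Z.Opens := ⨆ t : S, Z.basicOpen (cb t) ⊓ Z.basicOpen (cb t - t.1.2)
  have hpt : ∀ z ∈ C₁ ∪ C₂, ∃ (t : S) (y : D.Y 0), ι 0 y = z ∧ z ∈ Z.basicOpen (cb t) := by
    intro z hz
    rw [hC] at hz
    obtain ⟨c, x, hc, h1, h2⟩ := key (πA z) (q z).2 hz
    refine ⟨⟨(c, x), h1, h2⟩, ?_⟩
    have hzr : z ∈ Set.range (ι 0) := by
      show z ∈ Set.range (pullback.fst (q ≫ U'.ι) (sq 0))
      rw [Scheme.Pullback.range_fst]
      refine (range_comap_of_surjective _ _ Ideal.Quotient.mk_surjective).ge ?_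
      rw [Ideal.mk_ker, zero_add, pow_one]
      exact (Ideal.span_singleton_le_iff_mem _).2 hz
    obtain ⟨y, hy⟩ := hzr
    refine ⟨y, hy, ?_⟩
    show z ∈ Z.basicOpen (πA.appTop ((Scheme.ΓSpecIso (CommRingCat.of A)).inv c))
    rw [← Scheme.preimage_basicOpen_top]
    show πA z ∈ (Spec (CommRingCat.of A)).basicOpen _
    rw [basicOpen_eq_of_affine (R := CommRingCat.of A) c]
    exact hc
  have hpre : ∀ (t : S) (y : D.Y 0), ι 0 y ∈ Z.basicOpen (cb t) →
      ∀ (x : R) (w : D.Sec 0), r 0 x = algebraMap A (D.Sec 0) t.1.1 * w →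
        y ∈ (D.Y 0).basicOpen w → ι 0 y ∈ Z.basicOpen x := by
    intro t y ht x w hxw hw
    have ht' : y ∈ ι 0 ⁻¹ᵁ Z.basicOpen (cb t) := ht
    rw [Scheme.preimage_basicOpen_top] at ht'
    show y ∈ ι 0 ⁻¹ᵁ Z.basicOpen x
    rw [Scheme.preimage_basicOpen_top, show (ι 0).appTop x = r 0 x from rfl, hxw, Scheme.basicOpen_mul]
    refine ⟨?_, hw⟩
    rw [← (r 0).commutes t.1.1]
    exact ht'
  have hr0 : ∀ t : S, r 0 t.1.2 = algebraMap A (D.Sec 0) t.1.1 * e 0 := fun t => by
    have h := congrArg (L.proj 0) t.2.2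
    rw [map_smul, Algebra.smul_def] at h
    exact h
  refine ⟨O₁, O₂, ?_, fun z hz => ?_, fun z hz => ?_⟩
  · refine Set.disjoint_left.2 fun z hz₁ hz₂ => ?_
    obtain ⟨t, ht1, ht2⟩ := Opens.mem_iSup.1 hz₁
    obtain ⟨t', ht1', ht2'⟩ := Opens.mem_iSup.1 hz₂
    obtain ⟨N, hN⟩ := t.2.1 (t.1.2 * (cb t' - t'.1.2)) (by
      rw [map_mul, map_sub, t.2.2, t'.2.2, show ρ (cb t') = algebraMap A L.lim t'.1.1 from ρ.commutes _,
        Algebra.smul_def, Algebra.smul_def]
      linear_combination (-(algebraMap A L.lim t.1.1 * algebraMap A L.lim t'.1.1)) * hee)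
    have : z ∈ Z.basicOpen (t.1.1 ^ N • (t.1.2 * (cb t' - t'.1.2))) := by
      rw [Algebra.smul_def, map_pow, Scheme.basicOpen_mul, Scheme.basicOpen_mul]
      refine ⟨?_, ht2, ht2'⟩
      rcases N with _ | N
      · rw [pow_zero, Scheme.basicOpen_of_isUnit _ isUnit_one]; trivial
      · rw [Scheme.basicOpen_pow _ (h := N.succ_pos)]
        exact ht1
    rw [hN, Scheme.basicOpen_zero] at this
    exact this.elim
  · obtain ⟨t, y, rfl, ht⟩ := hpt z (Or.inl hz)
    exact Opens.mem_iSup.2 ⟨t, ht, hpre t y ht _ _ (hr0 t) ((hbe 0).ge hz)⟩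
  · obtain ⟨t, y, rfl, ht⟩ := hpt z (Or.inr hz)
    refine Opens.mem_iSup.2 ⟨t, ht, hpre t y ht _ (1 - e 0) ?_ ?_⟩
    · rw [map_sub, hr0, AlgHom.commutes]; ring
    · exact mem_basicOpen_one_sub _ fun h => Set.disjoint_right.1 hdisj hz ((hbe 0).le h)

end Groth.Agent.H11Alg
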