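import Groth.Agent.H18PBC.FormalEtale

/-!
# A finite morphism with étale truncations is étale near the closed subscheme
-/

set_option autoImplicit false
set_option linter.style.haveILetI false
set_option backward.isDefEq.respectTransparency false

universe u

open CategoryTheory CategoryTheory.Limits AlgebraicGeometry TensorProduct

namespace Groth.Agent.H11Alg

/-- A finite morphism with étale truncations is étale near the closed subscheme. -/
theorem etale_nhd_of_truncations {A : Type u} [CommRing A] [IsNoetherianRing A] (I : Ideal A)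
    {X W : Scheme.{u}} [IsLocallyNoetherian X] (f : X ⟶ Spec (CommRingCat.of A))
    (c : W ⟶ X) [IsFinite c] (h : ∀ n, Etale (pullback.snd c (CohB1.thickι f I n))) (w₀ : W)
    (hw₀ : f (c w₀) ∈ PrimeSpectrum.zeroLocus (I : Set A)) :
    ∃ V : W.Opens, w₀ ∈ V ∧ Etale (V.ι ≫ c) := by
  let Z : Set (Spec (CommRingCat.of A)) := PrimeSpectrum.zeroLocus (I : Set A)
  have hrange : Z ⊆ Set.range (CohB1.specQuot I 0) := by
    intro s hs
    refine (range_comap_of_surjective _ _ Ideal.Quotient.mk_surjective).ge ?_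
    rw [Ideal.mk_ker, pow_one]
    exact hs
  -- unramified along the closed fibre
  have hu : ∀ w : W, f (c w) ∈ Z → w ∈ H06EGA9.unramSet c := fun w hw => by
    refine (H06EGA9.formallyUnramified_iff_of_isPullback c
      (IsPullback.of_hasPullback c (CohB1.thickι f I 0))).1 (by haveI := h 0; infer_instance) ?_
    show c w ∈ Set.range (pullback.fst f (CohB1.specQuot I 0))
    rw [Scheme.Pullback.range_fst]
    exact hrange hw
  -- flat along the closed fibre
  have hfl : ∀ w : W, f (c w) ∈ Z → (c.stalkMap w).hom.Flat := fun w hw => by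
    obtain ⟨_, ⟨U, (hU : IsAffineOpen U), rfl⟩, hwU, -⟩ :=
      X.isBasis_affineOpens.exists_subset_of_mem_open (Set.mem_univ (c w)) isOpen_univ
    haveI : IsNoetherianRing Γ(X, U) := IsLocallyNoetherian.component_noetherian ⟨U, hU⟩
    have hW : IsAffineOpen (c ⁻¹ᵁ U) := hU.preimage c
    letI := (c.appLE U (c ⁻¹ᵁ U) le_rfl).hom.toAlgebra
    have hsq : Spec.map (CommRingCat.ofHom (algebraMap Γ(X, U) Γ(W, c ⁻¹ᵁ U))) ≫ hU.fromSpec = hW.fromSpec ≫ c :=
      IsAffineOpen.SpecMap_appLE_fromSpec c hU hW le_rfl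
    haveI : IsOpenImmersion hU.fromSpec := hU.isOpenImmersion_fromSpec
    haveI : IsOpenImmersion hW.fromSpec := hW.isOpenImmersion_fromSpec
    have hpb : IsPullback hW.fromSpec (Spec.map (CommRingCat.ofHom (algebraMap Γ(X, U) Γ(W, c ⁻¹ᵁ U)))) c hU.fromSpec :=
      (IsOpenImmersion.isPullback _ hW.fromSpec hU.fromSpec c hsq.symm (by rw [hW.opensRange_fromSpec, hU.opensRange_fromSpec])).flip
    haveI : Module.Finite Γ(X, U) Γ(W, c ⁻¹ᵁ U) := by
      rw [← RingHom.finite_algebraMap]
      show (CommRingCat.ofHom (algebraMap Γ(X, U) Γ(W, c ⁻¹ᵁ U))).hom.Finite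
      rw [← IsFinite.SpecMap_iff]
      exact MorphismProperty.of_isPullback hpb inferInstance
    let φ : A →+* Γ(X, U) := ((Scheme.ΓSpecIso _).inv ≫ f.appLE ⊤ U le_top).hom
    have hφ : hU.fromSpec ≫ f = Spec.map (CommRingCat.ofHom φ) := by
      rw [← IsAffineOpen.SpecMap_appLE_fromSpec f (isAffineOpen_top _) hU le_top,
        IsAffineOpen.fromSpec_top, Scheme.isoSpec_Spec_inv, ← Spec.map_comp]
      rfl
    obtain ⟨q, hq⟩ := hW.range_fromSpec.ge (show w ∈ ((c ⁻¹ᵁ U : W.Opens) : Set W) from hwU)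
    subst hq
    rw [← H17.LocusBC.flat_stalkMap_comp_iff hW.fromSpec c hU.fromSpec _ hsq q]
    refine H18PBC.FormalEtale.flat_stalkMap_Spec (I.map φ) (fun n => ?_) q ?_
    · let a := Spec.map (CommRingCat.ofHom (Ideal.Quotient.mk ((I.map φ) ^ (n + 1)))) ≫ hU.fromSpec
      have hle : I ^ (n + 1) ≤ ((I.map φ) ^ (n + 1)).comap φ := by
        rw [← Ideal.map_le_iff_le_comap, Ideal.map_pow]
      let b := Spec.map (CommRingCat.ofHom (Ideal.quotientMap ((I.map φ) ^ (n + 1)) φ hle))
      have hab : a ≫ f = b ≫ CohB1.specQuot I n := by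
        rw [Category.assoc, hφ, CohB1.specQuot, ← Spec.map_comp, ← Spec.map_comp]
        rfl
      let ℓ : _ ⟶ CohB1.thick f I n := pullback.lift a b hab
      have hℓ : ℓ ≫ CohB1.thickι f I n = a := pullback.lift_fst _ _ _
      haveI := h n
      have hbc : Flat (pullback.snd c a) := by
        have hP := MorphismProperty.pullback_snd (P := @Flat) (pullback.snd c (CohB1.thickι f I n)) ℓ inferInstance
        have hQ := (IsPullback.of_hasPullback (pullback.snd c (CohB1.thickι f I n)) ℓ).paste_horiz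
          (IsPullback.of_hasPullback c (CohB1.thickι f I n))
        rw [hℓ] at hQ
        rw [← hQ.isoPullback_inv_snd]
        infer_instance
      have hQ' := (IsPullback.of_hasPullback (Spec.map (CommRingCat.ofHom (algebraMap Γ(X, U) Γ(W, c ⁻¹ᵁ U))))
        (Spec.map (CommRingCat.ofHom (Ideal.Quotient.mk ((I.map φ) ^ (n + 1)))))).paste_horiz hpb
      rw [← hQ'.isoPullback_hom_snd]
      infer_instance
    · have hz : f (c (hW.fromSpec q)) =
          (Spec.map (CommRingCat.ofHom φ)) (Spec.map (CommRingCat.ofHom (algebraMap Γ(X, U) Γ(W, c ⁻¹ᵁ U))) q) := by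
        rw [← hφ, ← Scheme.Hom.comp_apply, ← Scheme.Hom.comp_apply, ← Scheme.Hom.comp_apply]
        rw [reassoc_of% hsq]; rfl
      rw [hz] at hw
      rw [Ideal.map_le_iff_le_comap, Ideal.map_le_iff_le_comap]
      exact hw
  exact (H9Hens.etale_nhd_iff c w₀).2 ⟨hfl w₀ hw₀, hu w₀ hw₀⟩

end Groth.Agent.H11Alg
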