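import Groth.Agent.H11Alg.Tower
import Groth.Agent.H11Alg.Bound
import Groth.Agent.H18Pur.Formal.Coord
import Groth.Agent.H4LC.CanonCM
import Mathlib.AlgebraicGeometry.Morphisms.Finite

/-!
# Finiteness of the sections at the bottom level
-/

set_option autoImplicit false
set_option linter.style.haveILetI false
set_option backward.isDefEq.respectTransparency false

universe u

open CategoryTheory CategoryTheory.Limits AlgebraicGeometry TopologicalSpace IsLocalRing
open scoped TensorProduct

namespace Groth.Agent.H11Alg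

variable {A : Type u} [CommRing A] [IsLocalRing A] {T : Finset A} (hT : Ideal.span (T : Set A) = maximalIdeal A)

include hT in
/-- Finiteness of multiples of local cohomology of a module that is locally a summand of copies of `Q`. -/
theorem finite_range_H_of_dual [IsNoetherianRing A] (a : A) (i : ℕ) (M Q : Type u) [AddCommGroup M] [Module A M]
    [Module.Finite A M] [AddCommGroup Q] [Module A Q]
    (hQ : Module.Finite A (LinearMap.range (LinearMap.lsmul A (LocCoh.H (maximalIdeal A) i Q) a)))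
    (hd : ∀ c ∈ T, ∃ (L n : ℕ) (φ : Fin n → (M →ₗ[A] Q)) (ψ : Fin n → (Q →ₗ[A] M)),
      ∀ y, ∑ k, ψ k (φ k y) = c ^ L • y) :
    Module.Finite A (LinearMap.range (LinearMap.lsmul A (LocCoh.H (maximalIdeal A) i M) a)) := by
  classical
  choose L n φ ψ hψ using hd
  let H := LocCoh.H (maximalIdeal A) i M
  let P := LinearMap.range (LinearMap.lsmul A (LocCoh.H (maximalIdeal A) i Q) a)
  let V := LinearMap.range (LinearMap.lsmul A H a)
  haveI : IsArtinian A H := H4LC.isArtinian_H i M
  let W : Submodule A H :=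
    ⨆ c : T, ⨆ k, P.map (H4LC.Hmap (maximalIdeal A) (ψ c.1 c.2 k) i)
  haveI : Module.Finite A P := hQ
  haveI : Module.Finite A W := inferInstance
  obtain ⟨R, hR⟩ := H4LC.exists_pow_smul_top_eq_bot_of_isFiniteLength
    (isFiniteLength_iff_isNoetherian_isArtinian.2 ⟨(inferInstance : IsNoetherian A W), (inferInstance : IsArtinian A W)⟩)
  have hW : ∀ c (hc : c ∈ T) (x : H), c ^ L c hc • a • x ∈ W := by
    intro c hc x
    have e : ∑ k, ψ c hc k ∘ₗ φ c hc k = (c ^ L c hc) • (LinearMap.id : M →ₗ[A] M) := LinearMap.ext fun y => by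
      simpa using hψ c hc y
    have e' : (∑ k, H4LC.Hmap (maximalIdeal A) (ψ c hc k ∘ₗ φ c hc k) i) (a • x) = c ^ L c hc • a • x := by
      have h1 : ∑ k, H4LC.Hmap (maximalIdeal A) (ψ c hc k ∘ₗ φ c hc k) i =
          H4LC.Hmap (maximalIdeal A) (∑ k, ψ c hc k ∘ₗ φ c hc k) i :=
        (map_sum (H4LC.HmapHom (maximalIdeal A) M M i) _ _).symm
      rw [h1, e, H4LC.Hmap_smul_id]
    rw [← e', LinearMap.sum_apply]
    refine Submodule.sum_mem _ fun k _ => ?_
    rw [H4LC.Hmap_comp, LinearMap.comp_apply, map_smul (H4LC.Hmap (maximalIdeal A) (φ c hc k) i) a x]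
    exact Submodule.mem_iSup_of_mem ⟨c, hc⟩ (Submodule.mem_iSup_of_mem k
      (Submodule.mem_map_of_mem ⟨H4LC.Hmap (maximalIdeal A) (φ c hc k) i x, rfl⟩))
  let K₁ := T.attach.sup fun c => L c.1 c.2
  obtain ⟨S, hS⟩ := exists_pow_le_span (T := T) (K₁ + R)
  rw [hT] at hS
  refine finite_of_isArtinian_of_killed V S fun b hb ⟨v, hv⟩ => ?_
  obtain ⟨x, rfl⟩ := hv
  refine Subtype.ext ?_
  show b • a • x = 0
  have := hS hb
  clear hb
  induction this using Submodule.span_induction with
  | mem b hb =>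
    obtain ⟨c, hc, rfl⟩ := hb
    have hle : L c hc ≤ K₁ := Finset.le_sup (f := fun c : T => L c.1 c.2) (Finset.mem_attach T ⟨c, hc⟩)
    obtain ⟨d, hd⟩ := Nat.exists_eq_add_of_le hle
    show c ^ (K₁ + R) • a • x = 0
    have hw : (⟨_, hW c hc (c ^ d • x)⟩ : W) ∈ (⊤ : Submodule A W) := trivial
    have h0 := Submodule.smul_mem_smul (Ideal.pow_mem_pow (hT ▸ Ideal.subset_span hc : c ∈ maximalIdeal A) R) hw
    rw [hR, Submodule.mem_bot] at h0
    have h1 := congrArg Subtype.val h0
    simp only [SetLike.val_smul, ZeroMemClass.coe_zero] at h1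
    rwa [smul_comm a (c ^ d) x, smul_smul, smul_smul, ← pow_add, ← pow_add,
      show R + L c hc + d = K₁ + R by omega] at h1
  | zero => exact zero_smul _ _
  | add p q _ _ hp hq => rw [add_smul, hp, hq, add_zero]
  | smul t p _ hp => rw [smul_eq_mul, mul_smul, hp, smul_zero]

variable {G : Type u} [AddCommGroup G] [Module A G]

include hT in
theorem torsionSub_quotient_eq_top (G' : Submodule A G) (htor : ∀ x : G, ∀ c ∈ T, ∃ K : ℕ, c ^ K • x ∈ G') :
    DRing.torsionSub (maximalIdeal A) (G ⧸ G') = ⊤ := eq_top_iff.2 fun x _ => by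
  obtain ⟨x, rfl⟩ := G'.mkQ_surjective x
  exact (mem_torsionSub_iff hT _).2 fun c hc => (htor x c hc).imp fun K hK => by
    rw [← map_smul]; exact (Submodule.Quotient.mk_eq_zero _).2 hK

include hT in
/-- Multiples of sections are finite when those of the first cohomology of a finite submodule are. -/
theorem IsSat.finite_range [IsNoetherianRing A] (h : IsSat T G) (G' : Submodule A G) [Module.Finite A G']
    (htor : ∀ x : G, ∀ c ∈ T, ∃ K : ℕ, c ^ K • x ∈ G') (a : A)
    (h1 : Module.Finite A (LinearMap.range (LinearMap.lsmul A (LocCoh.H (maximalIdeal A) 1 G') a))) :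
    Module.Finite A (LinearMap.range (LinearMap.lsmul A G a)) := by
  let δ := H4LC.δH (maximalIdeal A) G'.subtype_injective G'.mkQ_surjective (LinearMap.exact_subtype_mkQ G') 0
  have hδ : Function.Injective δ := H4LC.δH_injective (maximalIdeal A) _ _ _ 0 (h.subsingleton_H_zero hT)
  let i₀ : (G ⧸ G') ≃ₗ[A] LocCoh.H (maximalIdeal A) 0 (G ⧸ G') :=
    ((H4LC.zeroEquiv (maximalIdeal A) _).trans ((LinearEquiv.ofEq _ _ (torsionSub_quotient_eq_top hT G' htor)).trans
      Submodule.topEquiv)).symm
  let R := LinearMap.range (LinearMap.lsmul A G a)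
  let φ : R →ₗ[A] LinearMap.range (LinearMap.lsmul A (LocCoh.H (maximalIdeal A) 1 G') a) :=
    ((δ ∘ₗ i₀.toLinearMap) ∘ₗ G'.mkQ ∘ₗ R.subtype).codRestrict _ (by
      rintro ⟨_, x, rfl⟩
      exact ⟨(δ ∘ₗ i₀.toLinearMap) (G'.mkQ x), by
        show a • _ = (δ ∘ₗ i₀.toLinearMap) (G'.mkQ (a • x))
        rw [map_smul, map_smul]⟩)
  haveI : Module.Finite A (R ⧸ LinearMap.ker φ) :=
    Module.Finite.equiv (LinearMap.quotKerEquivRange φ).symm
  haveI : Module.Finite A (LinearMap.ker φ) := by
    let j : LinearMap.ker φ →ₗ[A] G' := (R.subtype ∘ₗ (LinearMap.ker φ).subtype).codRestrict _ fun x => by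
      have h2 : G'.mkQ x.1.1 = 0 := i₀.injective (hδ (by
        rw [map_zero, map_zero]; exact congrArg Subtype.val x.2))
      exact (Submodule.Quotient.mk_eq_zero _).1 h2
    exact Module.Finite.of_injective j fun x y hxy => Subtype.ext (Subtype.ext (congrArg (fun z : G' => z.1) hxy))
  exact Module.Finite.of_submodule_quotient (LinearMap.ker φ)

include hT in
theorem finite_range_H_two [IsNoetherianRing A] (G' : Submodule A G) (htor : ∀ x : G, ∀ c ∈ T, ∃ K : ℕ, c ^ K • x ∈ G') (a : A)
    (h2 : Module.Finite A (LinearMap.range (LinearMap.lsmul A (LocCoh.H (maximalIdeal A) 2 G') a))) :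
    Module.Finite A (LinearMap.range (LinearMap.lsmul A (LocCoh.H (maximalIdeal A) 2 G) a)) := by
  have hpt : LocCoh.IsPowerTorsion (maximalIdeal A) (G ⧸ G') := fun x => by
    have hx : x ∈ DRing.torsionSub (maximalIdeal A) (G ⧸ G') := by
      rw [torsionSub_quotient_eq_top hT G' htor]; trivial
    exact (H4LC.isPowerTorsion_torsionSub (maximalIdeal A) (G ⧸ G') ⟨x, hx⟩).imp fun n hn b hb =>
      congrArg Subtype.val (hn b hb)
  let u := H4LC.Hmap (maximalIdeal A) G'.subtype 2
  have hu : Function.Surjective u := fun x =>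
    (H4LC.exactH₂ (maximalIdeal A) G'.subtype_injective G'.mkQ_surjective (LinearMap.exact_subtype_mkQ G') 2 x).1
      ((H4LC.subsingleton_H_of_isPowerTorsion (maximalIdeal A) 2 (G ⧸ G') hpt two_pos).elim _ _)
  have he : LinearMap.range (LinearMap.lsmul A (LocCoh.H (maximalIdeal A) 2 G) a) =
      (LinearMap.range (LinearMap.lsmul A (LocCoh.H (maximalIdeal A) 2 G') a)).map u := by
    refine le_antisymm ?_ ?_
    · rintro _ ⟨x, rfl⟩
      obtain ⟨y, rfl⟩ := hu x
      exact ⟨a • y, ⟨y, rfl⟩, map_smul u a y⟩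
    · rintro _ ⟨_, ⟨y, rfl⟩, rfl⟩
      exact ⟨u y, (map_smul u a y).symm⟩
  rw [he]
  exact Module.Finite.map _ _

end Groth.Agent.H11Alg

namespace Groth.Agent.H11Alg.Tower

variable {A : Type u} [CommRing A] [IsNoetherianRing A] [IsLocalRing A] {f : A} {T : Finset A} (D : Tower A f T)

set_option maxHeartbeats 1000000 in
/-- Multiples of the sections, and of their second local cohomology, are finite. -/
theorem finite_range_level' (hT : Ideal.span (T : Set A) = maximalIdeal A) (K N : ℕ)
    (hfinApp : ∀ c ∈ T, ((D.p N).app (PrimeSpectrum.basicOpen (Ideal.Quotient.mk (Ideal.span {f} ^ (N + 1)) c))).hom.Finite) :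
    (Module.Finite A (LinearMap.range (LinearMap.lsmul A
      (LocCoh.H (maximalIdeal A) 1 (A ⧸ Ideal.span {f} ^ (N + 1))) (f ^ K))) →
      Module.Finite A (LinearMap.range (LinearMap.lsmul A (D.Sec N) (f ^ K)))) ∧
    (Module.Finite A (LinearMap.range (LinearMap.lsmul A
      (LocCoh.H (maximalIdeal A) 2 (A ⧸ Ideal.span {f} ^ (N + 1))) (f ^ K))) →
      Module.Finite A (LinearMap.range (LinearMap.lsmul A (LocCoh.H (maximalIdeal A) 2 (D.Sec N)) (f ^ K)))) := by
  classical
  let R := A ⧸ Ideal.span {f} ^ (N + 1)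
  let ρR : CommRingCat.of R ⟶ Γ(D.Y N, ⊤) := (Scheme.ΓSpecIso (CommRingCat.of R)).inv ≫ (D.p N).appTop
  letI : Algebra R (D.Sec N) := ρR.hom.toAlgebra
  haveI : IsScalarTower A R (D.Sec N) := .of_algebraMap_eq fun a => by
    show (D.g N).appTop ((Scheme.ΓSpecIso (CommRingCat.of A)).inv a) =
      (D.p N).appTop ((CommRingCat.ofHom (Ideal.Quotient.mk _) ≫ (Scheme.ΓSpecIso (CommRingCat.of R)).inv) a)
    rw [Scheme.ΓSpecIso_inv_naturality]
    rfl
  -- the dual bases of a finite submodule with torsion cokernel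
  have hdual : ∀ (G' : Submodule R (D.Sec N)) [Module.Finite R G'],
      (∀ x : D.Sec N, ∀ c ∈ T, ∃ K : ℕ, c ^ K • x ∈ G') → ∀ c ∈ T,
        ∃ (L n : ℕ) (φ : Fin n → ((G'.restrictScalars A) →ₗ[A] R)) (ψ : Fin n → (R →ₗ[A] (G'.restrictScalars A))),
          ∀ y, ∑ k, ψ k (φ k y) = c ^ L • y := by
    intro G' _ htor c hc
    let cR : R := Ideal.Quotient.mk _ c
    let Dc : (Spec (CommRingCat.of R)).Opens := PrimeSpectrum.basicOpen cR
    have hW : D.p N ⁻¹ᵁ Dc = D.W N c := by
      rw [D.W_eq]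
      exact Opens.ext (Set.ext fun y => Iff.rfl)
    have hDc : IsAffineOpen Dc := by
      have := (isAffineOpen_top (Spec (CommRingCat.of R))).basicOpen ((Scheme.ΓSpecIso (CommRingCat.of R)).inv cR)
      rwa [basicOpen_eq_of_affine] at this
    let Ac := Γ(Spec (CommRingCat.of R), Dc)
    letI : Algebra R Ac := StructureSheaf.openAlgebra R (Opposite.op Dc)
    haveI : IsLocalization.Away cR Ac := StructureSheaf.IsLocalization.to_basicOpen R cR
    let F := Γ(D.Y N, D.W N c)
    let α : Γ(Spec (CommRingCat.of R), Dc) ⟶ F := (D.p N).appLE Dc (D.W N c) hW.ge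
    letI : Algebra Ac F := α.hom.toAlgebra
    letI : Algebra R F := ((D.rW N c).comp ρR.hom).toAlgebra
    haveI : IsScalarTower R Ac F := .of_algebraMap_eq fun r => by
      show ((ρR ≫ (D.Y N).presheaf.map (homOfLE le_top).op) : _) r =
        (((Scheme.ΓSpecIso (CommRingCat.of R)).inv ≫ (Spec (CommRingCat.of R)).presheaf.map (homOfLE le_top).op) ≫ α) r
      rw [Category.assoc, Category.assoc, Scheme.Hom.map_appLE]
      simp only [Scheme.Hom.appTop, Scheme.Hom.app_eq_appLE, Scheme.Hom.appLE_map]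
      rfl
    haveI : IsNoetherianRing Ac := IsLocalization.isNoetherianRing (Submonoid.powers cR) Ac inferInstance
    haveI : Module.Finite Ac F := by
      rw [← RingHom.finite_algebraMap]
      show α.hom.Finite
      have e : α = (D.p N).app Dc ≫ (D.Y N).presheaf.map (eqToHom hW.symm).op := by
        rw [Scheme.Hom.app_eq_appLE, Scheme.Hom.appLE_map]
      rw [e]
      exact RingHom.Finite.comp (RingHom.Finite.of_surjective _
        (ConcreteCategory.bijective_of_isIso ((D.Y N).presheaf.map (eqToHom hW.symm).op)).2) (hfinApp c hc)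
    haveI : Module.Flat Ac F := RingHom.flat_algebraMap_iff.1 (Flat.flat_appLE (D.p N) hDc (D.affineW N hc) _)
    haveI : Module.Projective Ac F :=
      haveI : Module.FinitePresentation Ac F := Module.finitePresentation_of_finite Ac F
      Module.Flat.projective_of_finitePresentation
    let ρ : G' →ₗ[R] F :=
      { toFun := fun x => D.rW N c x.1
        map_add' := fun a b => map_add _ _ _
        map_smul' := fun r x => by
          show D.rW N c (algebraMap R (D.Sec N) r * x.1) = algebraMap R F r * D.rW N c x.1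
          rw [map_mul]
          rfl }
    haveI : IsLocalizedModule (Submonoid.powers cR) ρ := by
      have hpow : ∀ k : ℕ, algebraMap R (D.Sec N) (cR ^ k) = algebraMap A (D.Sec N) c ^ k := fun k => by
        rw [map_pow, IsScalarTower.algebraMap_apply A R (D.Sec N)]; rfl
      refine ⟨?_, fun z => ?_, fun {x y} h => ?_⟩
      · rintro ⟨_, k, rfl⟩
        rw [Module.End.isUnit_iff]
        haveI := D.isLocalization_W N c
        have hu : IsUnit (algebraMap R F (cR ^ k)) := by
          show IsUnit (D.rW N c (algebraMap R (D.Sec N) (cR ^ k)))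
          rw [hpow, map_pow]
          exact (IsLocalization.Away.algebraMap_isUnit (S := F) (algebraMap A (D.Sec N) c)).pow k
        have e : ∀ x : F, (algebraMap R (Module.End R F) (cR ^ k)) x = algebraMap R F (cR ^ k) * x := fun x => by
          rw [Module.algebraMap_end_apply, Algebra.smul_def]
        exact ⟨fun a b h => hu.mul_left_cancel (by rw [← e, ← e]; exact h),
          fun b => ⟨hu.unit⁻¹.1 * b, by rw [e, ← mul_assoc, IsUnit.mul_val_inv, one_mul]⟩⟩
      · obtain ⟨K, x, hx⟩ := D.exists_rW N c z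
        obtain ⟨M, hM⟩ := htor x c hc
        refine ⟨⟨⟨c ^ M • x, hM⟩, ⟨cR ^ (M + K), M + K, rfl⟩⟩, ?_⟩
        rw [Submonoid.smul_def, Algebra.smul_def]
        show D.rW N c (algebraMap R (D.Sec N) (cR ^ (M + K))) * z = D.rW N c (c ^ M • x)
        rw [rW_smul, hx, hpow, map_pow, map_pow, map_pow, pow_add, mul_assoc]
      · obtain ⟨K, hK⟩ := D.exists_of_rW_eq (x := x.1) (y := y.1) h
        refine ⟨⟨cR ^ K, K, rfl⟩, Subtype.ext ?_⟩
        show algebraMap R (D.Sec N) (cR ^ K) * x.1 = algebraMap R (D.Sec N) (cR ^ K) * y.1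
        rw [Algebra.smul_def, Algebra.smul_def, map_pow] at hK
        rw [hpow]
        exact hK
    obtain ⟨L, n, φ, b, hb⟩ := H18Pur.Formal.exists_dualBasis cR Ac F ρ
    refine ⟨L, n, fun k => (φ k).restrictScalars A, fun k => (LinearMap.toSpanSingleton R G' (b k)).restrictScalars A,
      fun y => ?_⟩
    refine (hb y).trans (Subtype.ext ?_)
    show (cR ^ L) • (y.1 : D.Sec N) = c ^ L • y.1
    rw [← algebraMap_smul R (c ^ L) y.1, map_pow]
    rfl
  -- a finite submodule with torsion cokernel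
  have hgen : ∀ c : T, ∃ s : Finset (D.Sec N), ∀ x : D.Sec N, ∃ K : ℕ, c.1 ^ K • x ∈ Submodule.span R (s : Set (D.Sec N)) := by
    rintro ⟨c, hc⟩
    let cR : R := Ideal.Quotient.mk _ c
    let Dc : (Spec (CommRingCat.of R)).Opens := PrimeSpectrum.basicOpen cR
    have hW : D.p N ⁻¹ᵁ Dc = D.W N c := by
      rw [D.W_eq]
      exact Opens.ext (Set.ext fun y => Iff.rfl)
    let Ac := Γ(Spec (CommRingCat.of R), Dc)
    letI : Algebra R Ac := StructureSheaf.openAlgebra R (Opposite.op Dc)
    haveI : IsLocalization.Away cR Ac := StructureSheaf.IsLocalization.to_basicOpen R cR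
    let F := Γ(D.Y N, D.W N c)
    let α : Γ(Spec (CommRingCat.of R), Dc) ⟶ F := (D.p N).appLE Dc (D.W N c) hW.ge
    letI : Algebra Ac F := α.hom.toAlgebra
    haveI : Module.Finite Ac F := by
      rw [← RingHom.finite_algebraMap]
      show α.hom.Finite
      have e : α = (D.p N).app Dc ≫ (D.Y N).presheaf.map (eqToHom hW.symm).op := by
        rw [Scheme.Hom.app_eq_appLE, Scheme.Hom.appLE_map]
      rw [e]
      exact RingHom.Finite.comp (RingHom.Finite.of_surjective _
        (ConcreteCategory.bijective_of_isIso ((D.Y N).presheaf.map (eqToHom hW.symm).op)).2) (hfinApp c hc)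
    obtain ⟨gens, hgens⟩ := Module.Finite.fg_top (R := Ac) (M := F)
    choose K g hg using fun z : F => D.exists_rW N c z
    refine ⟨gens.image g, fun x => ?_⟩
    let M := Submodule.span R ((gens.image g : Finset (D.Sec N)) : Set (D.Sec N))
    show ∃ K : ℕ, c ^ K • x ∈ M
    have key : ∀ z : F, ∃ (K : ℕ) (y : D.Sec N), y ∈ M ∧ D.rW N c y = D.rW N c (algebraMap A (D.Sec N) c) ^ K * z := by
      intro z
      induction (hgens.ge (Submodule.mem_top (x := z))) using Submodule.span_induction with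
      | mem z hz => exact ⟨K z, g z, Submodule.subset_span (Finset.mem_image_of_mem g hz), hg z⟩
      | zero => exact ⟨0, 0, zero_mem _, by simp⟩
      | add a b _ _ ha hb =>
        obtain ⟨K₁, y₁, h₁, e₁⟩ := ha
        obtain ⟨K₂, y₂, h₂, e₂⟩ := hb
        refine ⟨K₁ + K₂, cR ^ K₂ • y₁ + cR ^ K₁ • y₂, add_mem (M.smul_mem _ h₁) (M.smul_mem _ h₂), ?_⟩
        have hsm : ∀ (k : ℕ) (y : D.Sec N), D.rW N c (cR ^ k • y) =
            D.rW N c (algebraMap A (D.Sec N) c) ^ k * D.rW N c y := fun k y => by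
          rw [← map_pow (Ideal.Quotient.mk _) c k, ← Ideal.Quotient.algebraMap_eq, algebraMap_smul, rW_smul, map_pow, map_pow]
        rw [map_add, hsm, hsm, e₁, e₂, pow_add]
        ring
      | smul r a _ ha =>
        obtain ⟨K₁, y₁, h₁, e₁⟩ := ha
        obtain ⟨k, r', hr'⟩ := IsLocalization.Away.surj cR r
        refine ⟨k + K₁, r' • y₁, M.smul_mem _ h₁, ?_⟩
        have hR : ∀ r₀ : R, algebraMap Ac F (algebraMap R Ac r₀) = D.rW N c (algebraMap R (D.Sec N) r₀) := fun r₀ => by
          show (((Scheme.ΓSpecIso (CommRingCat.of R)).inv ≫ (Spec (CommRingCat.of R)).presheaf.map (homOfLE le_top).op) ≫ α) r₀ =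
            ((ρR ≫ (D.Y N).presheaf.map (homOfLE le_top).op) : _) r₀
          rw [Category.assoc, Category.assoc, Scheme.Hom.map_appLE]
          simp only [Scheme.Hom.appTop, Scheme.Hom.app_eq_appLE, Scheme.Hom.appLE_map]
          rfl
        have h2 := congrArg (algebraMap Ac F) hr'
        rw [map_mul, map_pow, hR, hR] at h2
        rw [show algebraMap R (D.Sec N) cR = algebraMap A (D.Sec N) c by
          rw [IsScalarTower.algebraMap_apply A R (D.Sec N)]; rfl] at h2
        rw [Algebra.smul_def, map_mul, e₁, Algebra.smul_def, ← h2, pow_add]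
        ring
    obtain ⟨K₀, y, hy, e⟩ := key (D.rW N c x)
    obtain ⟨N, hN⟩ := D.exists_of_rW_eq (x := y) (y := c ^ K₀ • x) (c := c) (by rw [rW_smul, map_pow, map_pow]; exact e)
    refine ⟨N + K₀, ?_⟩
    rw [pow_add c N K₀, mul_smul, ← hN]
    exact Submodule.smul_of_tower_mem M (c ^ N) hy
  choose s hs using hgen
  let G' : Submodule R (D.Sec N) := Submodule.span R ((T.attach.biUnion s : Finset (D.Sec N)) : Set (D.Sec N))
  have htor : ∀ x : D.Sec N, ∀ c ∈ T, ∃ K : ℕ, c ^ K • x ∈ G' := fun x c hc =>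
    (hs ⟨c, hc⟩ x).imp fun K hK => Submodule.span_mono
      (Finset.coe_subset.2 (Finset.subset_biUnion_of_mem s (Finset.mem_attach T ⟨c, hc⟩))) hK
  haveI : Module.Finite R G' := Module.Finite.span_of_finite R (Finset.finite_toSet _)
  haveI : Module.Finite A (G'.restrictScalars A) := Module.Finite.trans R G'
  let M : Submodule A (D.Sec N) := G'.restrictScalars A
  exact ⟨fun h => IsSat.finite_range hT (D.isSat N) M htor (f ^ K) (finite_range_H_of_dual hT (f ^ K) 1 M R h (hdual G' htor)),
    fun h => finite_range_H_two hT M htor (f ^ K) (finite_range_H_of_dual hT (f ^ K) 2 M R h (hdual G' htor))⟩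

/-- The bottom sections and their second local cohomology are finite. -/
theorem finite_range_level (hT : Ideal.span (T : Set A) = maximalIdeal A)
    (K N : ℕ) (hQ' : ∀ i, 1 ≤ i → i ≤ 2 → Module.Finite A (LinearMap.range (LinearMap.lsmul A
      (LocCoh.H (maximalIdeal A) i (A ⧸ Ideal.span {f} ^ (N + 1))) (f ^ K))))
    (hfinApp : ∀ c ∈ T, ((D.p N).app (PrimeSpectrum.basicOpen (Ideal.Quotient.mk (Ideal.span {f} ^ (N + 1)) c))).hom.Finite) :
    Module.Finite A (LinearMap.range (LinearMap.lsmul A (D.Sec N) (f ^ K))) ∧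
      Module.Finite A (LinearMap.range (LinearMap.lsmul A (LocCoh.H (maximalIdeal A) 2 (D.Sec N)) (f ^ K))) :=
  ⟨(D.finite_range_level' hT K N hfinApp).1 (hQ' 1 le_rfl one_le_two),
    (D.finite_range_level' hT K N hfinApp).2 (hQ' 2 one_le_two le_rfl)⟩

end Groth.Agent.H11Alg.Tower
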