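import Groth.Agent.H11Alg.Finite
import Groth.Agent.H11Alg.FiniteBound
import Groth.Agent.H11Alg.Kill
import Groth.Agent.H11Alg.EtaleNear
import Groth.Agent.H18PBC.CompleteLift

/-!
# A finite étale cover of a punctured hypersurface extends to a neighbourhood
-/

set_option autoImplicit false
set_option linter.style.haveILetI false
set_option backward.isDefEq.respectTransparency false

universe u

open CategoryTheory CategoryTheory.Limits AlgebraicGeometry TopologicalSpace IsLocalRing

namespace Groth.Agent.H11Alg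

/-- A basic open of a spectrum is affine. -/
theorem isAffineOpen_D {R : Type u} [CommRing R] (c : R) :
    IsAffineOpen (X := Spec (CommRingCat.of R)) (PrimeSpectrum.basicOpen c) := by
  have h := (isAffineOpen_top (Spec (CommRingCat.of R))).basicOpen ((Scheme.ΓSpecIso (CommRingCat.of R)).inv c)
  rwa [basicOpen_eq_of_affine] at h

/-- `Y ⟶ Spec R` is an open immersion if it is one over the basic opens of a cover. -/
theorem isOpenImmersion_toSpecΓ {R : CommRingCat.{u}} {Y : Scheme.{u}} [CompactSpace Y] [QuasiSeparatedSpace Y]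
    (ψ : R ⟶ Γ(Y, ⊤)) (S : Set R) (hinj : Function.Injective ψ)
    (hcov : ∀ y : Y, ∃ c ∈ S, y ∈ Y.basicOpen (ψ c)) (haff : ∀ c ∈ S, IsAffineOpen (Y.basicOpen (ψ c)))
    (hsurj : ∀ c ∈ S, ∀ s, ∃ (K : ℕ) (b : R), ψ b = ψ c ^ K * s) :
    IsOpenImmersion (Y.toSpecΓ ≫ Spec.map ψ) ∧
      Set.range (Y.toSpecΓ ≫ Spec.map ψ) = ⋃ c ∈ S, (PrimeSpectrum.basicOpen c : Set (PrimeSpectrum R)) := by
  let u := Y.toSpecΓ ≫ Spec.map ψ
  have hpre : ∀ c : R, u ⁻¹ᵁ PrimeSpectrum.basicOpen c = Y.basicOpen (ψ c) := fun c => by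
    rw [← Scheme.toSpecΓ_preimage_basicOpen]
    rfl
  have key : ∀ c ∈ S, ∃ (U : Scheme.{u}) (i : U ⟶ Y) (_ : IsOpenImmersion i), i.opensRange = Y.basicOpen (ψ c) ∧
      IsOpenImmersion (i ≫ u) ∧ Set.range (i ≫ u) = (PrimeSpectrum.basicOpen c : Set (PrimeSpectrum R)) := by
    intro c hc
    let F := Γ(Y, Y.basicOpen (ψ c))
    let r : Γ(Y, ⊤) ⟶ F := Y.presheaf.map (homOfLE le_top).op
    haveI : IsLocalization.Away (ψ c) F :=
      isLocalization_basicOpen_of_qcqs isCompact_univ (isQuasiSeparated_univ (α := Y)) _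
    letI : Algebra R F := (ψ ≫ r).hom.toAlgebra
    have hmap : ∀ x : R, algebraMap R F x = algebraMap Γ(Y, ⊤) F (ψ x) := fun x => rfl
    haveI : IsLocalization.Away c F := by
      refine IsLocalization.Away.mk c ?_ (fun z => ?_) (fun a b hab => ?_)
      · rw [hmap]
        exact IsLocalization.Away.algebraMap_isUnit (ψ c)
      · obtain ⟨K, s, hs⟩ := IsLocalization.Away.surj (ψ c) z
        obtain ⟨M, b, hb⟩ := hsurj c hc s
        refine ⟨K + M, b, ?_⟩
        rw [hmap, hmap, hb, map_mul, map_pow, ← hs]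
        ring
      · rw [hmap, hmap] at hab
        obtain ⟨⟨_, K, rfl⟩, hK⟩ := (IsLocalization.eq_iff_exists (Submonoid.powers (ψ c)) F).1 hab
        exact ⟨K, hinj (by simpa only [map_mul, map_pow] using hK)⟩
    have hi : (haff c hc).fromSpec ≫ u = Spec.map (CommRingCat.ofHom (algebraMap R F)) := by
      rw [← Category.assoc, IsAffineOpen.fromSpec_toSpecΓ, ← Spec.map_comp]
      rfl
    refine ⟨Spec F, (haff c hc).fromSpec, inferInstance, IsAffineOpen.opensRange_fromSpec _, ?_, ?_⟩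
    · rw [hi]; exact IsOpenImmersion.of_isLocalization c
    · rw [hi]; exact PrimeSpectrum.localization_away_comap_range F c
  refine ⟨IsOpenImmersion.of_forall_source_exists u (fun y y' hyy => ?_) (fun y => ?_), ?_⟩
  · obtain ⟨c, hc, hy⟩ := hcov y
    obtain ⟨U, i, _, hi, hiu, -⟩ := key c hc
    have hy' : y' ∈ Y.basicOpen (ψ c) := by
      rw [← hpre] at hy ⊢
      show u y' ∈ PrimeSpectrum.basicOpen c
      exact hyy ▸ (show u y ∈ PrimeSpectrum.basicOpen c from hy)
    rw [← hi] at hy hy'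
    obtain ⟨z, rfl⟩ := hy
    obtain ⟨z', rfl⟩ := hy'
    exact congrArg i ((i ≫ u).isOpenEmbedding.injective hyy)
  · obtain ⟨c, hc, hy⟩ := hcov y
    obtain ⟨U, i, hii, hi, hiu, -⟩ := key c hc
    exact ⟨U, i, hii, hi ▸ hy, hiu⟩
  · refine Set.Subset.antisymm ?_ ?_
    · rintro _ ⟨y, rfl⟩
      obtain ⟨c, hc, hy⟩ := hcov y
      rw [← hpre] at hy
      exact Set.mem_biUnion hc hy
    · refine Set.iUnion₂_subset fun c hc => ?_
      obtain ⟨U, i, _, -, -, hr⟩ := key c hc
      rw [← hr]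
      rintro _ ⟨z, rfl⟩
      exact ⟨i z, rfl⟩

/-- `Spec (B/IB)` is the base change of `Spec B` to `Spec (C/I)`. -/
theorem isPullback_quotIdeal {C B : Type u} [CommRing C] [CommRing B] (g : C →+* B) (I : Ideal C) :
    IsPullback (Spec.map (CommRingCat.ofHom (Ideal.Quotient.mk (I.map g))))
      (Spec.map (CommRingCat.ofHom (Ideal.quotientMap (I.map g) g Ideal.le_comap_map)))
      (Spec.map (CommRingCat.ofHom g)) (Spec.map (CommRingCat.ofHom (Ideal.Quotient.mk I))) := by
  refine isPullback_SpecMap_of_isPushout _ _ _ _ ?_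
  refine ⟨⟨CommRingCat.hom_ext (RingHom.ext fun c => rfl)⟩, ⟨PushoutCocone.isColimitAux' _ fun s => ?_⟩⟩
  have hs : ∀ c, s.inl.hom (g c) = s.inr.hom (Ideal.Quotient.mk _ c) := fun c =>
    ConcreteCategory.congr_hom s.condition c
  refine ⟨CommRingCat.ofHom (Ideal.Quotient.lift (I.map g) s.inl.hom fun a ha => ?_), ?_, ?_, fun {m} h₁ _ => ?_⟩
  · have h : I.map g ≤ RingHom.ker s.inl.hom := Ideal.map_le_iff_le_comap.2 fun c hc => by
      show s.inl.hom (g c) = 0
      rw [hs, Ideal.Quotient.eq_zero_iff_mem.2 hc, map_zero]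
    exact h ha
  · rfl
  · exact CommRingCat.hom_ext (Ideal.Quotient.ringHom_ext (RingHom.ext fun c => hs c))
  · exact CommRingCat.hom_ext (Ideal.Quotient.ringHom_ext (RingHom.ext fun b => ConcreteCategory.congr_hom h₁ b))

namespace Tower

variable {A : Type u} [CommRing A] [IsNoetherianRing A] [IsLocalRing A] {f : A} {T : Finset A} (D : Tower A f T)

/-- The `n`th level is an open subscheme of the truncation of the limit of the sections. -/
theorem exists_openImmersion (hnz : f ∈ nonZeroDivisors A) (n : ℕ)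
    (hgen : ∀ c ∈ T, ∀ s : D.Sec n, ∃ (K : ℕ) (b : (D.levels hnz).lim), (D.levels hnz).proj n b = c ^ K • s) :
    ∃ u : D.Y n ⟶ Spec (CommRingCat.of ((D.levels hnz).lim ⧸
        (Ideal.span {f} ^ (n + 1)).map (algebraMap A (D.levels hnz).lim))),
      IsOpenImmersion u ∧
      u ≫ Spec.map (CommRingCat.ofHom (Ideal.quotientMap _ (algebraMap A (D.levels hnz).lim) Ideal.le_comap_map)) = D.p n ∧
      Set.range u = ⋃ c ∈ T, {Q : PrimeSpectrum ((D.levels hnz).lim ⧸
        (Ideal.span {f} ^ (n + 1)).map (algebraMap A (D.levels hnz).lim)) |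
          Ideal.Quotient.mk _ (algebraMap A (D.levels hnz).lim c) ∉ Q.asIdeal} := by
  let L := D.levels hnz
  let B : Type u := L.lim
  let I : Ideal B := (Ideal.span {f} ^ (n + 1)).map (algebraMap A B)
  have hI : ∀ b : B, b ∈ I ↔ L.proj n b = 0 := fun b => by
    rw [L.proj_eq_zero_iff]
    simp only [I, Ideal.span_singleton_pow, Ideal.map_span, Set.image_singleton, Ideal.mem_span_singleton']
    constructor
    · rintro ⟨a, rfl⟩
      exact ⟨a, by rw [Algebra.smul_def]; exact mul_comm _ _⟩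
    · rintro ⟨a, rfl⟩
      exact ⟨a, by rw [Algebra.smul_def]; exact mul_comm _ _⟩
  let χ : (B ⧸ I) →+* D.Sec n := Ideal.Quotient.lift I (L.proj n).toRingHom fun b hb => (hI b).1 hb
  let ψ : CommRingCat.of (B ⧸ I) ⟶ Γ(D.Y n, ⊤) := CommRingCat.ofHom χ
  have hψc : ∀ a : A, ψ (Ideal.Quotient.mk I (algebraMap A B a)) = algebraMap A (D.Sec n) a := fun a =>
    (L.proj n).commutes a
  let S : Set (B ⧸ I) := (fun a => Ideal.Quotient.mk I (algebraMap A B a)) '' T
  have hinj : Function.Injective χ := by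
    refine (injective_iff_map_eq_zero χ).2 fun b hb => ?_
    obtain ⟨b, rfl⟩ := Ideal.Quotient.mk_surjective b
    exact Ideal.Quotient.eq_zero_iff_mem.2 ((hI b).2 hb)
  obtain ⟨hu, hr⟩ := isOpenImmersion_toSpecΓ ψ S hinj
    (fun z => by
      obtain ⟨c, hc, hz⟩ := D.cover n z
      refine ⟨_, ⟨c, hc, rfl⟩, ?_⟩
      rw [hψc]
      exact (D.W_eq n c).ge hz)
    (by rintro _ ⟨c, hc, rfl⟩; rw [hψc]; exact D.affineW n hc)
    (by
      rintro _ ⟨c, hc, rfl⟩ s
      obtain ⟨K, b, hb⟩ := hgen c hc s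
      refine ⟨K, Ideal.Quotient.mk I b, ?_⟩
      rw [hψc, ← map_pow, ← Algebra.smul_def]
      exact hb)
  refine ⟨(D.Y n).toSpecΓ ≫ Spec.map ψ, hu, ?_, ?_⟩
  · rw [Category.assoc, ← Spec.map_comp]
    have h3 : D.p n = (D.Y n).toSpecΓ ≫ Spec.map ((Scheme.ΓSpecIso
        (CommRingCat.of (A ⧸ Ideal.span {f} ^ (n + 1)))).inv ≫ (D.p n).appTop) := by
      rw [Spec.map_comp, ← Scheme.toSpecΓ_naturality_assoc, toSpecΓ_SpecMap_ΓSpecIso_inv, Category.comp_id]
    refine Eq.trans ?_ h3.symm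
    congr 2
    refine CommRingCat.hom_ext (Ideal.Quotient.ringHom_ext (RingHom.ext fun a => ?_))
    refine (hψc a).trans ?_
    show (D.g n).appTop ((Scheme.ΓSpecIso (CommRingCat.of A)).inv a) =
      (D.p n).appTop ((CommRingCat.ofHom (Ideal.Quotient.mk (Ideal.span {f} ^ (n + 1))) ≫ (Scheme.ΓSpecIso _).inv) a)
    rw [Scheme.ΓSpecIso_inv_naturality]
    rfl
  · rw [hr]
    simp only [S, Set.biUnion_image]
    rfl

end Tower

/-- The formal sections of every tower are finite and give every level on the cover. -/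
def HasLim (A : Type u) [CommRing A] [IsLocalRing A] (f : A) (hnz : f ∈ nonZeroDivisors A) : Prop :=
  ∀ (T : Finset A), Ideal.span (T : Set A) = maximalIdeal A → ∀ D : Tower A f T,
    (∀ n, ∀ c ∈ T, ((D.p n).app (PrimeSpectrum.basicOpen (Ideal.Quotient.mk (Ideal.span {f} ^ (n + 1)) c))).hom.Finite) →
      Module.Finite A (D.levels hnz).lim ∧ ∀ n, ∀ c ∈ T, ∀ s : D.Sec n,
        ∃ (K : ℕ) (b : (D.levels hnz).lim), (D.levels hnz).proj n b = c ^ K • s

/-- Finite first and second cohomology of the hypersurface suffice. -/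
theorem hasLim_of_finite {A : Type u} [CommRing A] [IsNoetherianRing A] [IsLocalRing A] (f : A)
    [IsAdicComplete (Ideal.span {f}) A] (hnz : f ∈ nonZeroDivisors A)
    (h1 : Module.Finite A (LocCoh.H (maximalIdeal A) 1 (A ⧸ Ideal.span {f})))
    (h2 : Module.Finite A (LocCoh.H (maximalIdeal A) 2 (A ⧸ Ideal.span {f}))) : HasLim A f hnz := fun T hT D hD => by
  obtain ⟨hfin0, hfin2⟩ := D.finite_bottom hT h1 h2 (hD 0)
  haveI : Module.Finite A ((D.levels hnz).G 0) := hfin0
  exact (D.levels hnz).lim_finite hT hfin2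

/-- Bounded multiples of the cohomology of the truncations suffice. -/
theorem hasLim_of_bound {A : Type u} [CommRing A] [IsNoetherianRing A] [IsLocalRing A] (f : A)
    [IsAdicComplete (Ideal.span {f}) A] (hnz : f ∈ nonZeroDivisors A) (K : ℕ)
    (hK : ∀ i ≤ 2, ∀ e : ℕ, Module.Finite A
      (LinearMap.range (LinearMap.lsmul A (LocCoh.H (maximalIdeal A) i (A ⧸ Ideal.span {f} ^ e)) (f ^ K)))) :
    HasLim A f hnz := fun T hT D hD =>
  (D.levels hnz).lim_finite_bound (K := K)
    (fun e => (D.finite_range_level hT K e (fun i _ hi => hK i hi (e + 1)) (hD e)).1) hT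
    (D.finite_range_level hT K K (fun i _ hi => hK i hi (K + 1)) (hD K)).2

open H18PBC.CompleteLift (intoThick)

set_option maxHeartbeats 1000000 in
/-- A compatible system of finite étale covers of the punctured truncations comes from a finite
morphism over the punctured spectrum. -/
theorem exists_finite_of_system (A : Type u) [CommRing A] [IsNoetherianRing A] [IsLocalRing A] (f : A)
    [IsAdicComplete (Ideal.span {f}) A] (hnz : f ∈ nonZeroDivisors A)
    (hlim : HasLim A f hnz)
    (Y : ℕ → Scheme.{u}) (y : ∀ n, Y n ⟶ CohB1.thick (FEt.puncturedSpec A).ι (Ideal.span {f}) n)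
    [∀ n, IsFinite (y n)] [∀ n, Etale (y n)] (t : ∀ n, Y n ⟶ Y (n + 1))
    (ht : ∀ n, IsPullback (t n) (y n) (y (n + 1)) (CohB1.thickTrans (FEt.puncturedSpec A).ι (Ideal.span {f}) n)) :
    ∃ (W : Scheme.{u}) (c : W ⟶ (FEt.puncturedSpec A : Scheme.{u})) (_ : IsFinite c),
      ∀ n, ∃ w : Y n ⟶ W, IsPullback w (y n) c (CohB1.thickι (FEt.puncturedSpec A).ι (Ideal.span {f}) n) := by
  classical
  let J : Ideal A := Ideal.span {f}
  let U := FEt.puncturedSpec A
  let j := U.ι
  have htb : ∀ n, IsPullback (CohB1.thickTrans j J n) (CohB1.thickToBase j J n) (CohB1.thickToBase j J (n + 1))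
      (CohB1.specQuotTrans J n) := fun n => by
    refine IsPullback.of_right (h₁₂ := CohB1.thickι j J (n + 1)) (h₂₂ := CohB1.specQuot J (n + 1)) (v₁₃ := j) ?_
      (pullback.lift_snd _ _ _) (IsPullback.of_hasPullback _ _)
    rw [H18PBC.CompleteLift.thickTrans_ι,
      show CohB1.specQuotTrans J n ≫ CohB1.specQuot J (n + 1) = CohB1.specQuot J n from by
        rw [CohB1.specQuotTrans, CohB1.specQuot, ← Spec.map_comp, ← CommRingCat.ofHom_comp, Ideal.Quotient.factor_comp_mk]
        rfl]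
    exact IsPullback.of_hasPullback _ _
  -- generators of the maximal ideal
  obtain ⟨T, hT⟩ := (maximalIdeal A).fg_of_isNoetherianRing
  have hTm : ∀ c ∈ T, c ∈ maximalIdeal A := fun c hc => hT ▸ Ideal.subset_span hc
  have hDU : ∀ c ∈ T, (PrimeSpectrum.basicOpen c : (Spec (CommRingCat.of A)).Opens) ≤ U := fun c hc P hP h =>
    hP (by rw [Set.mem_singleton_iff] at h; rw [h]; exact hTm c hc)
  have hDaff : ∀ c ∈ T, IsAffineOpen (j ⁻¹ᵁ PrimeSpectrum.basicOpen c) := fun c hc =>
    IsAffineOpen.preimage_of_isOpenImmersion (isAffineOpen_D c) j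
      (le_of_le_of_eq (hDU c hc) (Scheme.Opens.opensRange_ι U).symm)
  have hcovU : ∀ P : Spec (CommRingCat.of A), P ∈ U → ∃ c ∈ T, P ∈ PrimeSpectrum.basicOpen c := by
    intro P hP
    by_contra h
    push Not at h
    refine hP (PrimeSpectrum.ext (le_antisymm (le_maximalIdeal P.2.ne_top) ?_))
    show maximalIdeal A ≤ P.asIdeal
    rw [← hT, Ideal.span_le]
    exact fun c hc => not_not.1 (h c hc)
  have hι : ∀ n, CohB1.thickToBase j J n ≫ CohB1.specQuot J n = CohB1.thickι j J n ≫ j := fun n =>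
    pullback.condition.symm
  haveI : ∀ n, IsOpenImmersion (CohB1.thickToBase j J n) := fun n =>
    MorphismProperty.pullback_snd _ _ (inferInstance : IsOpenImmersion j)
  haveI : ∀ n, IsClosedImmersion (CohB1.thickι j J n) := fun n =>
    MorphismProperty.pullback_fst _ _ (IsClosedImmersion.spec_of_surjective _ Ideal.Quotient.mk_surjective)
  let p : ∀ n, Y n ⟶ Spec (CommRingCat.of (A ⧸ J ^ (n + 1))) := fun n => y n ≫ CohB1.thickToBase j J n
  have hpg : ∀ n, p n ≫ CohB1.specQuot J n = y n ≫ CohB1.thickι j J n ≫ j := fun n => by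
    simp only [p, Category.assoc, hι]
  haveI : ∀ n, CompactSpace (CohB1.thick j J n) := fun n =>
    isCompact_univ_iff.1 ((CohB1.thickToBase j J n).isOpenEmbedding.isInducing.isCompact_iff.2
      (NoetherianSpace.isCompact _))
  let D : Tower A f T :=
    { Y := Y
      cpt := fun n => QuasiCompact.compactSpace_of_compactSpace (y n)
      qs := fun n => quasiSeparatedSpace_of_quasiSeparated (y n ≫ CohB1.thickToBase j J n)
      p := p
      flat := fun n => inferInstanceAs (Flat (y n ≫ CohB1.thickToBase j J n))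
      t := t
      pb := fun n => (ht n).paste_vert (htb n)
      cover := fun n z => hcovU _ (by
        rw [hpg]
        exact ((y n ≫ CohB1.thickι j J n) z).2)
      affine := fun n c hc => by
        show IsAffineOpen ((p n ≫ CohB1.specQuot J n) ⁻¹ᵁ _)
        rw [hpg, Scheme.Hom.comp_preimage, Scheme.Hom.comp_preimage]
        exact ((hDaff c hc).preimage (CohB1.thickι j J n)).preimage (y n) }
  let L := D.levels hnz
  obtain ⟨hBfin, hgen⟩ := hlim T hT D fun m c hc => by
    show ((y m ≫ CohB1.thickToBase j J m).app (PrimeSpectrum.basicOpen (Ideal.Quotient.mk (J ^ (m + 1)) c))).hom.Finite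
    rw [Scheme.Hom.comp_app, CommRingCat.hom_comp]
    have haff : IsAffineOpen (X := Spec (CommRingCat.of (A ⧸ J ^ (m + 1))))
        (PrimeSpectrum.basicOpen (Ideal.Quotient.mk (J ^ (m + 1)) c)) := isAffineOpen_D _
    have hle : (PrimeSpectrum.basicOpen (Ideal.Quotient.mk (J ^ (m + 1)) c) :
        (Spec (CommRingCat.of (A ⧸ J ^ (m + 1)))).Opens) ≤ (CohB1.thickToBase j J m).opensRange := fun P hP => by
      show P ∈ Set.range (CohB1.thickToBase j J m)
      erw [Scheme.Pullback.range_snd]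
      exact (Scheme.Opens.range_ι U).ge (hDU c hc hP)
    haveI := (CohB1.thickToBase j J m).isIso_app _ hle
    exact RingHom.Finite.comp ((y m).finite_app _ (haff.preimage_of_isOpenImmersion _ hle))
      (RingHom.Finite.of_surjective _ (ConcreteCategory.bijective_of_isIso ((CohB1.thickToBase j J m).app _)).2)
  let B : Type u := L.lim
  haveI : Module.Finite A B := hBfin
  let sB : Spec (CommRingCat.of B) ⟶ Spec (CommRingCat.of A) := Spec.map (CommRingCat.ofHom (algebraMap A B))
  haveI : IsFinite sB := (IsFinite.SpecMap_iff _).2 (RingHom.finite_algebraMap.2 hBfin)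
  haveI : IsFinite (pullback.snd sB j) := MorphismProperty.pullback_snd _ _ inferInstance
  have main : ∀ n, ∃ w : Y n ⟶ pullback sB j, IsPullback w (y n) (pullback.snd sB j) (CohB1.thickι j J n) := by
    intro n
    obtain ⟨u', hu, H, hr⟩ := D.exists_openImmersion hnz n (hgen n)
    let I : Ideal B := (J ^ (n + 1)).map (algebraMap A B)
    let φ : (A ⧸ J ^ (n + 1)) →+* (B ⧸ I) := Ideal.quotientMap I (algebraMap A B) Ideal.le_comap_map
    let v : Spec (CommRingCat.of (B ⧸ I)) ⟶ Spec (CommRingCat.of (A ⧸ J ^ (n + 1))) :=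
      Spec.map (CommRingCat.ofHom φ)
    haveI : IsOpenImmersion u' := hu
    have H' : v ⁻¹ᵁ (CohB1.thickToBase j J n).opensRange = u'.opensRange := by
      refine Opens.ext ?_
      show v ⁻¹' Set.range (CohB1.thickToBase j J n) = Set.range u'
      erw [hr, Scheme.Pullback.range_snd]
      ext Q
      simp only [Set.mem_preimage, Set.mem_iUnion]
      constructor
      · intro hQ
        obtain ⟨c, hc, hQc⟩ := hcovU _ ((Scheme.Opens.range_ι U).le hQ)
        exact ⟨c, hc, hQc⟩
      · rintro ⟨c, hc, hQc⟩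
        exact (Scheme.Opens.range_ι U).ge (hDU c hc hQc)
    have h2' := (IsOpenImmersion.isPullback (y n) u' (CohB1.thickToBase j J n) v H H').flip.paste_horiz
      (isPullback_quotIdeal (algebraMap A B) (J ^ (n + 1)))
    rw [show CohB1.thickToBase j J n ≫ Spec.map (CommRingCat.ofHom (Ideal.Quotient.mk (J ^ (n + 1)))) =
      CohB1.thickι j J n ≫ j from hι n] at h2'
    exact ⟨pullback.lift _ (y n ≫ CohB1.thickι j J n) (h2'.w.trans (Category.assoc _ _ _).symm),
      IsPullback.of_right (h₁₂ := pullback.fst sB j) (v₁₃ := sB) (h₂₂ := j)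
        (by rw [pullback.lift_fst]; exact h2') (pullback.lift_snd _ _ _) (IsPullback.of_hasPullback _ _)⟩
  exact ⟨pullback sB j, pullback.snd sB j, inferInstance, main⟩

set_option maxHeartbeats 1000000 in
/-- A cover of the punctured hypersurface extends to a finite morphism over the punctured spectrum
with étale truncations. -/
theorem exists_finite_cover (A : Type u) [CommRing A] [IsNoetherianRing A] [IsLocalRing A] (f : A)
    [IsAdicComplete (Ideal.span {f}) A] (hnz : f ∈ nonZeroDivisors A)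
    (hlim : HasLim A f hnz)
    (V₀ : FEt.Cat (pullback (FEt.puncturedSpec A).ι (Spec.map (CommRingCat.ofHom (Ideal.Quotient.mk (Ideal.span {f})))))) :
    ∃ (W : Scheme.{u}) (c : W ⟶ (FEt.puncturedSpec A : Scheme.{u})) (_ : IsFinite c),
      (∀ n, Etale (pullback.snd c (CohB1.thickι (FEt.puncturedSpec A).ι (Ideal.span {f}) n))) ∧
      ∃ (h : Etale (pullback.snd c (CohB1.thickι (FEt.puncturedSpec A).ι (Ideal.span {f}) 0))),
        Nonempty ((FEt.restrict (intoThick (Ideal.span {f}) (FEt.puncturedSpec A).ι 0)).obj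
          (MorphismProperty.Over.mk ⊤ (pullback.snd c (CohB1.thickι (FEt.puncturedSpec A).ι (Ideal.span {f}) 0))
            ⟨MorphismProperty.pullback_snd _ _ (by assumption), h⟩) ≅ V₀) := by
  classical
  let J : Ideal A := Ideal.span {f}
  let U := FEt.puncturedSpec A
  let j := U.ι
  haveI : ∀ n, (FEt.restrict (intoThick J j n)).IsEquivalence := fun n => S0238.result (intoThick J j n)
  let Vn : ∀ n, FEt.Cat (CohB1.thick j J n) := fun n => (FEt.restrict (intoThick J j n)).objPreimage V₀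
  let eV : ∀ n, (FEt.restrict (intoThick J j n)).obj (Vn n) ≅ V₀ := fun n =>
    (FEt.restrict (intoThick J j n)).objObjPreimageIso V₀
  let eT : ∀ n, Vn n ≅ (FEt.restrict (CohB1.thickTrans j J n)).obj (Vn (n + 1)) := fun n =>
    (FEt.restrict (intoThick J j n)).preimageIso (eV n ≪≫ (eV (n + 1)).symm ≪≫
      (H18Et.FEtLimit.restrictCompIso _ _ _ (H18PBC.CompleteLift.intoThick_trans J j n) (Vn (n + 1))).symm)
  let Y : ℕ → Scheme.{u} := fun n => (Vn n).left
  let y : ∀ n, Y n ⟶ CohB1.thick j J n := fun n => (Vn n).hom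
  haveI : ∀ n, IsFinite (y n) := fun n => (Vn n).prop.1
  haveI : ∀ n, Etale (y n) := fun n => (Vn n).prop.2
  let t : ∀ n, Y n ⟶ Y (n + 1) := fun n =>
    (eT n).hom.left ≫ pullback.fst (Vn (n + 1)).hom (CohB1.thickTrans j J n)
  have ht : ∀ n, IsPullback (t n) (y n) (y (n + 1)) (CohB1.thickTrans j J n) := fun n => by
    let e : (Vn n).left ≅ pullback (Vn (n + 1)).hom (CohB1.thickTrans j J n) :=
      (MorphismProperty.Over.forget FEt.prop ⊤ (CohB1.thick j J n) ⋙ Over.forget _).mapIso (eT n)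
    refine (IsPullback.of_hasPullback (Vn (n + 1)).hom (CohB1.thickTrans j J n)).of_iso e.symm (Iso.refl _)
      (Iso.refl _) (Iso.refl _) ?_ ?_ (by simp [y]) (by simp)
    · simp only [t, e, Iso.symm_hom, Functor.mapIso_inv, Iso.refl_hom, Category.comp_id]
      exact ((Category.assoc _ _ _).symm.trans ((congrArg (· ≫ pullback.fst _ _)
        (show (eT n).inv.left ≫ (eT n).hom.left = 𝟙 _ from e.inv_hom_id)).trans (Category.id_comp _))).symm
    · simp only [Iso.symm_hom, Iso.refl_hom, Category.comp_id]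
      exact (MorphismProperty.Over.w (eT n).inv).symm
  obtain ⟨W, c, hc, main⟩ := exists_finite_of_system A f hnz hlim Y y t ht
  haveI := hc
  choose w hw using main
  have het : ∀ n, Etale (pullback.snd c (CohB1.thickι j J n)) := fun n => by
    rw [← (hw n).isoPullback_inv_snd]
    infer_instance
  exact ⟨W, c, hc, het, het 0,
    ⟨(FEt.restrict (intoThick J j 0)).mapIso
      (MorphismProperty.Over.isoMk (hw 0).isoPullback.symm (hw 0).isoPullback_inv_snd) ≪≫ eV 0⟩⟩

set_option maxHeartbeats 1000000 in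
/-- A cover of the punctured hypersurface extends to a neighbourhood. -/
theorem exists_cover_nhd_of_hasLim (A : Type u) [CommRing A] [IsNoetherianRing A] [IsLocalRing A] (f : A)
    [IsAdicComplete (Ideal.span {f}) A] (hnz : f ∈ nonZeroDivisors A)
    (hlim : HasLim A f hnz)
    (V₀ : FEt.Cat (pullback (FEt.puncturedSpec A).ι (Spec.map (CommRingCat.ofHom (Ideal.Quotient.mk (Ideal.span {f})))))) :
    ∃ (U₁ : (FEt.puncturedSpec A : Scheme.{u}).Opens)
      (u₁ : pullback (FEt.puncturedSpec A).ι (Spec.map (CommRingCat.ofHom (Ideal.Quotient.mk (Ideal.span {f})))) ⟶ (U₁ : Scheme.{u}))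
      (V₁ : FEt.Cat (U₁ : Scheme.{u})),
      u₁ ≫ U₁.ι = pullback.fst _ _ ∧ (∀ x, f ∈ ((FEt.puncturedSpec A).ι x).asIdeal → x ∈ U₁) ∧
        Nonempty ((FEt.restrict u₁).obj V₁ ≅ V₀) := by
  obtain ⟨W, c, hc, het, het0, ⟨e⟩⟩ := exists_finite_cover A f hnz hlim V₀
  let J : Ideal A := Ideal.span {f}
  let j := (FEt.puncturedSpec A).ι
  haveI := hc
  let S : W.Opens := ⨆ V : { V : W.Opens // Etale (V.ι ≫ c) }, V.1
  let U₁ : (FEt.puncturedSpec A : Scheme.{u}).Opens :=
    ⟨(c '' (S : Set W)ᶜ)ᶜ, (c.isClosedMap _ S.2.isClosed_compl).isOpen_compl⟩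
  have hmem : ∀ x, f ∈ (j x).asIdeal → x ∈ U₁ := by
    rintro x hx ⟨w, hw, rfl⟩
    obtain ⟨V, hV, hVe⟩ := etale_nhd_of_truncations J j c het w
      ((Set.singleton_subset_iff.2 hx : ({f} : Set A) ⊆ _).trans' subset_rfl |> fun h => by
        rw [PrimeSpectrum.mem_zeroLocus]; exact Ideal.span_le.2 h)
    exact hw (Opens.mem_iSup.2 ⟨⟨V, hVe⟩, hV⟩)
  haveI : IsFinite (c ∣_ U₁) := inferInstance
  have hsub : c ⁻¹ᵁ U₁ ≤ S := fun w hw => not_not.1 fun h => hw ⟨w, h, rfl⟩
  haveI : Etale ((c ⁻¹ᵁ U₁).ι ≫ c) := by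
    have hS : Etale (S.ι ≫ c) := by
      refine IsZariskiLocalAtSource.of_openCover (Scheme.Opens.iSupOpenCover fun V : { V : W.Opens // Etale (V.ι ≫ c) } => V.1) fun V => ?_
      rw [← Category.assoc]
      dsimp only [Scheme.Opens.iSupOpenCover]
      erw [Scheme.homOfLE_ι]
      exact V.2
    rw [← W.homOfLE_ι hsub, Category.assoc]
    infer_instance
  haveI : Etale (c ∣_ U₁) := by
    haveI : Etale ((c ∣_ U₁) ≫ U₁.ι) := by rw [morphismRestrict_ι]; infer_instance
    exact Etale.of_comp _ U₁.ι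
  let V₁ : FEt.Cat (U₁ : Scheme.{u}) := MorphismProperty.Over.mk ⊤ (c ∣_ U₁) ⟨inferInstance, inferInstance⟩
  have hrange : Set.range (CohB1.thickι j J 0) ⊆ Set.range U₁.ι := by
    rintro _ ⟨z, rfl⟩
    rw [Scheme.Opens.range_ι]
    refine hmem _ ?_
    show f ∈ ((CohB1.thickι j J 0 ≫ j) z).asIdeal
    rw [show CohB1.thickι j J 0 ≫ j = CohB1.thickToBase j J 0 ≫ CohB1.specQuot J 0 from pullback.condition]
    show Ideal.Quotient.mk _ f ∈ (CohB1.thickToBase j J 0 z).asIdeal
    rw [Ideal.Quotient.eq_zero_iff_mem.2 (by rw [zero_add, pow_one]; exact Ideal.mem_span_singleton_self f)]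
    exact zero_mem _
  let l := IsOpenImmersion.lift U₁.ι (CohB1.thickι j J 0) hrange
  have hl : l ≫ U₁.ι = CohB1.thickι j J 0 := IsOpenImmersion.lift_fac _ _ _
  have hpb : IsPullback (pullback.lift (pullback.fst c _) (pullback.snd c _ ≫ l) (by rw [Category.assoc, hl, pullback.condition]))
      (pullback.snd c (CohB1.thickι j J 0)) (pullback.snd c U₁.ι) l := by
    refine IsPullback.of_right (h₁₂ := pullback.fst c U₁.ι) (v₁₃ := c) (h₂₂ := U₁.ι) ?_ (pullback.lift_snd _ _ _)
      (IsPullback.of_hasPullback _ _)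
    rw [pullback.lift_fst, hl]
    exact IsPullback.of_hasPullback _ _
  refine ⟨U₁, intoThick J j 0 ≫ l, V₁, ?_, hmem, ⟨?_⟩⟩
  · rw [Category.assoc, hl]
    exact H18PBC.CompleteLift.intoThick_ι J j 0
  · have hpb2 : IsPullback (pullback.lift (pullback.fst c _) (pullback.snd c _ ≫ l)
        (by rw [Category.assoc, hl, pullback.condition]) ≫ (pullbackRestrictIsoRestrict c U₁).hom)
        (pullback.snd c (CohB1.thickι j J 0)) (c ∣_ U₁) l :=
      hpb.of_iso (Iso.refl _) (pullbackRestrictIsoRestrict c U₁) (Iso.refl _) (Iso.refl _)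
        (by simp) (by simp) (by simp [morphismRestrict]) (by simp)
    have e' : (FEt.restrict l).obj V₁ ≅ MorphismProperty.Over.mk ⊤ (pullback.snd c (CohB1.thickι j J 0))
        ⟨MorphismProperty.pullback_snd _ _ hc, het0⟩ :=
      MorphismProperty.Over.isoMk hpb2.isoPullback.symm hpb2.isoPullback_inv_snd
    exact (H18Et.FEtLimit.restrictCompIso _ _ _ rfl V₁).symm ≪≫ (FEt.restrict (intoThick J j 0)).mapIso e' ≪≫ e

/-- A cover of the punctured hypersurface extends to a neighbourhood, finite cohomology. -/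
theorem exists_cover_nhd (A : Type u) [CommRing A] [IsNoetherianRing A] [IsLocalRing A] (f : A)
    [IsAdicComplete (Ideal.span {f}) A] (hnz : f ∈ nonZeroDivisors A)
    (h1 : Module.Finite A (LocCoh.H (maximalIdeal A) 1 (A ⧸ Ideal.span {f})))
    (h2 : Module.Finite A (LocCoh.H (maximalIdeal A) 2 (A ⧸ Ideal.span {f})))
    (V₀ : FEt.Cat (pullback (FEt.puncturedSpec A).ι (Spec.map (CommRingCat.ofHom (Ideal.Quotient.mk (Ideal.span {f})))))) :
    ∃ (U₁ : (FEt.puncturedSpec A : Scheme.{u}).Opens)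
      (u₁ : pullback (FEt.puncturedSpec A).ι (Spec.map (CommRingCat.ofHom (Ideal.Quotient.mk (Ideal.span {f})))) ⟶ (U₁ : Scheme.{u}))
      (V₁ : FEt.Cat (U₁ : Scheme.{u})),
      u₁ ≫ U₁.ι = pullback.fst _ _ ∧ (∀ x, f ∈ ((FEt.puncturedSpec A).ι x).asIdeal → x ∈ U₁) ∧
        Nonempty ((FEt.restrict u₁).obj V₁ ≅ V₀) :=
  exists_cover_nhd_of_hasLim A f hnz (hasLim_of_finite f hnz h1 h2) V₀

end Groth.Agent.H11Alg
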