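import Mathlib.AlgebraicGeometry.Morphisms.Etale
import Mathlib.AlgebraicGeometry.Morphisms.Separated
import Mathlib.AlgebraicGeometry.Morphisms.Finite

/-!
# Equality loci of maps into separated étale schemes
-/

set_option autoImplicit false
set_option linter.style.haveILetI false
set_option backward.isDefEq.respectTransparency false

universe u

open CategoryTheory CategoryTheory.Limits AlgebraicGeometry TopologicalSpace

namespace Groth.Agent.H11Alg

/-- The clopen locus where two maps to a separated étale scheme agree. -/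
theorem exists_eq_locus {P W S : Scheme.{u}} (c : W ⟶ S) [Etale c] [IsSeparated c] (g₁ g₂ : P ⟶ W)
    (h : g₁ ≫ c = g₂ ≫ c) :
    ∃ O : P.Opens, IsClosed (O : Set P) ∧ O.ι ≫ g₁ = O.ι ≫ g₂ ∧
      ∀ {Q : Scheme.{u}} (r : Q ⟶ P), r ≫ g₁ = r ≫ g₂ → Set.range r ⊆ O := by
  let δ := pullback.diagonal c
  let ψ : P ⟶ pullback c c := pullback.lift g₁ g₂ h
  let e : pullback δ ψ ⟶ P := pullback.snd δ ψ
  haveI : IsOpenImmersion δ := inferInstance
  haveI : IsClosedImmersion δ := inferInstance
  haveI : IsOpenImmersion e := MorphismProperty.pullback_snd _ _ inferInstance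
  haveI : IsClosedImmersion e := MorphismProperty.pullback_snd _ _ inferInstance
  have he : e ≫ g₁ = e ≫ g₂ := by
    have hc : e ≫ ψ = pullback.fst δ ψ ≫ δ := pullback.condition.symm
    have h1 := congrArg (· ≫ pullback.fst c c) hc
    have h2 := congrArg (· ≫ pullback.snd c c) hc
    simp only [ψ, δ, Category.assoc, pullback.lift_fst, pullback.lift_snd, pullback.diagonal_fst,
      pullback.diagonal_snd, Category.comp_id] at h1 h2
    exact h1.trans h2.symm
  refine ⟨e.opensRange, e.isClosedEmbedding.isClosed_range, ?_, fun {Q} r hr => ?_⟩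
  · rw [← e.isoOpensRange_inv_comp, Category.assoc, Category.assoc, he]
  · rintro _ ⟨q, rfl⟩
    let l : Q ⟶ pullback δ ψ := pullback.lift (r ≫ g₁) r (by
      refine pullback.hom_ext ?_ ?_
      · simp [δ, ψ]
      · simp [δ, ψ, hr])
    exact ⟨l q, by rw [← Scheme.Hom.comp_apply, pullback.lift_snd]⟩

/-- Maps to a separated étale scheme agreeing after a surjection are equal. -/
theorem hom_ext_of_surjective {Q P W S : Scheme.{u}} (c : W ⟶ S) [Etale c] [IsSeparated c] (r : Q ⟶ P)
    [Surjective r] (g₁ g₂ : P ⟶ W) (h : g₁ ≫ c = g₂ ≫ c) (hr : r ≫ g₁ = r ≫ g₂) : g₁ = g₂ := by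
  obtain ⟨O, -, hO, hle⟩ := exists_eq_locus c g₁ g₂ h
  have htop : O = ⊤ := eq_top_iff.2 fun x _ => by
    obtain ⟨q, rfl⟩ := r.surjective x
    exact hle r hr ⟨q, rfl⟩
  haveI : IsIso O.ι := by subst htop; rw [← Scheme.topIso_hom]; infer_instance
  exact (cancel_epi O.ι).1 hO

end Groth.Agent.H11Alg
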