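import Groth.Agent.H11Alg.Cover
import Groth.Agent.H18Pur.Formal.Purity
import Groth.Agent.S0250

/-!
# Purity descends to a hypersurface
-/

set_option autoImplicit false
set_option linter.style.haveILetI false
set_option backward.isDefEq.respectTransparency false

universe u

open CategoryTheory CategoryTheory.Limits AlgebraicGeometry TopologicalSpace IsLocalRing

namespace Groth.Agent.H11Alg

/-- Restriction along the identity. -/
noncomputable def restrictIdIso {X : Scheme.{u}} (V : FEt.Cat X) : (FEt.restrict (𝟙 X)).obj V ≅ V :=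
  MorphismProperty.Over.isoMk (asIso (pullback.fst V.hom (𝟙 X)))
    (show pullback.fst V.hom (𝟙 X) ≫ V.hom = pullback.snd V.hom (𝟙 X) by rw [pullback.condition, Category.comp_id])

/-- A prime maximal among those avoiding `f` gives a maximal ideal of `A_f`. -/
theorem isMaximal_map_away {A : Type u} [CommRing A] (f : A) (𝔭 : Ideal A) [h𝔭 : 𝔭.IsPrime] (hf : f ∉ 𝔭)
    (hmax : ∀ Q : Ideal A, Q.IsPrime → 𝔭 ≤ Q → f ∉ Q → Q = 𝔭) :
    (𝔭.map (algebraMap A (Localization.Away f))).IsPrime ∧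
      (𝔭.map (algebraMap A (Localization.Away f))).IsMaximal ∧
      (𝔭.map (algebraMap A (Localization.Away f))).comap (algebraMap A (Localization.Away f)) = 𝔭 := by
  have hdisj : Disjoint (Submonoid.powers f : Set A) 𝔭 := by
    rw [Set.disjoint_left]
    rintro _ ⟨n, rfl⟩ h
    exact hf (h𝔭.mem_of_pow_mem n h)
  have hPp := IsLocalization.isPrime_of_isPrime_disjoint (Submonoid.powers f) (Localization.Away f) 𝔭 h𝔭 hdisj
  have hPc := IsLocalization.comap_map_of_isPrime_disjoint (Submonoid.powers f) (Localization.Away f) h𝔭 hdisj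
  refine ⟨hPp, ?_, hPc⟩
  obtain ⟨M, hM, hPM⟩ := (𝔭.map (algebraMap A (Localization.Away f))).exists_le_maximal hPp.ne_top
  have hQf : f ∉ M.comap (algebraMap A (Localization.Away f)) := fun h => hM.ne_top
    (Ideal.eq_top_of_isUnit_mem _ h (IsLocalization.Away.algebraMap_isUnit f))
  have hQ := hmax _ (hM.isPrime.comap _) (hPc.ge.trans (Ideal.comap_mono hPM)) hQf
  have : M = 𝔭.map (algebraMap A (Localization.Away f)) := by
    rw [← hQ]
    exact (IsLocalization.map_comap (Submonoid.powers f) (Localization.Away f) M).symm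
  rwa [← this]

/-- Purity is invariant under isomorphism of rings. -/
theorem purityHolds_of_ringEquiv {A B : Type u} [CommRing A] [CommRing B] [IsLocalRing A] [IsLocalRing B]
    (e : A ≃+* B) (h : FEt.PurityHolds A) : FEt.PurityHolds B := by
  let s : Spec (CommRingCat.of B) ⟶ Spec (CommRingCat.of A) := Spec.map (e.toCommRingCatIso).hom
  let t : Spec (CommRingCat.of A) ⟶ Spec (CommRingCat.of B) := Spec.map (e.toCommRingCatIso).inv
  haveI : IsLocalHom e.symm.toRingHom := .of_surjective _ e.symm.surjective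
  haveI : IsLocalHom e.toRingHom := .of_surjective _ e.surjective
  have hst : ∀ Q, t (s Q) = Q := fun Q => by
    show (s ≫ t) Q = Q
    rw [← Spec.map_comp, Iso.inv_hom_id, Spec.map_id]
    rfl
  have hts : ∀ P, s (t P) = P := fun P => by
    show (t ≫ s) P = P
    rw [← Spec.map_comp, Iso.hom_inv_id, Spec.map_id]
    rfl
  have hs : s (closedPoint B) = closedPoint A := IsLocalRing.comap_closedPoint e.toRingHom
  have hpre : s ⁻¹ᵁ FEt.puncturedSpec A = FEt.puncturedSpec B := by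
    refine Opens.ext (Set.ext fun Q => not_congr ⟨fun hQ => ?_, fun hQ => ?_⟩)
    · exact ((hst Q).symm.trans (congrArg t (Set.mem_singleton_iff.1 hQ))).trans
        ((congrArg t hs).symm.trans (hst _))
    · rw [Set.mem_singleton_iff] at hQ
      subst hQ
      exact hs
  have hsk : (Scheme.isoOfEq _ hpre).inv ≫ (s ∣_ FEt.puncturedSpec A) ≫ (FEt.puncturedSpec A).ι =
      (FEt.puncturedSpec B).ι ≫ s := by
    rw [morphismRestrict_ι, Scheme.isoOfEq_inv_ι_assoc]
  haveI : IsIso s := inferInstanceAs (IsIso (Spec.map _))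
  let k := (Scheme.isoOfEq _ hpre).inv ≫ (s ∣_ FEt.puncturedSpec A)
  refine ⟨fun V => ?_⟩
  obtain ⟨Y, ⟨i⟩⟩ := h.mem_essImage ((FEt.restrict (inv k)).obj V)
  exact ⟨(FEt.restrict s).obj Y, ⟨H18Et.FEtLimit.restrictCompIso _ _ _ rfl Y ≪≫
    (H18Et.FEtLimit.restrictCompIso _ _ _ (by rw [← hsk, Category.assoc]) Y).symm ≪≫
    (FEt.restrict k).mapIso i ≪≫ H18Et.FEtLimit.restrictCompIso k (inv k) (𝟙 _) (IsIso.hom_inv_id k) V ≪≫
    restrictIdIso V⟩⟩

/-- The stalk of the punctured spectrum at a point not containing `f` whose specialisations in the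
punctured spectrum avoid `f` is a localisation of `A_f` at a maximal ideal. -/
theorem purityHolds_stalk (A : Type u) [CommRing A] [IsNoetherianRing A] [IsLocalRing A] (f : A)
    (hf : f ∈ maximalIdeal A)
    (hp : ∀ P : Ideal (Localization.Away f), ∀ _ : P.IsMaximal, FEt.PurityHolds (Localization.AtPrime P))
    (x : (FEt.puncturedSpec A : Scheme.{u})) (hxf : f ∉ ((FEt.puncturedSpec A).ι x).asIdeal)
    (hspec : ∀ z : (FEt.puncturedSpec A : Scheme.{u}),
      ((FEt.puncturedSpec A).ι x).asIdeal ≤ ((FEt.puncturedSpec A).ι z).asIdeal →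
        f ∉ ((FEt.puncturedSpec A).ι z).asIdeal) :
    FEt.PurityHolds ((FEt.puncturedSpec A : Scheme.{u}).presheaf.stalk x) := by
  let j := (FEt.puncturedSpec A).ι
  let 𝔭 : PrimeSpectrum A := j x
  -- no prime strictly between
  have hmax : ∀ Q : PrimeSpectrum A, 𝔭.asIdeal ≤ Q.asIdeal → Q.asIdeal ≠ maximalIdeal A → Q = 𝔭 := by
    intro Q hle hQm
    by_contra hne
    have hnm : ∀ R : PrimeSpectrum A, 𝔭.asIdeal ≤ R.asIdeal → f ∈ R.asIdeal → R.asIdeal = maximalIdeal A := by
      intro R hR hfR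
      by_contra hm
      exact hspec ⟨R, fun h => hm (congrArg PrimeSpectrum.asIdeal (Set.mem_singleton_iff.1 h))⟩ hR hfR
    let π := Ideal.Quotient.mk 𝔭.asIdeal
    haveI : IsLocalRing (A ⧸ 𝔭.asIdeal) := .of_surjective' π Ideal.Quotient.mk_surjective
    have hπm : (maximalIdeal A).map π = maximalIdeal (A ⧸ 𝔭.asIdeal) :=
      IsLocalRing.map_maximalIdeal_of_surjective _ Ideal.Quotient.mk_surjective
    have hfm : π f ∈ maximalIdeal (A ⧸ 𝔭.asIdeal) := hπm ▸ Ideal.mem_map_of_mem π hf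
    have hmin : maximalIdeal (A ⧸ 𝔭.asIdeal) ∈ (Ideal.span {π f}).minimalPrimes := by
      refine ⟨⟨inferInstance, (Ideal.span_singleton_le_iff_mem _).2 hfm⟩, fun R hR hle' => ?_⟩
      haveI := hR.1
      have h := hnm ⟨R.comap π, hR.1.comap π⟩
        (fun a ha => by
          show π a ∈ R
          rw [Ideal.Quotient.eq_zero_iff_mem.2 ha]
          exact zero_mem _)
        (show π f ∈ R from (Ideal.span_singleton_le_iff_mem _).1 hR.2)
      rw [← hπm, ← show R.comap π = maximalIdeal A from h, Ideal.map_comap_of_surjective _ Ideal.Quotient.mk_surjective]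
    have hht := Ideal.height_le_one_of_isPrincipal_of_mem_minimalPrimes (Ideal.span {π f}) _ hmin
    let Q' : Ideal (A ⧸ 𝔭.asIdeal) := Q.asIdeal.map π
    have hker : RingHom.ker π ≤ Q.asIdeal := by rwa [Ideal.mk_ker]
    haveI : Q'.IsPrime := Ideal.map_isPrime_of_surjective Ideal.Quotient.mk_surjective hker
    have hQ'c : Q'.comap π = Q.asIdeal := by
      rw [Ideal.comap_map_of_surjective _ Ideal.Quotient.mk_surjective, sup_eq_left]
      exact hker
    have hbot : (⊥ : Ideal (A ⧸ 𝔭.asIdeal)) < Q' := by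
      refine bot_lt_iff_ne_bot.2 fun h => hne (PrimeSpectrum.ext ?_)
      rw [← hQ'c, h]
      exact Ideal.mk_ker
    have hlt : Q' < maximalIdeal (A ⧸ 𝔭.asIdeal) := by
      refine lt_of_le_of_ne (le_maximalIdeal Ideal.IsPrime.ne_top') fun h => hQm ?_
      rw [← hQ'c, h]
      exact IsLocalRing.eq_maximalIdeal (Ideal.comap_isMaximal_of_surjective π Ideal.Quotient.mk_surjective)
    have h1 := Ideal.height_strict_mono_of_isPrime hbot
    have h2 := Ideal.height_strict_mono_of_isPrime hlt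
    exact absurd (h2.trans_le hht) (by
      rw [not_lt]
      exact Order.one_le_iff_pos.2 (lt_of_le_of_lt zero_le h1))
  obtain ⟨hPp, hP, hPc⟩ := isMaximal_map_away f 𝔭.asIdeal hxf fun Q hQ hle hfQ =>
    congrArg PrimeSpectrum.asIdeal (hmax ⟨Q, hQ⟩ hle fun h => hfQ ((show Q = maximalIdeal A from h) ▸ hf))
  let P := 𝔭.asIdeal.map (algebraMap A (Localization.Away f))
  haveI : P.IsPrime := hPp
  have h := hp P hP
  have hloc : IsLocalization.AtPrime (Localization.AtPrime P) (P.comap (algebraMap A (Localization.Away f))) :=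
    IsLocalization.isLocalization_isLocalization_atPrime_isLocalization (Submonoid.powers f) _ P
  have hS : (P.comap (algebraMap A (Localization.Away f))).primeCompl = 𝔭.asIdeal.primeCompl :=
    SetLike.ext fun a => not_congr (SetLike.ext_iff.1 hPc a)
  haveI : IsLocalization 𝔭.asIdeal.primeCompl (Localization.AtPrime P) := hS ▸ hloc
  let e₂ : Localization.AtPrime 𝔭.asIdeal ≃+* Localization.AtPrime P :=
    (IsLocalization.algEquiv 𝔭.asIdeal.primeCompl (Localization.AtPrime 𝔭.asIdeal) (Localization.AtPrime P)).toRingEquiv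
  let e₃ : (FEt.puncturedSpec A : Scheme.{u}).presheaf.stalk x ≅ (Spec (CommRingCat.of A)).presheaf.stalk 𝔭 :=
    (asIso (j.stalkMap x)).symm
  exact purityHolds_of_ringEquiv (((e₃ ≪≫ Spec.stalkIso (CommRingCat.of A) 𝔭).commRingCatIsoToRingEquiv).trans e₂).symm h

/-- S9475. -/
theorem essSurj_restrict (A : Type u) [CommRing A] [IsNoetherianRing A] [IsLocalRing A] (f : A)
    (hf : f ∈ maximalIdeal A) [IsAdicComplete (Ideal.span {f}) A] (hnz : f ∈ nonZeroDivisors A)
    (h1 : Module.Finite A (LocCoh.H (maximalIdeal A) 1 (A ⧸ Ideal.span {f})))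
    (h2 : Module.Finite A (LocCoh.H (maximalIdeal A) 2 (A ⧸ Ideal.span {f})))
    (hp : ∀ P : Ideal (Localization.Away f), ∀ _ : P.IsMaximal, FEt.PurityHolds (Localization.AtPrime P)) :
    (FEt.restrict (pullback.fst (FEt.puncturedSpec A).ι
      (Spec.map (CommRingCat.ofHom (Ideal.Quotient.mk (Ideal.span {f})))))).EssSurj := by
  refine ⟨fun V₀ => ?_⟩
  obtain ⟨U₁, u₁, V₁, hu, hmem, ⟨e⟩⟩ := exists_cover_nhd A f hnz h1 h2 V₀
  haveI : IsNoetherianRing (CommRingCat.of A) := inferInstanceAs (IsNoetherianRing A)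
  haveI : IsLocallyNoetherian (FEt.puncturedSpec A : Scheme.{u}) := inferInstance
  haveI : CompactSpace (FEt.puncturedSpec A : Scheme.{u}) :=
    isCompact_iff_compactSpace.1 (NoetherianSpace.isCompact _)
  haveI : IsNoetherian (FEt.puncturedSpec A : Scheme.{u}) := {}
  haveI := S0250.result U₁ fun x hx => purityHolds_stalk A f hf hp x (fun h => hx (hmem x h)) fun z hz h => by
    have hspec : x ⤳ z := by
      rw [← (FEt.puncturedSpec A).ι.isOpenEmbedding.isInducing.specializes_iff]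
      exact (PrimeSpectrum.le_iff_specializes ((FEt.puncturedSpec A).ι x) ((FEt.puncturedSpec A).ι z)).1 hz
    exact hx (hspec.mem_open U₁.2 (hmem z h))
  obtain ⟨V, ⟨i⟩⟩ := Functor.EssSurj.mem_essImage (F := FEt.restrict U₁.ι) V₁
  exact ⟨V, ⟨(H18Et.FEtLimit.restrictCompIso _ _ _ hu V).symm ≪≫ (FEt.restrict u₁).mapIso i ≪≫ e⟩⟩

/-- S9476. -/
theorem purityHolds_quotient (A : Type u) [CommRing A] [IsNoetherianRing A] [IsLocalRing A] (f : A)
    (hf : f ∈ maximalIdeal A) [IsAdicComplete (Ideal.span {f}) A] (hnz : f ∈ nonZeroDivisors A)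
    (h1 : Module.Finite A (LocCoh.H (maximalIdeal A) 1 (A ⧸ Ideal.span {f})))
    (h2 : Module.Finite A (LocCoh.H (maximalIdeal A) 2 (A ⧸ Ideal.span {f})))
    (hp : ∀ P : Ideal (Localization.Away f), ∀ _ : P.IsMaximal, FEt.PurityHolds (Localization.AtPrime P))
    (hA : FEt.PurityHolds A) [IsLocalRing (A ⧸ Ideal.span {f})] :
    FEt.PurityHolds (A ⧸ Ideal.span {f}) := by
  refine ⟨fun W => ?_⟩
  obtain ⟨k, hk⟩ := H18Pur.Formal.exists_isPullback_punctured A (Ideal.span {f})
  haveI := essSurj_restrict A f hf hnz h1 h2 hp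
  let q := Spec.map (CommRingCat.ofHom (Ideal.Quotient.mk (Ideal.span {f})))
  let i := hk.isoPullback
  obtain ⟨V, ⟨eV⟩⟩ := Functor.EssSurj.mem_essImage (F := FEt.restrict (pullback.fst (FEt.puncturedSpec A).ι q))
    ((FEt.restrict i.inv).obj W)
  obtain ⟨Y, ⟨eY⟩⟩ := hA.mem_essImage V
  exact ⟨(FEt.restrict q).obj Y, ⟨H18Et.FEtLimit.restrictCompIso _ _ _ hk.w.symm Y ≪≫
    (H18Et.FEtLimit.restrictCompIso k (FEt.puncturedSpec A).ι _ rfl Y).symm ≪≫ (FEt.restrict k).mapIso eY ≪≫
    (H18Et.FEtLimit.restrictCompIso i.hom (pullback.fst _ q) k hk.isoPullback_hom_fst V).symm ≪≫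
    (FEt.restrict i.hom).mapIso eV ≪≫
    H18Et.FEtLimit.restrictCompIso i.hom i.inv (𝟙 _) i.hom_inv_id W ≪≫
    restrictIdIso W⟩⟩

/-- S9481. -/
theorem exists_nhd (A : Type u) [CommRing A] [IsNoetherianRing A] [IsLocalRing A] (f : A)
    [IsAdicComplete (Ideal.span {f}) A] (hnz : f ∈ nonZeroDivisors A)
    (h1 : Module.Finite A (LocCoh.H (maximalIdeal A) 1 (A ⧸ Ideal.span {f})))
    (h2 : Module.Finite A (LocCoh.H (maximalIdeal A) 2 (A ⧸ Ideal.span {f})))
    (V₀ : FEt.Cat (pullback (FEt.puncturedSpec A).ι (Spec.map (CommRingCat.ofHom (Ideal.Quotient.mk (Ideal.span {f})))))) :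
    ∃ (U' : (Spec (CommRingCat.of A)).Opens) (_ : U' ≤ (FEt.puncturedSpec A))
      (u' : pullback (FEt.puncturedSpec A).ι (Spec.map (CommRingCat.ofHom (Ideal.Quotient.mk (Ideal.span {f})))) ⟶ (U' : Scheme.{u}))
      (_ : u' ≫ U'.ι = (pullback.fst (FEt.puncturedSpec A).ι (Spec.map (CommRingCat.ofHom (Ideal.Quotient.mk (Ideal.span {f})))) ≫ (FEt.puncturedSpec A).ι))
      (V' : FEt.Cat (U' : Scheme.{u})), Nonempty ((FEt.restrict u').obj V' ≅ V₀) := by
  obtain ⟨U₁, u₁, V₁, hu, -, ⟨e⟩⟩ := exists_cover_nhd A f hnz h1 h2 V₀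
  let j := (FEt.puncturedSpec A).ι
  let i := j.isoImage U₁
  refine ⟨j ''ᵁ U₁, ?_, u₁ ≫ i.hom, ?_, (FEt.restrict i.inv).obj V₁, ⟨?_⟩⟩
  · exact (j.image_le_opensRange U₁).trans_eq (Scheme.Opens.opensRange_ι _)
  · rw [Category.assoc, Scheme.Hom.isoImage_hom_ι, ← Category.assoc, hu]
  · exact H18Et.FEtLimit.restrictCompIso (u₁ ≫ i.hom) i.inv u₁
      (by rw [Category.assoc, i.hom_inv_id, Category.comp_id]) V₁ ≪≫ e

end Groth.Agent.H11Alg
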