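import Groth.Agent.H11Alg.Tower
import Groth.Agent.H18Pur.Formal.Coord
import Groth.Agent.H4LC.CanonCM
import Mathlib.AlgebraicGeometry.Morphisms.Finite

/-!
# Finiteness of the sections at the bottom level
-/

set_option autoImplicit false
set_option linter.style.haveILetI false
set_option backward.isDefEq.respectTransparency false

universe u

open CategoryTheory CategoryTheory.Limits AlgebraicGeometry TopologicalSpace IsLocalRing
open scoped TensorProduct

namespace Groth.Agent.H11Alg.Tower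

variable {A : Type u} [CommRing A] [IsNoetherianRing A] [IsLocalRing A] {f : A} {T : Finset A} (D : Tower A f T)

set_option maxHeartbeats 1000000 in
/-- The bottom sections and their second local cohomology are finite. -/
theorem finite_bottom (hT : Ideal.span (T : Set A) = maximalIdeal A)
    (h1 : Module.Finite A (LocCoh.H (maximalIdeal A) 1 (A ⧸ Ideal.span {f})))
    (h2 : Module.Finite A (LocCoh.H (maximalIdeal A) 2 (A ⧸ Ideal.span {f})))
    (hfinApp : ∀ c ∈ T, ((D.p 0).app (PrimeSpectrum.basicOpen (Ideal.Quotient.mk (Ideal.span {f} ^ (0 + 1)) c))).hom.Finite) :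
    Module.Finite A (D.Sec 0) ∧ Module.Finite A (LocCoh.H (maximalIdeal A) 2 (D.Sec 0)) := by
  classical
  let R := A ⧸ Ideal.span {f} ^ (0 + 1)
  have hQ : ∀ i, Module.Finite A (LocCoh.H (maximalIdeal A) i (A ⧸ Ideal.span {f})) →
      Module.Finite A (LocCoh.H (maximalIdeal A) i R) := fun i hi => by
    obtain ⟨e⟩ := H4LC.nonempty_H_congr (maximalIdeal A) (Submodule.quotEquivOfEq (Ideal.span {f}) (Ideal.span {f} ^ (0 + 1)) (by rw [zero_add, pow_one])) i
    exact Module.Finite.equiv e
  let ρR : CommRingCat.of R ⟶ Γ(D.Y 0, ⊤) := (Scheme.ΓSpecIso (CommRingCat.of R)).inv ≫ (D.p 0).appTop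
  letI : Algebra R (D.Sec 0) := ρR.hom.toAlgebra
  haveI : IsScalarTower A R (D.Sec 0) := .of_algebraMap_eq fun a => by
    show (D.g 0).appTop ((Scheme.ΓSpecIso (CommRingCat.of A)).inv a) =
      (D.p 0).appTop ((CommRingCat.ofHom (Ideal.Quotient.mk _) ≫ (Scheme.ΓSpecIso (CommRingCat.of R)).inv) a)
    rw [Scheme.ΓSpecIso_inv_naturality]
    rfl
  -- the dual bases of a finite submodule with torsion cokernel
  have hdual : ∀ (G' : Submodule R (D.Sec 0)) [Module.Finite R G'],
      (∀ x : D.Sec 0, ∀ c ∈ T, ∃ K : ℕ, c ^ K • x ∈ G') → ∀ c ∈ T,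
        ∃ (L n : ℕ) (φ : Fin n → ((G'.restrictScalars A) →ₗ[A] R)) (ψ : Fin n → (R →ₗ[A] (G'.restrictScalars A))),
          ∀ y, ∑ k, ψ k (φ k y) = c ^ L • y := by
    intro G' _ htor c hc
    let cR : R := Ideal.Quotient.mk _ c
    let Dc : (Spec (CommRingCat.of R)).Opens := PrimeSpectrum.basicOpen cR
    have hW : D.p 0 ⁻¹ᵁ Dc = D.W 0 c := by
      rw [D.W_eq]
      exact Opens.ext (Set.ext fun y => Iff.rfl)
    have hDc : IsAffineOpen Dc := by
      have := (isAffineOpen_top (Spec (CommRingCat.of R))).basicOpen ((Scheme.ΓSpecIso (CommRingCat.of R)).inv cR)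
      rwa [basicOpen_eq_of_affine] at this
    let Ac := Γ(Spec (CommRingCat.of R), Dc)
    letI : Algebra R Ac := StructureSheaf.openAlgebra R (Opposite.op Dc)
    haveI : IsLocalization.Away cR Ac := StructureSheaf.IsLocalization.to_basicOpen R cR
    let F := Γ(D.Y 0, D.W 0 c)
    let α : Γ(Spec (CommRingCat.of R), Dc) ⟶ F := (D.p 0).appLE Dc (D.W 0 c) hW.ge
    letI : Algebra Ac F := α.hom.toAlgebra
    letI : Algebra R F := ((D.rW 0 c).comp ρR.hom).toAlgebra
    haveI : IsScalarTower R Ac F := .of_algebraMap_eq fun r => by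
      show ((ρR ≫ (D.Y 0).presheaf.map (homOfLE le_top).op) : _) r =
        (((Scheme.ΓSpecIso (CommRingCat.of R)).inv ≫ (Spec (CommRingCat.of R)).presheaf.map (homOfLE le_top).op) ≫ α) r
      rw [Category.assoc, Category.assoc, Scheme.Hom.map_appLE]
      simp only [Scheme.Hom.appTop, Scheme.Hom.app_eq_appLE, Scheme.Hom.appLE_map]
      rfl
    haveI : IsNoetherianRing Ac := IsLocalization.isNoetherianRing (Submonoid.powers cR) Ac inferInstance
    haveI : Module.Finite Ac F := by
      rw [← RingHom.finite_algebraMap]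
      show α.hom.Finite
      have e : α = (D.p 0).app Dc ≫ (D.Y 0).presheaf.map (eqToHom hW.symm).op := by
        rw [Scheme.Hom.app_eq_appLE, Scheme.Hom.appLE_map]
      rw [e]
      exact RingHom.Finite.comp (RingHom.Finite.of_surjective _
        (ConcreteCategory.bijective_of_isIso ((D.Y 0).presheaf.map (eqToHom hW.symm).op)).2) (hfinApp c hc)
    haveI : Module.Flat Ac F := RingHom.flat_algebraMap_iff.1 (Flat.flat_appLE (D.p 0) hDc (D.affineW 0 hc) _)
    haveI : Module.Projective Ac F :=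
      haveI : Module.FinitePresentation Ac F := Module.finitePresentation_of_finite Ac F
      Module.Flat.projective_of_finitePresentation
    let ρ : G' →ₗ[R] F :=
      { toFun := fun x => D.rW 0 c x.1
        map_add' := fun a b => map_add _ _ _
        map_smul' := fun r x => by
          show D.rW 0 c (algebraMap R (D.Sec 0) r * x.1) = algebraMap R F r * D.rW 0 c x.1
          rw [map_mul]
          rfl }
    haveI : IsLocalizedModule (Submonoid.powers cR) ρ := by
      have hpow : ∀ k : ℕ, algebraMap R (D.Sec 0) (cR ^ k) = algebraMap A (D.Sec 0) c ^ k := fun k => by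
        rw [map_pow, IsScalarTower.algebraMap_apply A R (D.Sec 0)]; rfl
      refine ⟨?_, fun z => ?_, fun {x y} h => ?_⟩
      · rintro ⟨_, k, rfl⟩
        rw [Module.End.isUnit_iff]
        haveI := D.isLocalization_W 0 c
        have hu : IsUnit (algebraMap R F (cR ^ k)) := by
          show IsUnit (D.rW 0 c (algebraMap R (D.Sec 0) (cR ^ k)))
          rw [hpow, map_pow]
          exact (IsLocalization.Away.algebraMap_isUnit (S := F) (algebraMap A (D.Sec 0) c)).pow k
        have e : ∀ x : F, (algebraMap R (Module.End R F) (cR ^ k)) x = algebraMap R F (cR ^ k) * x := fun x => by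
          rw [Module.algebraMap_end_apply, Algebra.smul_def]
        exact ⟨fun a b h => hu.mul_left_cancel (by rw [← e, ← e]; exact h),
          fun b => ⟨hu.unit⁻¹.1 * b, by rw [e, ← mul_assoc, IsUnit.mul_val_inv, one_mul]⟩⟩
      · obtain ⟨K, x, hx⟩ := D.exists_rW 0 c z
        obtain ⟨M, hM⟩ := htor x c hc
        refine ⟨⟨⟨c ^ M • x, hM⟩, ⟨cR ^ (M + K), M + K, rfl⟩⟩, ?_⟩
        rw [Submonoid.smul_def, Algebra.smul_def]
        show D.rW 0 c (algebraMap R (D.Sec 0) (cR ^ (M + K))) * z = D.rW 0 c (c ^ M • x)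
        rw [rW_smul, hx, hpow, map_pow, map_pow, map_pow, pow_add, mul_assoc]
      · obtain ⟨K, hK⟩ := D.exists_of_rW_eq (x := x.1) (y := y.1) h
        refine ⟨⟨cR ^ K, K, rfl⟩, Subtype.ext ?_⟩
        show algebraMap R (D.Sec 0) (cR ^ K) * x.1 = algebraMap R (D.Sec 0) (cR ^ K) * y.1
        rw [Algebra.smul_def, Algebra.smul_def, map_pow] at hK
        rw [hpow]
        exact hK
    obtain ⟨L, n, φ, b, hb⟩ := H18Pur.Formal.exists_dualBasis cR Ac F ρ
    refine ⟨L, n, fun k => (φ k).restrictScalars A, fun k => (LinearMap.toSpanSingleton R G' (b k)).restrictScalars A,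
      fun y => ?_⟩
    refine (hb y).trans (Subtype.ext ?_)
    show (cR ^ L) • (y.1 : D.Sec 0) = c ^ L • y.1
    rw [← algebraMap_smul R (c ^ L) y.1, map_pow]
    rfl
  -- a finite submodule with torsion cokernel
  have hgen : ∀ c : T, ∃ s : Finset (D.Sec 0), ∀ x : D.Sec 0, ∃ K : ℕ, c.1 ^ K • x ∈ Submodule.span R (s : Set (D.Sec 0)) := by
    rintro ⟨c, hc⟩
    let cR : R := Ideal.Quotient.mk _ c
    let Dc : (Spec (CommRingCat.of R)).Opens := PrimeSpectrum.basicOpen cR
    have hW : D.p 0 ⁻¹ᵁ Dc = D.W 0 c := by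
      rw [D.W_eq]
      exact Opens.ext (Set.ext fun y => Iff.rfl)
    let Ac := Γ(Spec (CommRingCat.of R), Dc)
    letI : Algebra R Ac := StructureSheaf.openAlgebra R (Opposite.op Dc)
    haveI : IsLocalization.Away cR Ac := StructureSheaf.IsLocalization.to_basicOpen R cR
    let F := Γ(D.Y 0, D.W 0 c)
    let α : Γ(Spec (CommRingCat.of R), Dc) ⟶ F := (D.p 0).appLE Dc (D.W 0 c) hW.ge
    letI : Algebra Ac F := α.hom.toAlgebra
    haveI : Module.Finite Ac F := by
      rw [← RingHom.finite_algebraMap]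
      show α.hom.Finite
      have e : α = (D.p 0).app Dc ≫ (D.Y 0).presheaf.map (eqToHom hW.symm).op := by
        rw [Scheme.Hom.app_eq_appLE, Scheme.Hom.appLE_map]
      rw [e]
      exact RingHom.Finite.comp (RingHom.Finite.of_surjective _
        (ConcreteCategory.bijective_of_isIso ((D.Y 0).presheaf.map (eqToHom hW.symm).op)).2) (hfinApp c hc)
    obtain ⟨gens, hgens⟩ := Module.Finite.fg_top (R := Ac) (M := F)
    choose K g hg using fun z : F => D.exists_rW 0 c z
    refine ⟨gens.image g, fun x => ?_⟩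
    let M := Submodule.span R ((gens.image g : Finset (D.Sec 0)) : Set (D.Sec 0))
    show ∃ K : ℕ, c ^ K • x ∈ M
    have key : ∀ z : F, ∃ (K : ℕ) (y : D.Sec 0), y ∈ M ∧ D.rW 0 c y = D.rW 0 c (algebraMap A (D.Sec 0) c) ^ K * z := by
      intro z
      induction (hgens.ge (Submodule.mem_top (x := z))) using Submodule.span_induction with
      | mem z hz => exact ⟨K z, g z, Submodule.subset_span (Finset.mem_image_of_mem g hz), hg z⟩
      | zero => exact ⟨0, 0, zero_mem _, by simp⟩
      | add a b _ _ ha hb =>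
        obtain ⟨K₁, y₁, h₁, e₁⟩ := ha
        obtain ⟨K₂, y₂, h₂, e₂⟩ := hb
        refine ⟨K₁ + K₂, cR ^ K₂ • y₁ + cR ^ K₁ • y₂, add_mem (M.smul_mem _ h₁) (M.smul_mem _ h₂), ?_⟩
        have hsm : ∀ (k : ℕ) (y : D.Sec 0), D.rW 0 c (cR ^ k • y) =
            D.rW 0 c (algebraMap A (D.Sec 0) c) ^ k * D.rW 0 c y := fun k y => by
          rw [← map_pow (Ideal.Quotient.mk _) c k, ← Ideal.Quotient.algebraMap_eq, algebraMap_smul, rW_smul, map_pow, map_pow]
        rw [map_add, hsm, hsm, e₁, e₂, pow_add]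
        ring
      | smul r a _ ha =>
        obtain ⟨K₁, y₁, h₁, e₁⟩ := ha
        obtain ⟨k, r', hr'⟩ := IsLocalization.Away.surj cR r
        refine ⟨k + K₁, r' • y₁, M.smul_mem _ h₁, ?_⟩
        have hR : ∀ r₀ : R, algebraMap Ac F (algebraMap R Ac r₀) = D.rW 0 c (algebraMap R (D.Sec 0) r₀) := fun r₀ => by
          show (((Scheme.ΓSpecIso (CommRingCat.of R)).inv ≫ (Spec (CommRingCat.of R)).presheaf.map (homOfLE le_top).op) ≫ α) r₀ =
            ((ρR ≫ (D.Y 0).presheaf.map (homOfLE le_top).op) : _) r₀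
          rw [Category.assoc, Category.assoc, Scheme.Hom.map_appLE]
          simp only [Scheme.Hom.appTop, Scheme.Hom.app_eq_appLE, Scheme.Hom.appLE_map]
          rfl
        have h2 := congrArg (algebraMap Ac F) hr'
        rw [map_mul, map_pow, hR, hR] at h2
        rw [show algebraMap R (D.Sec 0) cR = algebraMap A (D.Sec 0) c by
          rw [IsScalarTower.algebraMap_apply A R (D.Sec 0)]; rfl] at h2
        rw [Algebra.smul_def, map_mul, e₁, Algebra.smul_def, ← h2, pow_add]
        ring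
    obtain ⟨K₀, y, hy, e⟩ := key (D.rW 0 c x)
    obtain ⟨N, hN⟩ := D.exists_of_rW_eq (x := y) (y := c ^ K₀ • x) (c := c) (by rw [rW_smul, map_pow, map_pow]; exact e)
    refine ⟨N + K₀, ?_⟩
    rw [pow_add c N K₀, mul_smul, ← hN]
    exact Submodule.smul_of_tower_mem M (c ^ N) hy
  choose s hs using hgen
  let G' : Submodule R (D.Sec 0) := Submodule.span R ((T.attach.biUnion s : Finset (D.Sec 0)) : Set (D.Sec 0))
  have htor : ∀ x : D.Sec 0, ∀ c ∈ T, ∃ K : ℕ, c ^ K • x ∈ G' := fun x c hc =>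
    (hs ⟨c, hc⟩ x).imp fun K hK => Submodule.span_mono
      (Finset.coe_subset.2 (Finset.subset_biUnion_of_mem s (Finset.mem_attach T ⟨c, hc⟩))) hK
  haveI : Module.Finite R G' := Module.Finite.span_of_finite R (Finset.finite_toSet _)
  haveI : Module.Finite A (G'.restrictScalars A) := Module.Finite.trans R G'
  have hG : Module.Finite A (D.Sec 0) :=
    (D.isSat 0).finite hT (G'.restrictScalars A) htor
      (finite_H_of_dual hT 1 _ R (hQ 1 h1) (hdual G' htor))
  refine ⟨hG, ?_⟩
  haveI := hG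
  haveI : Module.Finite R (D.Sec 0) := Module.Finite.of_restrictScalars_finite A _ _
  haveI : Module.Finite R (⊤ : Submodule R (D.Sec 0)) := Module.Finite.equiv Submodule.topEquiv.symm
  refine finite_H_of_dual hT 2 _ R (hQ 2 h2) fun c hc => ?_
  obtain ⟨L, n, φ, ψ, h⟩ := hdual ⊤ (fun x c _ => ⟨0, trivial⟩) c hc
  let j : D.Sec 0 →ₗ[A] ((⊤ : Submodule R (D.Sec 0)).restrictScalars A) := LinearMap.id.codRestrict _ fun _ => trivial
  refine ⟨L, n, fun k => φ k ∘ₗ j, fun k => (Submodule.subtype _) ∘ₗ ψ k, fun y => ?_⟩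
  have := congrArg Subtype.val (h (j y))
  simpa [j] using this

end Groth.Agent.H11Alg.Tower
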