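import Groth.Agent.H11Alg.Clopen
import Groth.Agent.H11Alg.Eq
import Mathlib.AlgebraicGeometry.Morphisms.FlatRank

/-!
# Full faithfulness of restriction from neighbourhoods of a punctured hypersurface
-/

set_option autoImplicit false
set_option linter.style.haveILetI false
set_option backward.isDefEq.respectTransparency false

universe u

open CategoryTheory CategoryTheory.Limits AlgebraicGeometry TopologicalSpace IsLocalRing

namespace Groth.Agent.H11Alg

/-- A section over a closed subscheme cut out by disjoint opens extends to a neighbourhood. -/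
theorem exists_section_near {Z V V₀ : Scheme.{u}} (a : Z ⟶ V) [IsFinite a] [Etale a] (r : V₀ ⟶ V) [IsClosedImmersion r]
    (s : V₀ ⟶ Z) (hs : s ≫ a = r) (O₁ O₂ : Z.Opens) (hdisj : Disjoint (O₁ : Set Z) O₂)
    (hcov : a ⁻¹' Set.range r ⊆ (O₁ : Set Z) ∪ O₂) (hs₁ : Set.range s ⊆ O₁)
    (hsub : a ⁻¹' Set.range r ∩ O₁ ⊆ Set.range s) :
    ∃ (M : V.Opens) (σ : (M : Scheme.{u}) ⟶ Z) (r' : V₀ ⟶ (M : Scheme.{u})),
      σ ≫ a = M.ι ∧ r' ≫ M.ι = r ∧ r' ≫ σ = s := by
  -- where the two opens cover the fibres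
  let V₁ : V.Opens := ⟨(a '' ((O₁ : Set Z) ∪ O₂)ᶜ)ᶜ,
    (a.isClosedMap _ (O₁.2.union O₂.2).isClosed_compl).isOpen_compl⟩
  have hrV₁ : Set.range r ⊆ (V₁ : Set V) := by
    rintro _ ⟨y, rfl⟩ ⟨z, hz, hzy⟩
    exact hz (hcov ⟨y, hzy.symm⟩)
  have hV₁ : ∀ z, a z ∈ V₁ → z ∈ (O₁ : Set Z) ∪ O₂ := fun z hz => not_not.1 fun h => hz ⟨z, h, rfl⟩
  let G : (a ⁻¹ᵁ V₁ : Scheme.{u}).Opens := (a ⁻¹ᵁ V₁).ι ⁻¹ᵁ O₁
  have hG : IsClosed (G : Set (a ⁻¹ᵁ V₁ : Scheme.{u})) := by
    rw [← isOpen_compl_iff, show (G : Set (a ⁻¹ᵁ V₁ : Scheme.{u}))ᶜ = (a ⁻¹ᵁ V₁).ι ⁻¹' (O₂ : Set Z) from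
      Set.ext fun z => ⟨fun h => (hV₁ _ z.2).resolve_left h, fun h h' => Set.disjoint_left.1 hdisj h' h⟩]
    exact O₂.2.preimage (a ⁻¹ᵁ V₁).ι.continuous
  haveI : IsClosedImmersion G.ι := IsClosedImmersion.of_isPreimmersion _ (by rwa [Scheme.Opens.range_ι])
  let c := G.ι ≫ (a ∣_ V₁)
  haveI : IsFinite c := inferInstance
  haveI : Etale c := inferInstance
  -- the lifts of the section
  let r₁ : V₀ ⟶ (V₁ : Scheme.{u}) := IsOpenImmersion.lift V₁.ι r (by rw [Scheme.Opens.range_ι]; exact hrV₁)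
  have hr₁ : r₁ ≫ V₁.ι = r := IsOpenImmersion.lift_fac _ _ _
  have hmemW : ∀ y, s y ∈ a ⁻¹ᵁ V₁ := fun y => by
    show a (s y) ∈ V₁
    rw [← Scheme.Hom.comp_apply, hs]
    exact hrV₁ ⟨y, rfl⟩
  let s₁ : V₀ ⟶ (a ⁻¹ᵁ V₁ : Scheme.{u}) := IsOpenImmersion.lift (a ⁻¹ᵁ V₁).ι s (by
    rw [Scheme.Opens.range_ι]; rintro _ ⟨y, rfl⟩; exact hmemW y)
  have hs₁' : s₁ ≫ (a ⁻¹ᵁ V₁).ι = s := IsOpenImmersion.lift_fac _ _ _
  let sG : V₀ ⟶ (G : Scheme.{u}) := IsOpenImmersion.lift G.ι s₁ (by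
    rw [Scheme.Opens.range_ι]
    rintro _ ⟨y, rfl⟩
    show (a ⁻¹ᵁ V₁).ι (s₁ y) ∈ O₁
    rw [← Scheme.Hom.comp_apply, hs₁']
    exact hs₁ ⟨y, rfl⟩)
  have hsG : sG ≫ G.ι = s₁ := IsOpenImmersion.lift_fac _ _ _
  have hsGc : sG ≫ c = r₁ := by
    rw [← cancel_mono V₁.ι, Category.assoc, Category.assoc, morphismRestrict_ι, reassoc_of% hsG,
      reassoc_of% hs₁', hs, hr₁]
  -- the rank is one along the closed subscheme
  haveI : IsClosedImmersion (r₁ ≫ V₁.ι) := by rw [hr₁]; infer_instance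
  haveI : IsClosedImmersion r₁ := IsClosedImmersion.of_comp r₁ V₁.ι
  haveI : IsClosedImmersion (pullback.fst c r₁) := MorphismProperty.pullback_fst _ _ inferInstance
  let fib := pullback.snd c r₁
  haveI : Etale fib := MorphismProperty.pullback_snd _ _ inferInstance
  haveI : IsFinite fib := MorphismProperty.pullback_snd _ _ inferInstance
  let sec : V₀ ⟶ pullback c r₁ := pullback.lift sG (𝟙 _) (by rw [hsGc, Category.id_comp])
  have hsec : sec ≫ fib = 𝟙 _ := pullback.lift_snd _ _ _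
  haveI : Etale (sec ≫ fib) := by rw [hsec]; infer_instance
  haveI : Etale sec := Etale.of_comp sec fib
  haveI : Mono sec := ⟨fun g h e => by
    have := congrArg (· ≫ fib) e
    simpa only [Category.assoc, hsec, Category.comp_id] using this⟩
  haveI : IsOpenImmersion sec := IsOpenImmersion.of_flat_of_mono sec
  haveI : Surjective sec := ⟨fun z => by
    let w := pullback.fst c r₁ z
    have hw : a ((a ⁻¹ᵁ V₁).ι (G.ι w)) = r (fib z) := by
      show (G.ι ≫ (a ⁻¹ᵁ V₁).ι ≫ a) w = r (fib z)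
      rw [← morphismRestrict_ι, ← hr₁]
      show ((pullback.fst c r₁ ≫ c) ≫ V₁.ι) z = ((fib ≫ r₁) ≫ V₁.ι) z
      rw [pullback.condition]
    obtain ⟨y, hy⟩ := hsub ⟨⟨fib z, hw.symm⟩, (w.2 : (a ⁻¹ᵁ V₁).ι (G.ι w) ∈ O₁)⟩
    refine ⟨y, (pullback.fst c r₁).isClosedEmbedding.injective ?_⟩
    rw [← Scheme.Hom.comp_apply, pullback.lift_fst]
    refine (G.ι ≫ (a ⁻¹ᵁ V₁).ι).isOpenEmbedding.injective ?_
    rw [← Scheme.Hom.comp_apply, reassoc_of% hsG, hs₁']
    exact hy⟩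
  haveI : IsIso sec := (isIso_iff_isOpenImmersion_and_epi_base sec).2
    ⟨inferInstance, (TopCat.epi_iff_surjective _).2 sec.surjective⟩
  haveI : IsIso fib := by
    rw [show fib = inv sec by rw [← cancel_epi sec, hsec, IsIso.hom_inv_id]]
    infer_instance
  let M₁ : (V₁ : Scheme.{u}).Opens := ⟨c.finrank ⁻¹' {1}, c.isLocallyConstant_finrank {1}⟩
  have hrM : Set.range r₁ ⊆ (M₁ : Set (V₁ : Scheme.{u})) := by
    rintro _ ⟨y, rfl⟩
    show c.finrank (r₁ y) = 1
    rw [← Scheme.Hom.finrank_pullback_snd, Scheme.Hom.finrank_eq_one_of_isIso]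
    rfl
  haveI : IsIso (c ∣_ M₁) := (Scheme.Hom.isIso_iff_finrank_eq _).2 (funext fun v => by
    rw [Scheme.Hom.finrank_of_isPullback _ _ _ _ (isPullback_morphismRestrict c M₁).flip]
    exact v.2)
  let r₂ : V₀ ⟶ (M₁ : Scheme.{u}) := IsOpenImmersion.lift M₁.ι r₁ (by rw [Scheme.Opens.range_ι]; exact hrM)
  have hr₂ : r₂ ≫ M₁.ι = r₁ := IsOpenImmersion.lift_fac _ _ _
  refine ⟨V₁.ι ''ᵁ M₁, (V₁.ι.isoImage M₁).inv ≫ inv (c ∣_ M₁) ≫ (c ⁻¹ᵁ M₁).ι ≫ G.ι ≫ (a ⁻¹ᵁ V₁).ι,
    r₂ ≫ (V₁.ι.isoImage M₁).hom, ?_, ?_, ?_⟩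
  · have h1 : (c ⁻¹ᵁ M₁).ι ≫ G.ι ≫ (a ⁻¹ᵁ V₁).ι ≫ a = (c ∣_ M₁) ≫ M₁.ι ≫ V₁.ι := by
      rw [morphismRestrict_ι_assoc, ← morphismRestrict_ι, Category.assoc]
    simp only [Category.assoc, h1, IsIso.inv_hom_id_assoc, Scheme.Hom.isoImage_inv_ι]
  · rw [Category.assoc, Scheme.Hom.isoImage_hom_ι, reassoc_of% hr₂, hr₁]
  · let s₂ : V₀ ⟶ (c ⁻¹ᵁ M₁ : Scheme.{u}) := IsOpenImmersion.lift (c ⁻¹ᵁ M₁).ι sG (by
      rw [Scheme.Opens.range_ι]
      rintro _ ⟨y, rfl⟩
      show c (sG y) ∈ M₁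
      rw [← Scheme.Hom.comp_apply, hsGc]
      exact hrM ⟨y, rfl⟩)
    have hs₂ : s₂ ≫ (c ⁻¹ᵁ M₁).ι = sG := IsOpenImmersion.lift_fac _ _ _
    have hr₂' : r₂ = s₂ ≫ (c ∣_ M₁) := by
      rw [← cancel_mono M₁.ι, hr₂, Category.assoc, morphismRestrict_ι, reassoc_of% hs₂, hsGc]
    rw [Category.assoc, Iso.hom_inv_id_assoc, hr₂', Category.assoc, IsIso.hom_inv_id_assoc, reassoc_of% hs₂,
      reassoc_of% hsG, hs₁']

theorem pullbackComp_hom_left {X Y S : Scheme.{u}} (f : X ⟶ Y) (g : Y ⟶ S) (fg : X ⟶ S) (hfg : fg = f ≫ g)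
    (V : FEt.Cat S) :
    ((MorphismProperty.Over.pullbackComp (P := FEt.prop.{u}) (Q := ⊤) f g fg hfg).hom.app V).left ≫
      pullback.fst (pullback.snd V.hom g) f ≫ pullback.fst V.hom g = pullback.fst V.hom fg := by
  subst hfg
  exact MorphismProperty.Over.pullbackComp_left_fst_fst (P := FEt.prop.{u}) (Q := ⊤) f g V

set_option maxHeartbeats 1000000 in
/-- Separation of clopen pieces gives full faithfulness from neighbourhoods. -/
theorem fullyFaithful_of_hasSep {A : Type u} [CommRing A] [IsLocalRing A] (f : A) (hsep : HasSep A f) :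
    ∀ (U' : (Spec (CommRingCat.of A)).Opens) (_ : U' ≤ (FEt.puncturedSpec A)) (u' : pullback (FEt.puncturedSpec A).ι (Spec.map (CommRingCat.ofHom (Ideal.Quotient.mk (Ideal.span {f})))) ⟶ (U' : Scheme.{u}))
      (_ : u' ≫ U'.ι = (pullback.fst (FEt.puncturedSpec A).ι (Spec.map (CommRingCat.ofHom (Ideal.Quotient.mk (Ideal.span {f})))) ≫ (FEt.puncturedSpec A).ι)) (V' W' : FEt.Cat (U' : Scheme.{u})),
      (∀ φ₀ : (FEt.restrict u').obj V' ⟶ (FEt.restrict u').obj W',
        ∃ (U'' : (Spec (CommRingCat.of A)).Opens) (h : U'' ≤ U') (u'' : pullback (FEt.puncturedSpec A).ι (Spec.map (CommRingCat.ofHom (Ideal.Quotient.mk (Ideal.span {f})))) ⟶ (U'' : Scheme.{u}))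
          (hu : u'' ≫ (Spec (CommRingCat.of A)).homOfLE h = u')
          (φ : (FEt.restrict ((Spec (CommRingCat.of A)).homOfLE h)).obj V' ⟶ (FEt.restrict ((Spec (CommRingCat.of A)).homOfLE h)).obj W'),
          (FEt.restrict u'').map φ =
            (MorphismProperty.Over.pullbackComp u'' ((Spec (CommRingCat.of A)).homOfLE h) u' hu.symm).inv.app V' ≫ φ₀ ≫
              (MorphismProperty.Over.pullbackComp u'' ((Spec (CommRingCat.of A)).homOfLE h) u' hu.symm).hom.app W') ∧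
      (∀ φ ψ : V' ⟶ W', (FEt.restrict u').map φ = (FEt.restrict u').map ψ →
        ∃ (U'' : (Spec (CommRingCat.of A)).Opens) (h : U'' ≤ U') (u'' : pullback (FEt.puncturedSpec A).ι (Spec.map (CommRingCat.ofHom (Ideal.Quotient.mk (Ideal.span {f})))) ⟶ (U'' : Scheme.{u})),
          u'' ≫ (Spec (CommRingCat.of A)).homOfLE h = u' ∧
          (FEt.restrict ((Spec (CommRingCat.of A)).homOfLE h)).map φ = (FEt.restrict ((Spec (CommRingCat.of A)).homOfLE h)).map ψ) := by
  intro U' hle u' hu' V' W'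
  let X := Spec (CommRingCat.of A)
  let U := FEt.puncturedSpec A
  let qt := Spec.map (CommRingCat.ofHom (Ideal.Quotient.mk (Ideal.span {f})))
  haveI : IsClosedImmersion qt := IsClosedImmersion.spec_of_surjective _ Ideal.Quotient.mk_surjective
  haveI : IsClosedImmersion (pullback.fst U.ι qt) := MorphismProperty.pullback_fst _ _ inferInstance
  haveI hu'c : IsClosedImmersion u' := by
    haveI : IsClosedImmersion (u' ≫ X.homOfLE hle) := by
      rw [show u' ≫ X.homOfLE hle = pullback.fst U.ι qt by rw [← cancel_mono U.ι, Category.assoc, X.homOfLE_ι, hu']]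
      infer_instance
    exact IsClosedImmersion.of_comp u' (X.homOfLE hle)
  have hzero : ∀ P : X, P ∈ Set.range qt ↔ f ∈ P.asIdeal := fun P => by
    rw [show Set.range qt = PrimeSpectrum.zeroLocus (RingHom.ker (Ideal.Quotient.mk (Ideal.span {f})) : Set A) from
      range_comap_of_surjective _ _ Ideal.Quotient.mk_surjective, Ideal.mk_ker, PrimeSpectrum.mem_zeroLocus]
    exact Ideal.span_singleton_le_iff_mem _
  have hmem : ∀ P ∈ U, f ∈ P.asIdeal → P ∈ U' := fun P hP hfP => by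
    obtain ⟨y, hy⟩ : (⟨P, hP⟩ : (U : Scheme.{u})) ∈ Set.range (pullback.fst U.ι qt) := by
      rw [Scheme.Pullback.range_fst]
      exact (hzero P).2 hfP
    have : U'.ι (u' y) = P := by
      rw [← Scheme.Hom.comp_apply, hu', Scheme.Hom.comp_apply, hy]
      rfl
    exact this ▸ (u' y).2
  have hrange : ∀ x : (U' : Scheme.{u}), x ∈ Set.range u' ↔ f ∈ (U'.ι x).asIdeal := fun x => by
    constructor
    · rintro ⟨y, rfl⟩
      refine (hzero _).1 ⟨pullback.snd U.ι qt y, ?_⟩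
      show (pullback.snd U.ι qt ≫ qt) y = (u' ≫ U'.ι) y
      rw [← pullback.condition, hu']
    · intro hx
      obtain ⟨y, hy⟩ : (⟨U'.ι x, hle x.2⟩ : (U : Scheme.{u})) ∈ Set.range (pullback.fst U.ι qt) := by
        rw [Scheme.Pullback.range_fst]
        exact (hzero _).2 hx
      refine ⟨y, U'.ι.isOpenEmbedding.injective ?_⟩
      rw [← Scheme.Hom.comp_apply, hu', Scheme.Hom.comp_apply, hy]
      rfl
  have shrink : ∀ (E : Scheme.{u}) (c : E ⟶ (U' : Scheme.{u})) [IsFinite c] (O : E.Opens),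
      (∀ e, c e ∈ Set.range u' → e ∈ O) →
      ∃ (U'' : X.Opens) (h : U'' ≤ U') (u'' : pullback U.ι qt ⟶ (U'' : Scheme.{u})),
        u'' ≫ X.homOfLE h = u' ∧ ∀ e, U'.ι (c e) ∈ U'' → e ∈ O := by
    intro E c _ O hO
    let N : (U' : Scheme.{u}).Opens := ⟨(c '' (O : Set E)ᶜ)ᶜ, (c.isClosedMap _ O.2.isClosed_compl).isOpen_compl⟩
    have h : U'.ι ''ᵁ N ≤ U' := (U'.ι.image_le_opensRange N).trans_eq (Scheme.Opens.opensRange_ι _)
    let u'' : pullback U.ι qt ⟶ ((U'.ι ''ᵁ N : X.Opens) : Scheme.{u}) :=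
      IsOpenImmersion.lift (U'.ι ''ᵁ N).ι (u' ≫ U'.ι) (by
        rw [Scheme.Opens.range_ι]
        rintro _ ⟨y, rfl⟩
        exact ⟨u' y, fun ⟨e, he, hey⟩ => he (hO e ⟨y, hey.symm⟩), rfl⟩)
    refine ⟨_, h, u'', ?_, fun e ⟨x, hx, hxe⟩ => not_not.1 fun he => hx ⟨e, he, (U'.ι.isOpenEmbedding.injective hxe).symm⟩⟩
    rw [← cancel_mono U'.ι, Category.assoc, X.homOfLE_ι, IsOpenImmersion.lift_fac]
  have hfst : ∀ (V : FEt.Cat (U' : Scheme.{u})) (U'' : X.Opens) (h : U'' ≤ U') (z : ↥(pullback V.hom (X.homOfLE h))),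
      U'.ι (V.hom (pullback.fst V.hom (X.homOfLE h) z)) ∈ U'' := fun V U'' h z => by
    rw [show U'.ι (V.hom (pullback.fst V.hom (X.homOfLE h) z)) =
      (pullback.snd V.hom (X.homOfLE h) ≫ U''.ι) z by
        rw [← X.homOfLE_ι h, ← pullback.condition_assoc]; rfl]
    exact (pullback.snd V.hom (X.homOfLE h) z).2
  haveI : IsFinite V'.hom := V'.prop.1
  haveI : Etale V'.hom := V'.prop.2
  haveI : IsFinite W'.hom := W'.prop.1
  haveI : Etale W'.hom := W'.prop.2
  let rV := pullback.fst V'.hom u'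
  haveI : IsClosedImmersion rV := MorphismProperty.pullback_fst _ _ hu'c
  have hrV : ∀ v, v ∈ Set.range rV ↔ V'.hom v ∈ Set.range u' := fun v => by
    show v ∈ Set.range (pullback.fst V'.hom u') ↔ _
    rw [Scheme.Pullback.range_fst]
    rfl
  refine ⟨fun φ₀ => ?_, fun φ ψ hφψ => ?_⟩
  · let a := pullback.fst V'.hom W'.hom
    haveI : IsFinite a := MorphismProperty.pullback_fst _ _ inferInstance
    haveI : Etale a := MorphismProperty.pullback_fst _ _ inferInstance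
    let V₀ := pullback V'.hom u'
    let g₀ : V₀ ⟶ pullback W'.hom u' := φ₀.left
    have hg₀ : g₀ ≫ pullback.snd W'.hom u' = pullback.snd V'.hom u' := MorphismProperty.Over.w φ₀
    let s₀ : V₀ ⟶ pullback V'.hom W'.hom := pullback.lift rV (g₀ ≫ pullback.fst W'.hom u')
      (by rw [Category.assoc, pullback.condition (f := W'.hom), reassoc_of% hg₀, pullback.condition])
    have hs₀ : s₀ ≫ a = rV := pullback.lift_fst _ _ _
    let fib := pullback.snd a rV
    haveI : Etale fib := MorphismProperty.pullback_snd _ _ inferInstance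
    haveI : IsClosedImmersion (pullback.fst a rV) := MorphismProperty.pullback_fst _ _ inferInstance
    let sec : V₀ ⟶ pullback a rV := pullback.lift s₀ (𝟙 _) (by rw [hs₀, Category.id_comp])
    haveI : Etale (sec ≫ fib) := by rw [pullback.lift_snd]; infer_instance
    haveI : Etale sec := Etale.of_comp sec fib
    haveI : IsClosedImmersion (s₀ ≫ a) := by rw [hs₀]; infer_instance
    haveI : IsClosedImmersion s₀ := IsClosedImmersion.of_comp s₀ a
    let C₂ := pullback.fst a rV '' (Set.range sec)ᶜ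
    have hsecinj : ∀ y z, pullback.fst a rV z = s₀ y → z = sec y := fun y z e =>
      (pullback.fst a rV).isClosedEmbedding.injective (e.trans (by
        rw [← Scheme.Hom.comp_apply, pullback.lift_fst]))
    obtain ⟨O₁, O₂, hd, h₁, h₂⟩ := hsep U' hle hmem _ (a ≫ V'.hom) (Set.range s₀) C₂
      s₀.isClosedEmbedding.isClosed_range
      ((pullback.fst a rV).isClosedEmbedding.isClosedMap _ sec.isOpenMap.isOpen_range.isClosed_compl)
      (Set.disjoint_left.2 fun z ⟨y, hy⟩ ⟨w, hw, hwz⟩ => hw ⟨y, (hsecinj y w (hwz.trans hy.symm)).symm⟩) (by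
        ext z
        show z ∈ Set.range s₀ ∪ C₂ ↔ f ∈ (U'.ι (V'.hom (a z))).asIdeal
        rw [← hrange, ← hrV]
        constructor
        · rintro (⟨y, rfl⟩ | ⟨w, -, rfl⟩)
          · exact ⟨y, by rw [← Scheme.Hom.comp_apply, hs₀]⟩
          · exact ⟨fib w, by rw [← Scheme.Hom.comp_apply, ← pullback.condition]; rfl⟩
        · intro hz
          obtain ⟨w, rfl⟩ : z ∈ Set.range (pullback.fst a rV) := by
            rw [Scheme.Pullback.range_fst]; exact hz
          by_cases hw : w ∈ Set.range sec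
          · obtain ⟨y, rfl⟩ := hw
            exact Or.inl ⟨y, by rw [← Scheme.Hom.comp_apply, pullback.lift_fst]⟩
          · exact Or.inr ⟨w, hw, rfl⟩)
    have hzero' : ∀ z, z ∈ a ⁻¹' Set.range rV → z ∈ Set.range s₀ ∪ C₂ := fun z hz => by
      obtain ⟨w, rfl⟩ : z ∈ Set.range (pullback.fst a rV) := by
        rw [Scheme.Pullback.range_fst]; exact hz
      by_cases hw : w ∈ Set.range sec
      · obtain ⟨y, rfl⟩ := hw
        exact Or.inl ⟨y, by rw [← Scheme.Hom.comp_apply, pullback.lift_fst]⟩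
      · exact Or.inr ⟨w, hw, rfl⟩
    obtain ⟨M, σ, r', hσ, hr', hr's⟩ := exists_section_near a rV s₀ hs₀ O₁ O₂ hd
      (fun z hz => (hzero' z hz).imp (h₁ ·) (h₂ ·)) h₁
      (fun z ⟨hz, hz₁⟩ => (hzero' z hz).resolve_right fun h => Set.disjoint_left.1 hd hz₁ (h₂ h))
    obtain ⟨U'', h, u'', hu, hU''⟩ := shrink V'.left V'.hom M (fun v hv => by
      obtain ⟨y, rfl⟩ := (hrV v).2 hv
      rw [← hr']
      exact (r' y).2)
    let i := X.homOfLE h
    let l : pullback V'.hom i ⟶ (M : Scheme.{u}) := IsOpenImmersion.lift M.ι (pullback.fst V'.hom i) (by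
      rw [Scheme.Opens.range_ι]
      rintro _ ⟨z, rfl⟩
      exact hU'' _ (hfst V' U'' h z))
    have hl : l ≫ M.ι = pullback.fst V'.hom i := IsOpenImmersion.lift_fac _ _ _
    let k : pullback V'.hom i ⟶ pullback W'.hom i :=
      pullback.lift (l ≫ σ ≫ pullback.snd V'.hom W'.hom) (pullback.snd V'.hom i) (by
        rw [Category.assoc, Category.assoc, ← pullback.condition (f := V'.hom) (g := W'.hom),
          reassoc_of% hσ, reassoc_of% hl, pullback.condition])
    refine ⟨U'', h, u'', hu, MorphismProperty.Over.homMk k (pullback.lift_snd _ _ _), ?_⟩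
    rw [← Iso.app_inv, ← Iso.app_hom, Iso.eq_inv_comp]
    ext1
    simp only [Iso.app_hom, MorphismProperty.Comma.comp_left]
    show _ ≫ pullback.lift (pullback.fst _ u'' ≫ k) (pullback.snd _ u'') _ = g₀ ≫ _
    refine pullback.hom_ext ?_ ?_
    · rw [← cancel_mono (pullback.fst W'.hom i)]
      simp only [Category.assoc, pullback.lift_fst_assoc, k, pullback.lift_fst]
      refine Eq.trans ?_ (congrArg (g₀ ≫ ·) (pullbackComp_hom_left u'' i u' hu.symm W')).symm
      rw [show g₀ ≫ pullback.fst W'.hom u' = r' ≫ σ ≫ pullback.snd V'.hom W'.hom by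
        rw [reassoc_of% hr's]; exact (pullback.lift_snd _ _ _).symm]
      simp only [← Category.assoc]
      congr 2
      rw [← cancel_mono M.ι, Category.assoc, hl, hr', Category.assoc]
      exact pullbackComp_hom_left u'' i u' hu.symm V'
    · simp only [Category.assoc, pullback.lift_snd]
      exact (MorphismProperty.Over.w ((MorphismProperty.Over.pullbackComp u'' i u' hu.symm).hom.app V')).trans
        (hg₀.symm.trans (congrArg (g₀ ≫ ·)
          (MorphismProperty.Over.w ((MorphismProperty.Over.pullbackComp u'' i u' hu.symm).hom.app W')).symm))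
  · haveI : IsSeparated W'.hom := inferInstance
    obtain ⟨O, -, hO, hOle⟩ := exists_eq_locus W'.hom φ.left ψ.left
      ((MorphismProperty.Over.w φ).trans (MorphismProperty.Over.w ψ).symm)
    have hr : rV ≫ φ.left = rV ≫ ψ.left := by
      have h1 := congrArg (fun g => CommaMorphism.left g.toCommaMorphism ≫ pullback.fst W'.hom u') hφψ
      have e : ∀ χ : V' ⟶ W', ((FEt.restrict u').map χ).left ≫ pullback.fst W'.hom u' = rV ≫ χ.left :=
        fun χ => pullback.lift_fst _ _ _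
      exact (e φ).symm.trans (h1.trans (e ψ))
    obtain ⟨U'', h, u'', hu, hU''⟩ := shrink V'.left V'.hom O (fun v hv => hOle rV hr ((hrV v).2 hv))
    refine ⟨U'', h, u'', hu, ?_⟩
    ext1
    show pullback.lift (pullback.fst V'.hom (X.homOfLE h) ≫ φ.left) (pullback.snd _ _) _ =
      pullback.lift (pullback.fst V'.hom (X.homOfLE h) ≫ ψ.left) (pullback.snd _ _) _
    congr 1
    let l : pullback V'.hom (X.homOfLE h) ⟶ (O : Scheme.{u}) :=
      IsOpenImmersion.lift O.ι (pullback.fst V'.hom (X.homOfLE h)) (by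
        rw [Scheme.Opens.range_ι]
        rintro _ ⟨z, rfl⟩
        exact hU'' _ (hfst V' U'' h z))
    rw [← show l ≫ O.ι = pullback.fst V'.hom (X.homOfLE h) from IsOpenImmersion.lift_fac _ _ _,
      Category.assoc, Category.assoc, hO]

end Groth.Agent.H11Alg
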