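import Groth.Agent.H11Alg.Glue
import Groth.Agent.H11Alg.Kill
import Groth.Agent.S0250

/-!
# Algebraization near `V(f)` over rings with dualizing complexes
-/

set_option autoImplicit false
set_option linter.style.haveILetI false
set_option backward.isDefEq.respectTransparency false

universe u

open CategoryTheory CategoryTheory.Limits AlgebraicGeometry TopologicalSpace IsLocalRing

namespace Groth.Agent.H11Alg

/-- Essential surjectivity from extension to neighbourhoods. -/
theorem essSurj_restrict_of_hasNhdExt (A : Type u) [CommRing A] [IsNoetherianRing A] [IsLocalRing A] (f : A)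
    (hf : f ∈ maximalIdeal A) (hx : HasNhdExt A f)
    (hp : ∀ P : Ideal (Localization.Away f), ∀ _ : P.IsMaximal, FEt.PurityHolds (Localization.AtPrime P)) :
    (FEt.restrict (pullback.fst (FEt.puncturedSpec A).ι
      (Spec.map (CommRingCat.ofHom (Ideal.Quotient.mk (Ideal.span {f})))))).EssSurj := by
  refine ⟨fun V₀ => ?_⟩
  obtain ⟨U₁, u₁, V₁, hu, hmem, ⟨e⟩⟩ := hx V₀
  haveI : IsNoetherianRing (CommRingCat.of A) := inferInstanceAs (IsNoetherianRing A)
  haveI : IsLocallyNoetherian (FEt.puncturedSpec A : Scheme.{u}) := inferInstance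
  haveI : CompactSpace (FEt.puncturedSpec A : Scheme.{u}) :=
    isCompact_iff_compactSpace.1 (NoetherianSpace.isCompact _)
  haveI : IsNoetherian (FEt.puncturedSpec A : Scheme.{u}) := {}
  haveI := S0250.result U₁ fun x hx => purityHolds_stalk A f hf hp x (fun h => hx (hmem x h)) fun z hz h => by
    have hspec : x ⤳ z := by
      rw [← (FEt.puncturedSpec A).ι.isOpenEmbedding.isInducing.specializes_iff]
      exact (PrimeSpectrum.le_iff_specializes ((FEt.puncturedSpec A).ι x) ((FEt.puncturedSpec A).ι z)).1 hz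
    exact hx (hspec.mem_open U₁.2 (hmem z h))
  obtain ⟨V, ⟨i⟩⟩ := Functor.EssSurj.mem_essImage (F := FEt.restrict U₁.ι) V₁
  exact ⟨V, ⟨(H18Et.FEtLimit.restrictCompIso _ _ _ hu V).symm ≪≫ (FEt.restrict u₁).mapIso i ≪≫ e⟩⟩

/-- Purity of the quotient from extension to neighbourhoods. -/
theorem purityHolds_quotient_of_hasNhdExt (A : Type u) [CommRing A] [IsNoetherianRing A] [IsLocalRing A] (f : A)
    (hf : f ∈ maximalIdeal A) (hx : HasNhdExt A f)
    (hp : ∀ P : Ideal (Localization.Away f), ∀ _ : P.IsMaximal, FEt.PurityHolds (Localization.AtPrime P))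
    (hA : FEt.PurityHolds A) [IsLocalRing (A ⧸ Ideal.span {f})] :
    FEt.PurityHolds (A ⧸ Ideal.span {f}) := by
  refine ⟨fun W => ?_⟩
  obtain ⟨k, hk⟩ := H18Pur.Formal.exists_isPullback_punctured A (Ideal.span {f})
  haveI := essSurj_restrict_of_hasNhdExt A f hf hx hp
  let q := Spec.map (CommRingCat.ofHom (Ideal.Quotient.mk (Ideal.span {f})))
  let i := hk.isoPullback
  obtain ⟨V, ⟨eV⟩⟩ := Functor.EssSurj.mem_essImage (F := FEt.restrict (pullback.fst (FEt.puncturedSpec A).ι q))
    ((FEt.restrict i.inv).obj W)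
  obtain ⟨Y, ⟨eY⟩⟩ := hA.mem_essImage V
  exact ⟨(FEt.restrict q).obj Y, ⟨H18Et.FEtLimit.restrictCompIso _ _ _ hk.w.symm Y ≪≫
    (H18Et.FEtLimit.restrictCompIso k (FEt.puncturedSpec A).ι _ rfl Y).symm ≪≫ (FEt.restrict k).mapIso eY ≪≫
    (H18Et.FEtLimit.restrictCompIso i.hom (pullback.fst _ q) k hk.isoPullback_hom_fst V).symm ≪≫
    (FEt.restrict i.hom).mapIso eV ≪≫
    H18Et.FEtLimit.restrictCompIso i.hom i.inv (𝟙 _) i.hom_inv_id W ≪≫
    restrictIdIso W⟩⟩

/-- Extension to neighbourhoods, as opens of the spectrum. -/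
theorem exists_nhd_of_hasNhdExt (A : Type u) [CommRing A] [IsNoetherianRing A] [IsLocalRing A] (f : A)
    (hx : HasNhdExt A f)
    (V₀ : FEt.Cat (pullback (FEt.puncturedSpec A).ι (Spec.map (CommRingCat.ofHom (Ideal.Quotient.mk (Ideal.span {f})))))) :
    ∃ (U' : (Spec (CommRingCat.of A)).Opens) (_ : U' ≤ (FEt.puncturedSpec A))
      (u' : pullback (FEt.puncturedSpec A).ι (Spec.map (CommRingCat.ofHom (Ideal.Quotient.mk (Ideal.span {f})))) ⟶ (U' : Scheme.{u}))
      (_ : u' ≫ U'.ι = (pullback.fst (FEt.puncturedSpec A).ι (Spec.map (CommRingCat.ofHom (Ideal.Quotient.mk (Ideal.span {f})))) ≫ (FEt.puncturedSpec A).ι))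
      (V' : FEt.Cat (U' : Scheme.{u})), Nonempty ((FEt.restrict u').obj V' ≅ V₀) := by
  obtain ⟨U₁, u₁, V₁, hu, -, ⟨e⟩⟩ := hx V₀
  let j := (FEt.puncturedSpec A).ι
  let i := j.isoImage U₁
  refine ⟨j ''ᵁ U₁, ?_, u₁ ≫ i.hom, ?_, (FEt.restrict i.inv).obj V₁, ⟨?_⟩⟩
  · exact (j.image_le_opensRange U₁).trans_eq (Scheme.Opens.opensRange_ι _)
  · rw [Category.assoc, Scheme.Hom.isoImage_hom_ι, ← Category.assoc, hu]
  · exact H18Et.FEtLimit.restrictCompIso (u₁ ≫ i.hom) i.inv u₁
      (by rw [Category.assoc, i.hom_inv_id, Category.comp_id]) V₁ ≪≫ e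

/-- The depth condition at the primes whose closure meets `V(f)` off the closed point. -/
def DepthCond (A : Type u) [CommRing A] [IsLocalRing A] (f : A) : Prop :=
  ∀ p : Ideal A, ∀ _ : p.IsPrime, f ∉ p → (p ⊔ Ideal.span {f}).radical ≠ maximalIdeal A →
    (3 : WithBot ℕ∞) < (LocCoh.depth (Localization.AtPrime p) (Localization.AtPrime p) : WithBot ℕ∞) + ringKrullDim (A ⧸ p)

theorem hasNhdExt_of_regular {A : Type u} [CommRing A] [IsNoetherianRing A] [IsLocalRing A] (f : A)
    (hf : f ∈ maximalIdeal A) (hd : ∃ ω : Dual.D A, Dual.IsDualizing A ω) [IsAdicComplete (Ideal.span {f}) A]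
    (hnz : f ∈ nonZeroDivisors A) (hc : DepthCond A f) : HasNhdExt A f := fun V₀ => by
  obtain ⟨K, hK⟩ := exists_finite_range_H hd f hf hnz hc
  exact exists_cover_nhd_of_hasLim A f hnz (hasLim_of_bound f hnz K hK) V₀

/-- Covers extend near `V(f)` under the depth condition. -/
theorem hasNhdExt {A : Type u} [CommRing A] [IsNoetherianRing A] [IsLocalRing A] (f : A)
    (hf : f ∈ maximalIdeal A) (hd : ∃ ω : Dual.D A, Dual.IsDualizing A ω) [IsAdicComplete (Ideal.span {f}) A]
    (hc : DepthCond A f) : HasNhdExt A f := by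
  by_cases hn : IsNilpotent f
  · exact hasNhdExt_of_isNilpotent A f hn
  let I := powTorsion f
  have hI : I ≠ ⊤ := fun h => hn (by
    obtain ⟨n, hn'⟩ := (Ideal.eq_top_iff_one _).1 h
    exact ⟨n, by rwa [mul_one] at hn'⟩)
  let A' := A ⧸ I
  let π := Ideal.Quotient.mk I
  haveI : Nontrivial A' := Ideal.Quotient.nontrivial_iff.2 hI
  haveI : IsLocalRing A' := .of_surjective' π Ideal.Quotient.mk_surjective
  have hm : (maximalIdeal A).map π = maximalIdeal A' :=
    IsLocalRing.map_maximalIdeal_of_surjective _ Ideal.Quotient.mk_surjective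
  haveI : IsAdicComplete (Ideal.span {π f}) A' := by
    have h := H24Adic.isAdicComplete_map_quotient (I := Ideal.span {f}) I
    rwa [Ideal.map_span, Set.image_singleton] at h
  obtain ⟨ω, hω⟩ := hd
  refine hasNhdExt_of_quotient A f (hasNhdExt_of_regular (π f) (hm ▸ Ideal.mem_map_of_mem π hf)
    (H4DR.Dualizing.exists_isDualizing_finite π (RingHom.Finite.of_surjective π Ideal.Quotient.mk_surjective) hω)
    (mk_mem_nonZeroDivisors f) fun p' hp' hfp hr => ?_)
  let p := p'.comap π
  haveI : p.IsPrime := hp'.comap π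
  have hIp : I ≤ p := fun a ha => by
    show π a ∈ p'
    rw [Ideal.Quotient.eq_zero_iff_mem.2 ha]
    exact zero_mem _
  have hmap : p.map π = p' := Ideal.map_comap_of_surjective _ Ideal.Quotient.mk_surjective _
  have hr' : (p ⊔ Ideal.span {f}).radical ≠ maximalIdeal A := by
    intro h
    refine hr (le_antisymm (le_maximalIdeal fun htop => ?_) ?_)
    · have := Ideal.radical_eq_top.1 htop
      refine (maximalIdeal.isMaximal A').ne_top (top_le_iff.1 (this ▸ sup_le (le_maximalIdeal hp'.ne_top) ?_))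
      rw [Ideal.span_singleton_le_iff_mem, ← hm]
      exact Ideal.mem_map_of_mem π hf
    · rw [← hm, ← h]
      refine (Ideal.map_radical_le π).trans (le_of_eq ?_)
      rw [Ideal.map_sup, hmap, Ideal.map_span, Set.image_singleton]
  have h3 := hc p inferInstance hfp hr'
  haveI : (p.map π).IsPrime := hmap ▸ hp'
  obtain ⟨e₁⟩ := H13CI.exists_quotient_localization_equiv I p hIp
  have hI0 : I.map (algebraMap A (Localization.AtPrime p)) = ⊥ := by
    rw [Ideal.map_eq_bot_iff_le_ker]
    intro a ha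
    obtain ⟨n, hn'⟩ := ha
    rw [RingHom.mem_ker, IsLocalization.map_eq_zero_iff p.primeCompl]
    exact ⟨⟨f ^ n, fun h => hfp (Ideal.IsPrime.mem_of_pow_mem ‹p.IsPrime› n h)⟩, hn'⟩
  have hS : (p.map π).primeCompl = p'.primeCompl := SetLike.ext fun a => not_congr (SetLike.ext_iff.1 hmap a)
  haveI : IsLocalization (p.map π).primeCompl (Localization.AtPrime p') := hS.symm ▸ inferInstance
  let e : Localization.AtPrime p ≃+* Localization.AtPrime p' :=
    (((RingEquiv.quotientBot _).symm.trans (Ideal.quotEquivOfEq hI0.symm)).trans e₁).trans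
      (IsLocalization.algEquiv (p.map π).primeCompl (Localization.AtPrime (p.map π)) (Localization.AtPrime p')).toRingEquiv
  rw [← H05EGA4.depth_eq_of_ringEquiv e]
  refine h3.trans_le (le_of_eq (congrArg _ (ringKrullDim_eq_of_ringEquiv ?_)))
  let g := (Ideal.Quotient.mk p').comp π
  have hg : RingHom.ker g = p := by rw [← RingHom.comap_ker, Ideal.mk_ker]
  exact ((Ideal.quotEquivOfEq hg.symm).trans (RingHom.quotientKerEquivOfSurjective (f := g)
    (Ideal.Quotient.mk_surjective.comp Ideal.Quotient.mk_surjective)))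

/-- `(S₂)` off `f` and components of dimension at least four give the depth condition. -/
theorem depthCond_of_hasSk {A : Type u} [CommRing A] [IsNoetherianRing A] [IsLocalRing A] (f : A)
    (hf : f ∈ maximalIdeal A) (hd : ∃ ω : Dual.D A, Dual.IsDualizing A ω)
    (hS : LocCoh.HasSk 2 (Localization.Away f) (Localization.Away f))
    (hdim : ∀ p : Ideal A, p ∈ minimalPrimes A → f ∉ p → (4 : WithBot ℕ∞) ≤ ringKrullDim (A ⧸ p)) :
    DepthCond A f := by
  intro p hp hfp hr
  obtain ⟨ω, hω⟩ := hd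
  let S := Localization.Away f
  have hdisj : Disjoint (Submonoid.powers f : Set A) (p : Set A) := Set.disjoint_left.2 fun a ha hap => by
    obtain ⟨k, rfl⟩ := ha
    exact hfp (hp.mem_of_pow_mem k hap)
  let P : Ideal S := p.map (algebraMap A S)
  haveI : P.IsPrime := IsLocalization.isPrime_of_isPrime_disjoint _ S p hp hdisj
  have hPp : P.comap (algebraMap A S) = p :=
    IsLocalization.under_map_of_isPrime_disjoint (Submonoid.powers f) S hp hdisj
  haveI : IsLocalization.AtPrime (Localization.AtPrime P) p := by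
    have h := IsLocalization.isLocalization_isLocalization_atPrime_isLocalization (Submonoid.powers f)
      (Localization.AtPrime P) P
    convert h using 2
    exact hPp.symm
  let e : Localization.AtPrime P ≃+* Localization.AtPrime p :=
    (IsLocalization.algEquiv p.primeCompl (Localization.AtPrime P) (Localization.AtPrime p)).toRingEquiv
  have h2 := (H02CA.SkDescent.hasSk_self_iff 2).1 hS P
  rw [H05EGA4.depth_eq_of_ringEquiv e, ringKrullDim_eq_of_ringEquiv e] at h2
  obtain ⟨p₀, hp₀, hle⟩ := Ideal.exists_minimalPrimes_le (I := (⊥ : Ideal A)) (J := p) bot_le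
  haveI := hp₀.isPrime
  obtain ⟨k, a, b, hk, ha, hb, hkab⟩ := H8Props.CutoffCpl.exists_height_Ici_add
    (H4DR.Dualizing.isCatenary hω) (p := ⟨p₀, hp₀.isPrime⟩) (q := ⟨p, hp⟩) hle
  have ha4 : (4 : WithBot ℕ∞) ≤ (a : WithBot ℕ∞) := ha ▸ hdim p₀ hp₀ fun h => hfp (hle h)
  have hkht : (k : WithBot ℕ∞) ≤ ringKrullDim (Localization.AtPrime p) := by
    rw [IsLocalization.AtPrime.ringKrullDim_eq_height p (Localization.AtPrime p), show Ideal.height p = Order.height (⟨p, hp⟩ : PrimeSpectrum A) from PrimeSpectrum.height_eq_orderHeight ⟨p, hp⟩]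
    have h1 : Order.height (⟨⟨p, hp⟩, hle⟩ : Set.Ici (⟨p₀, hp₀.isPrime⟩ : PrimeSpectrum A)) ≤
        Order.height (⟨p, hp⟩ : PrimeSpectrum A) :=
      Order.height_le_height_apply_of_strictMono Subtype.val (fun _ _ h => h) _
    rw [hk] at h1
    exact_mod_cast h1
  -- the closure is not a curve
  have hb2 : 2 ≤ b := by
    by_contra hb2
    have hdim1 : ringKrullDim (A ⧸ p) ≤ 1 := by
      rw [hb]; exact_mod_cast (show b ≤ 1 by omega)
    haveI : Ring.KrullDimLE 1 (A ⧸ p) := Ring.krullDimLE_iff.2 hdim1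
    refine hr (le_antisymm (le_maximalIdeal fun htop => ?_) ?_)
    · exact (maximalIdeal.isMaximal A).ne_top (top_le_iff.1 ((Ideal.radical_eq_top.1 htop).symm.trans_le
        (sup_le (le_maximalIdeal hp.ne_top) ((Ideal.span_singleton_le_iff_mem _).2 hf))))
    · rw [Ideal.radical_eq_sInf]
      refine le_sInf fun q hq => ?_
      obtain ⟨hle', hq'⟩ := hq
      haveI := hq'
      haveI : (q.map (Ideal.Quotient.mk p)).IsPrime := Ideal.map_isPrime_of_surjective Ideal.Quotient.mk_surjective
        (by rw [Ideal.mk_ker]; exact le_sup_left.trans hle')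
      have hne : q.map (Ideal.Quotient.mk p) ≠ ⊥ := fun h0 => hfp (by
        have h1 := Ideal.mem_map_of_mem (Ideal.Quotient.mk p) (hle' (Submodule.mem_sup_right (Ideal.mem_span_singleton_self f)))
        rw [h0, Ideal.mem_bot, Ideal.Quotient.eq_zero_iff_mem] at h1
        exact h1)
      haveI := Ring.krullDimLE_one_iff_of_isPrime_bot.1 ‹Ring.KrullDimLE 1 (A ⧸ p)› (q.map (Ideal.Quotient.mk p)) hne inferInstance
      haveI : q.IsMaximal := by
        have h1 := Ideal.comap_isMaximal_of_surjective (Ideal.Quotient.mk p) Ideal.Quotient.mk_surjective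
          (K := q.map (Ideal.Quotient.mk p))
        rwa [Ideal.comap_map_of_surjective _ Ideal.Quotient.mk_surjective, ← RingHom.ker_eq_comap_bot, Ideal.mk_ker,
          sup_eq_left.2 (le_sup_left.trans hle')] at h1
      exact (IsLocalRing.eq_maximalIdeal ‹q.IsMaximal›).ge
  rw [hb]
  generalize hδ : LocCoh.depth (Localization.AtPrime p) (Localization.AtPrime p) = δ at h2 ⊢
  induction δ using ENat.recTopCoe with
  | top => exact lt_of_lt_of_le (WithBot.coe_lt_coe.2 (ENat.natCast_lt_top 3)) (le_add_of_nonneg_right (by exact_mod_cast b.zero_le))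
  | coe d =>
    have hk2 : ((min 2 k : ℕ) : WithBot ℕ∞) ≤ ((d : ℕ∞) : WithBot ℕ∞) := by
      refine le_trans ?_ h2
      refine le_min ?_ (le_trans ?_ hkht)
      · exact_mod_cast min_le_left 2 k
      · exact_mod_cast min_le_right 2 k
    have hm : min 2 k ≤ d := by exact_mod_cast hk2
    have h4 : 4 ≤ a := by exact_mod_cast ha4
    have : 3 < d + b := by omega
    have h5 : (((3 : ℕ) : ℕ∞) : WithBot ℕ∞) < (((d + b : ℕ) : ℕ∞) : WithBot ℕ∞) :=
      WithBot.coe_lt_coe.2 (Nat.cast_lt.2 this)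
    push_cast at h5 ⊢
    exact h5

end Groth.Agent.H11Alg
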