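import Groth.Agent.H11Alg.Extend
import Groth.Agent.H8Props.PushoutProps.BaseChange
import Groth.Agent.H4DR.Dualizing.FiniteMap
import Groth.Agent.H13CI.Regular
import Groth.Agent.S1186

/-!
# Covers extend near `V(f)` when `f` may be a zero divisor
-/

set_option autoImplicit false
set_option linter.style.haveILetI false
set_option backward.isDefEq.respectTransparency false

universe u

open CategoryTheory CategoryTheory.Limits AlgebraicGeometry TopologicalSpace IsLocalRing
open Groth.Agent.H7Flat (sm)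

namespace Groth.Agent.H11Alg

/-- Covers of two closed subschemes covering an open, agreeing on the intersection, glue. -/
theorem exists_glue_closed {A : Type u} [CommRing A] (I K : Ideal A) (hIK : I ⊓ K = ⊥)
    {U : Scheme.{u}} (g : U ⟶ Spec (CommRingCat.of A)) [Flat g]
    (Vx : FEt.Cat (pullback (sm (Ideal.Quotient.mk I)) g)) (Vy : FEt.Cat (pullback (sm (Ideal.Quotient.mk K)) g))
    (e : (FEt.restrict (pullback.lift (pullback.fst (sm (Ideal.Quotient.mk (I ⊔ K))) g ≫
        sm (Ideal.Quotient.factor (le_sup_left : I ≤ I ⊔ K))) (pullback.snd _ g)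
        (by rw [Category.assoc, ← H7Flat.sm_comp, Ideal.Quotient.factor_comp_mk, pullback.condition]) :
          pullback (sm (Ideal.Quotient.mk (I ⊔ K))) g ⟶ pullback (sm (Ideal.Quotient.mk I)) g)).obj Vx ≅
      (FEt.restrict (pullback.lift (pullback.fst (sm (Ideal.Quotient.mk (I ⊔ K))) g ≫
        sm (Ideal.Quotient.factor (le_sup_right : K ≤ I ⊔ K))) (pullback.snd _ g)
        (by rw [Category.assoc, ← H7Flat.sm_comp, Ideal.Quotient.factor_comp_mk, pullback.condition]) :
          pullback (sm (Ideal.Quotient.mk (I ⊔ K))) g ⟶ pullback (sm (Ideal.Quotient.mk K)) g)).obj Vy) :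
    ∃ V : FEt.Cat U, Nonempty ((FEt.restrict (pullback.snd (sm (Ideal.Quotient.mk I)) g)).obj V ≅ Vx) ∧
      Nonempty ((FEt.restrict (pullback.snd (sm (Ideal.Quotient.mk K)) g)).obj V ≅ Vy) := by
  let p := Ideal.Quotient.factor (le_sup_left : I ≤ I ⊔ K)
  let q := Ideal.Quotient.factor (le_sup_right : K ≤ I ⊔ K)
  let pa := Ideal.Quotient.mk I
  let pb := Ideal.Quotient.mk K
  let z := sm (Ideal.Quotient.mk (I ⊔ K))
  have hsq : H7Flat.RingSq pa pb p q := by
    refine ⟨fun a => rfl, Ideal.Quotient.factor_surjective le_sup_left, fun a b ha hb => ?_, fun x y hxy => ?_⟩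
    · have : a - b ∈ I ⊓ K := ⟨Ideal.Quotient.eq.1 ha, Ideal.Quotient.eq.1 hb⟩
      rwa [hIK, Ideal.mem_bot, sub_eq_zero] at this
    · obtain ⟨a, rfl⟩ := Ideal.Quotient.mk_surjective x
      obtain ⟨b, rfl⟩ := Ideal.Quotient.mk_surjective y
      obtain ⟨u, hu, v, hv, huv⟩ := Submodule.mem_sup.1 (Ideal.Quotient.eq.1 hxy)
      refine ⟨a - u, Ideal.Quotient.eq.2 ?_, Ideal.Quotient.eq.2 ?_⟩
      · simpa using I.neg_mem hu
      · rwa [show a - u - b = v by rw [eq_sub_of_add_eq' huv]; ring]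
  have hzp : sm p ≫ sm pa = z := by rw [← H7Flat.sm_comp, Ideal.Quotient.factor_comp_mk]
  have hzq : sm q ≫ sm pb = z := by rw [← H7Flat.sm_comp, Ideal.Quotient.factor_comp_mk]
  haveI : IsClosedImmersion (sm p) := IsClosedImmersion.spec_of_surjective _ (Ideal.Quotient.factor_surjective le_sup_left)
  haveI : IsClosedImmersion (sm q) := IsClosedImmersion.spec_of_surjective _ (Ideal.Quotient.factor_surjective le_sup_right)
  haveI : IsClosedImmersion (sm pa) := IsClosedImmersion.spec_of_surjective _ Ideal.Quotient.mk_surjective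
  haveI : IsClosedImmersion (sm pb) := IsClosedImmersion.spec_of_surjective _ Ideal.Quotient.mk_surjective
  haveI : IsClosedImmersion z := IsClosedImmersion.spec_of_surjective _ Ideal.Quotient.mk_surjective
  have hcov := H7Flat.exists_adapted_pair (sm p) (sm q) fun y => ⟨⊤, isAffineOpen_top _, fun _ _ => trivial⟩
  have hP := H8Props.PushoutProps.isPushout_baseChange_flat hsq.isPushout hcov (sm pa) (sm pb) z (𝟙 _)
    hzp hzq (Category.comp_id _) (Category.comp_id _) g
  let i : pullback z g ⟶ pullback (sm pa) g := pullback.lift (pullback.fst z g ≫ sm p) (pullback.snd z g)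
    (by rw [Category.assoc, hzp, pullback.condition])
  let j : pullback z g ⟶ pullback (sm pb) g := pullback.lift (pullback.fst z g ≫ sm q) (pullback.snd z g)
    (by rw [Category.assoc, hzq, pullback.condition])
  haveI : IsClosedImmersion (pullback.snd z g) := MorphismProperty.pullback_snd _ _ inferInstance
  haveI : IsClosedImmersion (i ≫ pullback.snd (sm pa) g) := by rw [pullback.lift_snd]; infer_instance
  haveI : IsClosedImmersion (j ≫ pullback.snd (sm pb) g) := by rw [pullback.lift_snd]; infer_instance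
  haveI : IsClosedImmersion i := IsClosedImmersion.of_comp i (pullback.snd (sm pa) g)
  haveI : IsClosedImmersion j := IsClosedImmersion.of_comp j (pullback.snd (sm pb) g)
  have h3 : ∀ y, ∃ O : (pullback (sm pa) g).Opens, IsAffineOpen O ∧ ∀ x, j.base x = y → i.base x ∈ O := by
    intro y
    by_cases hy : ∃ x, j.base x = y
    · obtain ⟨x, hx⟩ := hy
      obtain ⟨O, hO, hxO, -⟩ := exists_isAffineOpen_mem_and_subset (x := i.base x)
        (U := (⊤ : (pullback (sm pa) g).Opens)) trivial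
      exact ⟨O, hO, fun x' hx' => by
        obtain rfl := j.isClosedEmbedding.injective (hx'.trans hx.symm)
        exact hxO⟩
    · exact ⟨⊥, isAffineOpen_bot _, fun x hx => absurd ⟨x, hx⟩ hy⟩
  obtain ⟨W, ⟨ex⟩, ⟨ey⟩⟩ := S1186.result i j h3 _ _ hP Vx Vy e
  let s := pullback.snd (𝟙 (Spec (CommRingCat.of A))) g
  refine ⟨(FEt.restrict (inv s)).obj W, ⟨?_⟩, ⟨?_⟩⟩
  · exact H18Et.FEtLimit.restrictCompIso (pullback.snd (sm pa) g) (inv s) _ (by
      rw [IsIso.comp_inv_eq]; exact (pullback.lift_snd _ _ _).symm) W ≪≫ ex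
  · exact H18Et.FEtLimit.restrictCompIso (pullback.snd (sm pb) g) (inv s) _ (by
      rw [IsIso.comp_inv_eq]; exact (pullback.lift_snd _ _ _).symm) W ≪≫ ey

/-- The `f`-power torsion. -/
def powTorsion {A : Type u} [CommRing A] (f : A) : Ideal A where
  carrier := {a | ∃ n : ℕ, f ^ n * a = 0}
  add_mem' {a b} ha hb := by
    obtain ⟨n, hn⟩ := ha
    obtain ⟨m, hm⟩ := hb
    exact ⟨n + m, by linear_combination f ^ m * hn + f ^ n * hm + (pow_add f n m) * (a + b)⟩
  zero_mem' := ⟨0, by simp⟩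
  smul_mem' c a ha := ha.imp fun n hn => by rw [smul_eq_mul]; linear_combination c * hn

theorem mk_mem_nonZeroDivisors {A : Type u} [CommRing A] (f : A) :
    Ideal.Quotient.mk (powTorsion f) f ∈ nonZeroDivisors (A ⧸ powTorsion f) := by
  refine mem_nonZeroDivisors_iff_right.2 fun z hz => ?_
  obtain ⟨a, rfl⟩ := Ideal.Quotient.mk_surjective z
  rw [← map_mul, Ideal.Quotient.eq_zero_iff_mem] at hz
  obtain ⟨n, hn⟩ := hz
  exact Ideal.Quotient.eq_zero_iff_mem.2 ⟨n + 1, by rw [pow_succ]; linear_combination hn⟩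

theorem exists_pow_mul_powTorsion {A : Type u} [CommRing A] [IsNoetherianRing A] (f : A) :
    ∃ c : ℕ, (∀ a ∈ powTorsion f, f ^ c * a = 0) ∧ powTorsion f ⊓ Ideal.span {f} ^ (c + 1) = ⊥ := by
  obtain ⟨S, hS⟩ := (powTorsion f).fg_of_isNoetherianRing
  have h : ∀ a ∈ powTorsion f, ∃ n : ℕ, f ^ n * a = 0 := fun a ha => ha
  choose n hn using h
  let c := S.attach.sup fun a => n a.1 (hS ▸ Ideal.subset_span a.2)
  have hc : ∀ a ∈ powTorsion f, f ^ c * a = 0 := fun a ha => by
    rw [← hS] at ha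
    induction ha using Submodule.span_induction with
    | mem a ha =>
      obtain ⟨d, hd⟩ := Nat.exists_eq_add_of_le (Finset.le_sup (f := fun a : S => n a.1 (hS ▸ Ideal.subset_span a.2))
        (Finset.mem_attach S ⟨a, ha⟩))
      rw [show c = _ + d from hd, pow_add, mul_right_comm, hn, zero_mul]
    | zero => rw [mul_zero]
    | add a b _ _ ha hb => rw [mul_add, ha, hb, add_zero]
    | smul r a _ ha => rw [smul_eq_mul, mul_left_comm, ha, mul_zero]
  refine ⟨c, hc, eq_bot_iff.2 fun x hx => ?_⟩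
  obtain ⟨hxT, hxJ⟩ := hx
  rw [SetLike.mem_coe, Ideal.span_singleton_pow, Ideal.mem_span_singleton'] at hxJ
  obtain ⟨a, rfl⟩ := hxJ
  rw [Ideal.mem_bot]
  have h2 : a ∈ powTorsion f := ⟨c + (c + 1), by rw [pow_add, mul_assoc, mul_comm (f ^ (c + 1)) a]; exact hc _ hxT⟩
  rw [pow_succ, ← mul_assoc, mul_comm a, hc a h2, zero_mul]

open H18PBC.CompleteLift (intoThick)

/-- Every cover of the punctured hypersurface extends to a neighbourhood of it. -/
def HasNhdExt (A : Type u) [CommRing A] [IsLocalRing A] (f : A) : Prop :=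
  ∀ V₀ : FEt.Cat (pullback (FEt.puncturedSpec A).ι (Spec.map (CommRingCat.ofHom (Ideal.Quotient.mk (Ideal.span {f}))))),
    ∃ (U₁ : (FEt.puncturedSpec A : Scheme.{u}).Opens)
      (u₁ : pullback (FEt.puncturedSpec A).ι (Spec.map (CommRingCat.ofHom (Ideal.Quotient.mk (Ideal.span {f})))) ⟶ (U₁ : Scheme.{u}))
      (V₁ : FEt.Cat (U₁ : Scheme.{u})),
      u₁ ≫ U₁.ι = pullback.fst _ _ ∧ (∀ x, f ∈ ((FEt.puncturedSpec A).ι x).asIdeal → x ∈ U₁) ∧
        Nonempty ((FEt.restrict u₁).obj V₁ ≅ V₀)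

theorem hasNhdExt_of_isNilpotent (A : Type u) [CommRing A] [IsLocalRing A] (f : A) (hf : IsNilpotent f) :
    HasNhdExt A f := by
  intro V₀
  obtain ⟨n, hn⟩ := hf
  let q := Spec.map (CommRingCat.ofHom (Ideal.Quotient.mk (Ideal.span {f})))
  haveI : IsClosedImmersion q := IsClosedImmersion.spec_of_surjective _ Ideal.Quotient.mk_surjective
  haveI : Surjective q := ⟨fun P => (range_comap_of_surjective _ _ Ideal.Quotient.mk_surjective).ge (by
    show (RingHom.ker (Ideal.Quotient.mk (Ideal.span {f})) : Set A) ⊆ P.asIdeal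
    rw [Ideal.mk_ker]
    exact (Ideal.span_singleton_le_iff_mem _).2 (P.2.mem_of_pow_mem n (hn ▸ zero_mem _)))⟩
  let u₀ := pullback.fst (FEt.puncturedSpec A).ι q
  haveI : IsClosedImmersion u₀ := MorphismProperty.pullback_fst _ _ inferInstance
  haveI : Surjective u₀ := MorphismProperty.pullback_fst _ _ inferInstance
  haveI := S0238.result u₀
  let i := (⊤ : (FEt.puncturedSpec A : Scheme.{u}).Opens).ι
  refine ⟨⊤, IsOpenImmersion.lift i u₀ (by simp [i]), (FEt.restrict i).obj ((FEt.restrict u₀).objPreimage V₀),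
    IsOpenImmersion.lift_fac _ _ _, fun _ _ => trivial,
    ⟨H18Et.FEtLimit.restrictCompIso _ _ _ (IsOpenImmersion.lift_fac _ _ _) _ ≪≫
      (FEt.restrict u₀).objObjPreimageIso V₀⟩⟩

set_option maxHeartbeats 2000000 in
/-- The extension property passes from the torsion free quotient. -/
theorem hasNhdExt_of_quotient (A : Type u) [CommRing A] [IsNoetherianRing A] [IsLocalRing A] (f : A)
    [IsLocalRing (A ⧸ powTorsion f)]
    (h : HasNhdExt (A ⧸ powTorsion f) (Ideal.Quotient.mk (powTorsion f) f)) : HasNhdExt A f := by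
  intro V₀
  obtain ⟨c, -, hIK⟩ := exists_pow_mul_powTorsion f
  let I := powTorsion f
  let J : Ideal A := Ideal.span {f}
  let A' := A ⧸ I
  let π := Ideal.Quotient.mk I
  let f' : A' := π f
  let j := (FEt.puncturedSpec A).ι
  let j' := (FEt.puncturedSpec A').ι
  let σ := sm π
  let q := Spec.map (CommRingCat.ofHom (Ideal.Quotient.mk (Ideal.span {f})))
  let q' := Spec.map (CommRingCat.ofHom (Ideal.Quotient.mk (Ideal.span {f'})))
  obtain ⟨k, hk⟩ := H18Pur.Formal.exists_isPullback_punctured A I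
  haveI : IsClosedImmersion σ := IsClosedImmersion.spec_of_surjective _ Ideal.Quotient.mk_surjective
  haveI : IsClosedImmersion k := MorphismProperty.of_isPullback hk.flip ‹_›
  haveI : IsClosedImmersion q := IsClosedImmersion.spec_of_surjective _ Ideal.Quotient.mk_surjective
  haveI : IsClosedImmersion q' := IsClosedImmersion.spec_of_surjective _ Ideal.Quotient.mk_surjective
  haveI : IsClosedImmersion (pullback.fst j q) := MorphismProperty.pullback_fst _ _ inferInstance
  haveI : IsClosedImmersion (pullback.fst j' q') := MorphismProperty.pullback_fst _ _ inferInstance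
  let τ : (A ⧸ J) →+* (A' ⧸ Ideal.span {f'}) := Ideal.quotientMap (Ideal.span {f'}) π (by
    rw [Ideal.span_singleton_le_iff_mem, Ideal.mem_comap]; exact Ideal.mem_span_singleton_self _)
  have hτ : q' ≫ σ = sm τ ≫ q := by rw [← H7Flat.sm_comp, ← H7Flat.sm_comp]; rfl
  let a₀ : pullback j' q' ⟶ pullback j q := pullback.lift (pullback.fst _ _ ≫ k) (pullback.snd _ _ ≫ sm τ)
    (by rw [Category.assoc, hk.w, Category.assoc, ← hτ, pullback.condition_assoc])
  obtain ⟨U₁', u₁', V₁', hu', hmem', ⟨e'⟩⟩ := h ((FEt.restrict a₀).obj V₀)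
  let U₁ : (FEt.puncturedSpec A : Scheme.{u}).Opens :=
    ⟨(k '' (U₁' : Set _)ᶜ)ᶜ, (k.isClosedEmbedding.isClosedMap _ U₁'.2.isClosed_compl).isOpen_compl⟩
  have hpre : ∀ w, k w ∈ U₁ → w ∈ U₁' := fun w hw => not_not.1 fun h => hw ⟨w, h, rfl⟩
  have hjk : ∀ w, j (k w) = σ (j' w) := fun w => by
    rw [← Scheme.Hom.comp_apply, hk.w, Scheme.Hom.comp_apply]
  have hmem : ∀ x, f ∈ (j x).asIdeal → x ∈ U₁ := by
    rintro x hx ⟨w, hw, rfl⟩
    refine hw (hmem' w ?_)
    rw [hjk] at hx
    exact hx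
  let g : (U₁ : Scheme.{u}) ⟶ Spec (CommRingCat.of A) := U₁.ι ≫ j
  haveI : Flat g := inferInstance
  let K : Ideal A := J ^ (c + 1)
  let z := sm (Ideal.Quotient.mk (I ⊔ K))
  -- the two pieces
  let X := pullback (sm π) g
  let Y := pullback (sm (Ideal.Quotient.mk K)) g
  let xU : X ⟶ (FEt.puncturedSpec A' : Scheme.{u}) :=
    hk.lift (pullback.snd _ _ ≫ U₁.ι) (pullback.fst _ _) (by rw [Category.assoc]; exact pullback.condition.symm)
  have hxU : Set.range xU ⊆ Set.range U₁'.ι := by
    rintro _ ⟨x, rfl⟩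
    rw [Scheme.Opens.range_ι]
    refine hpre _ ?_
    rw [← Scheme.Hom.comp_apply, hk.lift_fst, Scheme.Hom.comp_apply]
    exact (pullback.snd (sm π) g x).2
  let xX : X ⟶ (U₁' : Scheme.{u}) := IsOpenImmersion.lift U₁'.ι xU hxU
  have hxX : xX ≫ U₁'.ι ≫ k = pullback.snd (sm π) g ≫ U₁.ι := by
    rw [← Category.assoc, IsOpenImmersion.lift_fac, hk.lift_fst]
  let Vx : FEt.Cat X := (FEt.restrict xX).obj V₁'
  haveI : (FEt.restrict (intoThick J j c)).IsEquivalence := S0238.result (intoThick J j c)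
  let Vn : FEt.Cat (CohB1.thick j J c) := (FEt.restrict (intoThick J j c)).objPreimage V₀
  let eV : (FEt.restrict (intoThick J j c)).obj Vn ≅ V₀ := (FEt.restrict (intoThick J j c)).objObjPreimageIso V₀
  let yY : Y ⟶ CohB1.thick j J c := pullback.lift (pullback.snd _ _ ≫ U₁.ι) (pullback.fst _ _)
    (by rw [Category.assoc]; exact pullback.condition.symm)
  have hyY : yY ≫ CohB1.thickι j J c = pullback.snd _ _ ≫ U₁.ι := pullback.lift_fst _ _ _
  haveI : Mono (CohB1.thickι j J c) := by
    haveI : IsClosedImmersion (CohB1.thickι j J c) :=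
      MorphismProperty.pullback_fst _ _ (IsClosedImmersion.spec_of_surjective _ Ideal.Quotient.mk_surjective)
    infer_instance
  let Vy : FEt.Cat Y := (FEt.restrict yY).obj Vn
  let i : pullback z g ⟶ X := pullback.lift (pullback.fst z g ≫ sm (Ideal.Quotient.factor (le_sup_left : I ≤ I ⊔ K)))
    (pullback.snd z g) (by rw [Category.assoc, ← H7Flat.sm_comp, Ideal.Quotient.factor_comp_mk, pullback.condition])
  let i₂ : pullback z g ⟶ Y := pullback.lift (pullback.fst z g ≫ sm (Ideal.Quotient.factor (le_sup_right : K ≤ I ⊔ K)))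
    (pullback.snd z g) (by rw [Category.assoc, ← H7Flat.sm_comp, Ideal.Quotient.factor_comp_mk, pullback.condition])
  -- the reduced intersection
  let ρ : (A ⧸ (I ⊔ K)) →+* (A' ⧸ Ideal.span {f'}) := Ideal.Quotient.lift (I ⊔ K)
    ((Ideal.Quotient.mk (Ideal.span {f'})).comp π) fun a ha => by
      obtain ⟨u, hu, v, hv, rfl⟩ := Submodule.mem_sup.1 ha
      show Ideal.Quotient.mk _ (π (u + v)) = 0
      rw [map_add, Ideal.Quotient.eq_zero_iff_mem.2 hu, zero_add, Ideal.Quotient.eq_zero_iff_mem]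
      obtain ⟨t, rfl⟩ := Ideal.mem_span_singleton'.1 (Ideal.pow_le_self c.succ_ne_zero hv)
      rw [map_mul]
      exact Ideal.mul_mem_left _ _ (Ideal.mem_span_singleton_self _)
  let v : pullback j' q' ⟶ (U₁ : Scheme.{u}) :=
    IsOpenImmersion.lift U₁.ι (pullback.fst _ _ ≫ k) (by
      rintro _ ⟨y, rfl⟩
      rw [Scheme.Opens.range_ι]
      refine hmem _ ?_
      rw [Scheme.Hom.comp_apply, hjk, show j' (pullback.fst j' q' y) = q' (pullback.snd j' q' y) by
        rw [← Scheme.Hom.comp_apply, pullback.condition, Scheme.Hom.comp_apply]]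
      show Ideal.Quotient.mk (Ideal.span {f'}) f' ∈ (pullback.snd j' q' y).asIdeal
      rw [Ideal.Quotient.eq_zero_iff_mem.2 (Ideal.mem_span_singleton_self _)]
      exact zero_mem _)
  let m : pullback j' q' ⟶ pullback z g := pullback.lift (pullback.snd _ _ ≫ sm ρ) v (by
    rw [Category.assoc, ← H7Flat.sm_comp, show g = U₁.ι ≫ j from rfl,
      IsOpenImmersion.lift_fac_assoc, Category.assoc, hk.w, pullback.condition_assoc]
    congr 1
    rw [← H7Flat.sm_comp]
    rfl)
  have hm : m ≫ pullback.snd z g ≫ U₁.ι = pullback.fst _ _ ≫ k := by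
    rw [pullback.lift_snd_assoc, IsOpenImmersion.lift_fac]
  haveI : IsClosedImmersion z := IsClosedImmersion.spec_of_surjective _ Ideal.Quotient.mk_surjective
  haveI : IsClosedImmersion (pullback.snd z g) := MorphismProperty.pullback_snd _ _ inferInstance
  haveI : IsClosedImmersion m := by
    haveI : IsClosedImmersion (m ≫ pullback.snd z g ≫ U₁.ι) := by rw [hm]; infer_instance
    exact IsClosedImmersion.of_comp m (pullback.snd z g ≫ U₁.ι)
  haveI : Surjective m := ⟨fun w => by
    let x : (FEt.puncturedSpec A : Scheme.{u}) := U₁.ι (pullback.snd z g w)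
    have hx : j x = z (pullback.fst z g w) := by
      show g (pullback.snd z g w) = _
      rw [← Scheme.Hom.comp_apply, ← pullback.condition, Scheme.Hom.comp_apply]
    have hle : I ⊔ K ≤ (j x).asIdeal := fun a ha => by
      rw [hx]
      show Ideal.Quotient.mk (I ⊔ K) a ∈ (pullback.fst z g w).asIdeal
      rw [Ideal.Quotient.eq_zero_iff_mem.2 ha]
      exact zero_mem _
    obtain ⟨y, hy⟩ : j x ∈ Set.range σ := by
      refine (range_comap_of_surjective _ _ Ideal.Quotient.mk_surjective).ge ?_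
      show (RingHom.ker π : Set A) ⊆ (j x).asIdeal
      rw [Ideal.mk_ker]
      exact fun a ha => hle (Submodule.mem_sup_left ha)
    obtain ⟨x', hx', -⟩ := Scheme.Pullback.exists_preimage_pullback (f := j) (g := σ) x y hy.symm
    let w' : (FEt.puncturedSpec A' : Scheme.{u}) := hk.isoPullback.inv x'
    have hkw : k w' = x := by
      show (hk.isoPullback.inv ≫ k) x' = x
      rw [hk.isoPullback_inv_fst, hx']
    have hfw : f' ∈ (j' w').asIdeal := by
      show f ∈ (σ (j' w')).asIdeal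
      rw [← hjk, hkw]
      refine (j x).2.mem_of_pow_mem (c + 1) (hle (Submodule.mem_sup_right ?_))
      exact Ideal.pow_mem_pow (Ideal.mem_span_singleton_self f) _
    obtain ⟨y', hy'⟩ : j' w' ∈ Set.range q' := by
      refine (range_comap_of_surjective _ _ Ideal.Quotient.mk_surjective).ge ?_
      show (RingHom.ker (Ideal.Quotient.mk (Ideal.span {f'})) : Set A') ⊆ (j' w').asIdeal
      rw [Ideal.mk_ker]
      exact (Ideal.span_singleton_le_iff_mem _).2 hfw
    obtain ⟨p, hp, -⟩ := Scheme.Pullback.exists_preimage_pullback (f := j') (g := q') w' y' hy'.symm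
    refine ⟨p, (pullback.snd z g ≫ U₁.ι).injective ?_⟩
    show (m ≫ pullback.snd z g ≫ U₁.ι) p = x
    rw [hm, Scheme.Hom.comp_apply, hp, hkw]⟩
  haveI := S0238.result m
  have hmi : (m ≫ i) ≫ xX = u₁' := by
    rw [← cancel_mono (U₁'.ι ≫ k)]
    simp only [Category.assoc, hxX]
    rw [pullback.lift_snd_assoc, hm, reassoc_of% hu']
  have hmj : (m ≫ i₂) ≫ yY = a₀ ≫ intoThick J j c := by
    rw [← cancel_mono (CohB1.thickι j J c)]
    simp only [Category.assoc, hyY, H18PBC.CompleteLift.intoThick_ι]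
    rw [pullback.lift_snd_assoc, hm, pullback.lift_fst]
  let eZ : (FEt.restrict i).obj Vx ≅ (FEt.restrict i₂).obj Vy :=
    (FEt.restrict m).preimageIso (H18Et.FEtLimit.restrictCompIso m i _ rfl Vx ≪≫
      H18Et.FEtLimit.restrictCompIso (m ≫ i) xX _ hmi V₁' ≪≫ e' ≪≫
      (FEt.restrict a₀).mapIso eV.symm ≪≫
      H18Et.FEtLimit.restrictCompIso a₀ (intoThick J j c) _ rfl Vn ≪≫
      (H18Et.FEtLimit.restrictCompIso (m ≫ i₂) yY _ hmj Vn).symm ≪≫
      (H18Et.FEtLimit.restrictCompIso m i₂ _ rfl Vy).symm)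
  obtain ⟨V, -, ⟨eY⟩⟩ := exists_glue_closed I K hIK g Vx Vy eZ
  let u₁ : pullback j q ⟶ (U₁ : Scheme.{u}) := IsOpenImmersion.lift U₁.ι (pullback.fst j q) (by
    rintro _ ⟨y, rfl⟩
    rw [Scheme.Opens.range_ι]
    refine hmem _ ?_
    rw [show j (pullback.fst j q y) = q (pullback.snd j q y) by
      rw [← Scheme.Hom.comp_apply, pullback.condition, Scheme.Hom.comp_apply]]
    show Ideal.Quotient.mk (Ideal.span {f}) f ∈ (pullback.snd j q y).asIdeal
    rw [Ideal.Quotient.eq_zero_iff_mem.2 (Ideal.mem_span_singleton_self _)]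
    exact zero_mem _)
  have hu₁ : u₁ ≫ U₁.ι = pullback.fst j q := IsOpenImmersion.lift_fac _ _ _
  let y₀ : pullback j q ⟶ Y :=
    pullback.lift (pullback.snd j q ≫ H18PBC.CompleteLift.specInto J c) u₁ (by
      rw [Category.assoc, show g = U₁.ι ≫ j from rfl, reassoc_of% hu₁, pullback.condition]
      congr 1
      exact H18PBC.CompleteLift.specInto_specQuot J c)
  have hy₀ : y₀ ≫ yY = intoThick J j c := by
    rw [← cancel_mono (CohB1.thickι j J c), Category.assoc, hyY, pullback.lift_snd_assoc, hu₁,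
      H18PBC.CompleteLift.intoThick_ι]
  exact ⟨U₁, u₁, V, hu₁, hmem, ⟨(H18Et.FEtLimit.restrictCompIso y₀ (pullback.snd _ g) u₁ (pullback.lift_snd _ _ _) V).symm ≪≫
    (FEt.restrict y₀).mapIso eY ≪≫ H18Et.FEtLimit.restrictCompIso y₀ yY _ hy₀ Vn ≪≫ eV⟩⟩

end Groth.Agent.H11Alg
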