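import Groth.Agent.H11Alg.Torsion
import Groth.Agent.H24Adic.Basic

/-!
# Algebraization of a compatible system of sections on a punctured spectrum
-/

set_option autoImplicit false
set_option linter.style.haveILetI false

universe u

open IsLocalRing

namespace Groth.Agent.H11Alg

/-- The sections of the levels of a formal cover off the closed point, read on generators `T`. -/
structure Levels (A : Type u) [CommRing A] (f : A) (T : Finset A) where
  G : ℕ → Type u
  [ring : ∀ n, CommRing (G n)]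
  [alg : ∀ n, Algebra A (G n)]
  ρ : ∀ {m n : ℕ}, n ≤ m → G m →ₐ[A] G n
  ρ_self : ∀ (n : ℕ) (x : G n), ρ (le_refl n) x = x
  ρ_comp : ∀ {k m n : ℕ} (h : n ≤ m) (h' : m ≤ k) (x : G k), ρ h (ρ h' x) = ρ (h.trans h') x
  sat : ∀ n, IsSat T (G n)
  killed : ∀ (n : ℕ) (x : G n), f ^ (n + 1) • x = 0
  lift : ∀ c ∈ T, ∀ {m n : ℕ} (h : n ≤ m) (s : G n), ∃ (K : ℕ) (z : G m), ρ h z = c ^ K • s
  kerLoc : ∀ {m n : ℕ} (h : n ≤ m) (x : G m), ρ h x = 0 →
    ∀ c ∈ T, ∃ (K : ℕ) (z : G m), c ^ K • x = f ^ (n + 1) • z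
  annLoc : ∀ {m : ℕ} (i j : ℕ), i + j = m → ∀ x : G m, f ^ i • x = 0 →
    ∀ c ∈ T, ∃ (K : ℕ) (z : G m), c ^ K • x = f ^ (j + 1) • z

namespace Levels

attribute [instance] ring alg

variable {A : Type u} [CommRing A] {f : A} {T : Finset A} (L : Levels A f T) {m n : ℕ}

theorem smul_killed {x : L.G m} {e : ℕ} (h : m + 1 ≤ e) : f ^ e • x = 0 := by
  obtain ⟨d, rfl⟩ := Nat.exists_eq_add_of_le h
  rw [add_comm, pow_add, mul_smul, L.killed, smul_zero]

theorem existsUnique_U (h : n ≤ m) (s : L.G n) : ∃! t : L.G m,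
    ∀ c ∈ T, ∀ (K : ℕ) (z : L.G m), L.ρ h z = c ^ K • s → c ^ K • t = f ^ (m - n) • z := by
  classical
  have key : ∀ D : L.G m, L.ρ h D = 0 → f ^ (m - n) • D = 0 := fun D hD =>
    (L.sat m).sep _ fun e he => by
      obtain ⟨K, w, hw⟩ := L.kerLoc h D hD e he
      exact ⟨K, by rw [smul_comm, hw, smul_smul, ← pow_add, L.smul_killed (by omega)]⟩
  choose K z hz using fun c (hc : c ∈ T) => L.lift c hc h s
  let K₀ := T.attach.sup fun c => K c.1 c.2
  have hle : ∀ c (hc : c ∈ T), K c hc ≤ K₀ := fun c hc =>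
    Finset.le_sup (f := fun c : T => K c.1 c.2) (Finset.mem_attach T ⟨c, hc⟩)
  let w : A → L.G m := fun c => if hc : c ∈ T then c ^ (K₀ - K c hc) • z c hc else 0
  have hw : ∀ c ∈ T, L.ρ h (w c) = c ^ K₀ • s := fun c hc => by
    simp only [w, dif_pos hc, map_smul, hz, smul_smul, ← pow_add]
    rw [Nat.sub_add_cancel (hle c hc)]
  obtain ⟨t, ht⟩ := (L.sat m).glue K₀ (fun c => f ^ (m - n) • w c) fun c hc d hd => by
    have := key (d ^ K₀ • w c - c ^ K₀ • w d) (by
      rw [map_sub, map_smul, map_smul, hw c hc, hw d hd, smul_comm, sub_self])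
    rwa [smul_sub, smul_comm _ (d ^ K₀), smul_comm _ (c ^ K₀), sub_eq_zero] at this
  refine ⟨t, fun c hc K' z' hz' => ?_, fun t' ht' => ?_⟩
  · refine sub_eq_zero.1 ((L.sat m).sep _ fun e he => ⟨K₀, ?_⟩)
    have := key (c ^ K' • w e - e ^ K₀ • z') (by
      rw [map_sub, map_smul, map_smul, hw e he, hz', smul_comm, sub_self])
    rw [smul_sub, sub_eq_zero] at this
    rw [smul_sub, smul_comm (e ^ K₀) (c ^ K'), ht e he, sub_eq_zero, smul_comm (c ^ K'), this, smul_comm]
  · refine sub_eq_zero.1 ((L.sat m).sep _ fun c hc => ⟨K₀, ?_⟩)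
    rw [smul_sub, ht c hc, ht' c hc K₀ (w c) (hw c hc), sub_self]

/-- Multiplication by a power of `f` from a lower level. -/
noncomputable def U (h : n ≤ m) : L.G n →ₗ[A] L.G m where
  toFun s := (L.existsUnique_U h s).choose
  map_add' a b := by
    refine ((L.existsUnique_U h (a + b)).choose_spec.2 _ fun c hc K z hz => ?_).symm
    obtain ⟨K₁, z₁, h₁⟩ := L.lift c hc h a
    obtain ⟨K₂, z₂, h₂⟩ := L.lift c hc h b
    refine sub_eq_zero.1 ((L.sat m).sep _ fun e he => ?_)
    obtain ⟨M, y, hy⟩ := L.lift e he h a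
    have hb : L.ρ h (e ^ M • z - c ^ K • y) = (c ^ K * e ^ M) • b := by
      rw [map_sub, map_smul, map_smul, hz, hy, smul_add, smul_add, smul_smul, smul_smul, smul_smul, mul_comm (e ^ M)]
      abel
    obtain ⟨M', y', hy'⟩ := L.lift e he h b
    have sa := (L.existsUnique_U h a).choose_spec.1 e he M y hy
    have sb := (L.existsUnique_U h b).choose_spec.1 e he M' y' hy'
    refine ⟨M + M', ?_⟩
    have hD : L.ρ h (e ^ (M + M') • z - (c ^ K * e ^ M') • y - (c ^ K * e ^ M) • y') = 0 := by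
      rw [map_sub, map_sub, map_smul, map_smul, map_smul, hz, hy, hy', smul_smul, smul_smul, smul_smul,
        smul_add, show c ^ K * e ^ M' * e ^ M = e ^ (M + M') * c ^ K by ring,
        show c ^ K * e ^ M * e ^ M' = e ^ (M + M') * c ^ K by ring]
      abel
    have h0 : f ^ (m - n) • (e ^ (M + M') • z - (c ^ K * e ^ M') • y - (c ^ K * e ^ M) • y') = 0 :=
      (L.sat m).sep _ fun g hg => by
        obtain ⟨R, r, hr⟩ := L.kerLoc h _ hD g hg
        exact ⟨R, by rw [smul_comm, hr, smul_smul, ← pow_add, L.smul_killed (by omega)]⟩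
    linear_combination (norm := module) (-1 : A) • h0 + (c ^ K * e ^ M') • sa + (c ^ K * e ^ M) • sb
  map_smul' r a := by
    refine ((L.existsUnique_U h (r • a)).choose_spec.2 _ fun c hc K z hz => ?_).symm
    refine sub_eq_zero.1 ((L.sat m).sep _ fun e he => ?_)
    obtain ⟨M, y, hy⟩ := L.lift e he h a
    have sa := (L.existsUnique_U h a).choose_spec.1 e he M y hy
    refine ⟨M, ?_⟩
    have hD : L.ρ h (e ^ M • z - (c ^ K * r) • y) = 0 := by
      rw [map_sub, map_smul, map_smul, hz, hy, smul_smul, smul_smul, smul_smul, sub_eq_zero]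
      congr 1
      ring
    have h0 : f ^ (m - n) • (e ^ M • z - (c ^ K * r) • y) = 0 :=
      (L.sat m).sep _ fun g hg => by
        obtain ⟨R, w, hw⟩ := L.kerLoc h _ hD g hg
        exact ⟨R, by rw [smul_comm, hw, smul_smul, ← pow_add, L.smul_killed (by omega)]⟩
    rw [RingHom.id_apply]
    linear_combination (norm := module) (-1 : A) • h0 + (c ^ K * r) • sa

variable {L}

theorem smul_U (h : n ≤ m) {c : A} (hc : c ∈ T) {K : ℕ} {s : L.G n} {z : L.G m} (hz : L.ρ h z = c ^ K • s) :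
    c ^ K • L.U h s = f ^ (m - n) • z :=
  (L.existsUnique_U h s).choose_spec.1 c hc K z hz

theorem U_ext {x y : L.G m} (h : ∀ c ∈ T, ∃ K : ℕ, c ^ K • x = c ^ K • y) : x = y :=
  sub_eq_zero.1 ((L.sat m).sep _ fun c hc => (h c hc).imp fun K hK => by rw [smul_sub, hK, sub_self])

theorem U_ρ (h : n ≤ m) (x : L.G m) : L.U h (L.ρ h x) = f ^ (m - n) • x :=
  U_ext fun c hc => ⟨0, by
    rw [smul_U h hc (K := 0) (z := x) (by rw [pow_zero, one_smul]), pow_zero, one_smul]⟩

theorem ρ_U (h : n ≤ m) (s : L.G n) : L.ρ h (L.U h s) = f ^ (m - n) • s :=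
  U_ext fun c hc => by
    obtain ⟨K, z, hz⟩ := L.lift c hc h s
    exact ⟨K, by rw [← map_smul, smul_U h hc hz, map_smul, hz, smul_comm]⟩

theorem U_U {k : ℕ} (h : n ≤ m) (h' : m ≤ k) (s : L.G n) : L.U h' (L.U h s) = L.U (h.trans h') s :=
  U_ext fun c hc => by
    obtain ⟨K, z, hz⟩ := L.lift c hc (h.trans h') s
    refine ⟨K, ?_⟩
    rw [smul_U (h.trans h') hc hz, ← map_smul, smul_U h hc (z := L.ρ h' z) (by rw [L.ρ_comp]; exact hz), map_smul,
      U_ρ, smul_smul, ← pow_add]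
    congr 2
    omega

theorem U_injective (h : n ≤ m) : Function.Injective (L.U h) := by
  refine (injective_iff_map_eq_zero _).2 fun s hs => (L.sat n).sep _ fun c hc => ?_
  obtain ⟨K, z, hz⟩ := L.lift c hc h s
  have h1 := smul_U h hc hz
  rw [hs, smul_zero] at h1
  obtain ⟨K', w, hw⟩ := L.annLoc (m - n) n (by omega) z h1.symm c hc
  exact ⟨K' + K, by rw [pow_add, mul_smul, ← hz, ← map_smul, hw, map_smul, L.killed]⟩

theorem exists_U_of_ρ_eq_zero {j : ℕ} (h : n ≤ m) (hj : n + j + 1 = m) (x : L.G m) (hx : L.ρ h x = 0) :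
    ∃ s, L.U (show j ≤ m by omega) s = x := by
  classical
  choose K z hz using fun c (hc : c ∈ T) => L.kerLoc h x hx c hc
  let K₀ := T.attach.sup fun c => K c.1 c.2
  have hle : ∀ c (hc : c ∈ T), K c hc ≤ K₀ := fun c hc =>
    Finset.le_sup (f := fun c : T => K c.1 c.2) (Finset.mem_attach T ⟨c, hc⟩)
  let w : A → L.G m := fun c => if hc : c ∈ T then c ^ (K₀ - K c hc) • z c hc else 0
  have hw : ∀ c ∈ T, c ^ K₀ • x = f ^ (n + 1) • w c := fun c hc => by
    simp only [w, dif_pos hc]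
    rw [smul_comm, ← hz c hc, smul_smul, ← pow_add, Nat.sub_add_cancel (hle c hc)]
  obtain ⟨s, hs⟩ := (L.sat j).glue K₀ (fun c => L.ρ (show j ≤ m by omega) (w c)) fun c hc d hd => U_ext fun e he => by
    obtain ⟨R, r, hr⟩ := L.annLoc (n + 1) j (by omega) (d ^ K₀ • w c - c ^ K₀ • w d) (by
      rw [smul_sub, smul_comm, ← hw c hc, smul_comm (f ^ (n + 1)), ← hw d hd, smul_comm, sub_self]) e he
    refine ⟨R, sub_eq_zero.1 ?_⟩
    rw [← smul_sub, ← map_smul, ← map_smul, ← map_sub, ← map_smul, hr, map_smul, L.killed]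
  refine ⟨s, U_ext fun c hc => ⟨K₀, ?_⟩⟩
  rw [smul_U _ hc (hs c hc).symm, hw c hc]
  congr 2
  omega

theorem ρ_U_eq_zero {j : ℕ} (h : n ≤ m) (hj : n + j + 1 = m) (s : L.G j) :
    L.ρ h (L.U (show j ≤ m by omega) s) = 0 :=
  U_ext fun c hc => by
    obtain ⟨K, z, hz⟩ := L.lift c hc (show j ≤ m by omega) s
    refine ⟨K, ?_⟩
    rw [← map_smul, smul_U _ hc hz, map_smul, smul_zero, L.smul_killed (by omega)]

/-- The two shifts commute. -/
theorem ρ_U_succ {j : ℕ} (h : j ≤ m) (s : L.G (j + 1)) :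
    L.ρ m.le_succ (L.U (Nat.succ_le_succ h) s) = L.U h (L.ρ j.le_succ s) :=
  U_ext fun c hc => by
    obtain ⟨K, z, hz⟩ := L.lift c hc (Nat.succ_le_succ h) s
    refine ⟨K, ?_⟩
    rw [← map_smul, smul_U _ hc hz, map_smul,
      smul_U h hc (z := L.ρ m.le_succ z) (by
        rw [← map_smul, ← hz, L.ρ_comp, L.ρ_comp])]
    congr 2
    omega

variable (L)

/-- The liftable sections. -/
noncomputable def N (n : ℕ) : Submodule A (L.G n) := LinearMap.range (L.ρ n.le_succ).toLinearMap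

/-- The failure of lifting. -/
noncomputable abbrev Q (n : ℕ) : Type u := L.G n ⧸ L.N n

/-- The obstruction shifts. -/
noncomputable def q (n : ℕ) : L.Q n →ₗ[A] L.Q (n + 1) :=
  Submodule.mapQ _ _ (L.U n.le_succ) (by
    rintro _ ⟨t, rfl⟩
    exact ⟨L.U (Nat.succ_le_succ n.le_succ) t, ρ_U_succ n.le_succ t⟩)

theorem q_injective (n : ℕ) : Function.Injective (L.q n) := by
  refine (injective_iff_map_eq_zero _).2 fun x hx => ?_
  obtain ⟨s, rfl⟩ := (L.N n).mkQ_surjective x
  obtain ⟨t, ht⟩ := (Submodule.Quotient.mk_eq_zero _).1 hx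
  have h0 : L.ρ (Nat.zero_le (n + 1)) (L.U n.le_succ s) = 0 := ρ_U_eq_zero (j := n) _ (by omega) s
  rw [← ht] at h0
  replace h0 : L.ρ (Nat.zero_le (n + 1)) (L.ρ (n + 1).le_succ t) = 0 := h0
  rw [L.ρ_comp] at h0
  obtain ⟨t', rfl⟩ := exists_U_of_ρ_eq_zero (j := n + 1) _ (by omega) t h0
  exact (Submodule.Quotient.mk_eq_zero _).2 ⟨t', U_injective n.le_succ
    ((ρ_U_succ n.le_succ t').symm.trans ht)⟩

variable [IsLocalRing A] [IsNoetherianRing A] (hT : Ideal.span (T : Set A) = maximalIdeal A)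

include hT in
theorem exists_injective_H_two (n : ℕ) :
    ∃ ψ : L.Q n →ₗ[A] LocCoh.H (maximalIdeal A) 2 (L.G 0), Function.Injective ψ := by
  have htop : DRing.torsionSub (maximalIdeal A) (L.Q n) = ⊤ := eq_top_iff.2 fun x _ => by
    obtain ⟨x, rfl⟩ := (L.N n).mkQ_surjective x
    refine (mem_torsionSub_iff hT _).2 fun c hc => ?_
    obtain ⟨K, z, hz⟩ := L.lift c hc n.le_succ x
    exact ⟨K, by rw [← map_smul]; exact (Submodule.Quotient.mk_eq_zero _).2 ⟨z, hz⟩⟩
  let i₀ : L.Q n ≃ₗ[A] LocCoh.H (maximalIdeal A) 0 (L.Q n) :=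
    ((H4LC.zeroEquiv (maximalIdeal A) (L.Q n)).trans ((LinearEquiv.ofEq _ _ htop).trans Submodule.topEquiv)).symm
  let δ₀ := H4LC.δH (maximalIdeal A) (L.N n).subtype_injective (L.N n).mkQ_surjective
    (LinearMap.exact_subtype_mkQ (L.N n)) 0
  have h₀ : Function.Injective δ₀ := H4LC.δH_injective (maximalIdeal A) _ _ _ 0 ((L.sat n).subsingleton_H_zero hT)
  let π : L.G (n + 1) →ₗ[A] L.N n := (L.ρ n.le_succ).toLinearMap.rangeRestrict
  have hπ : Function.Surjective π := LinearMap.surjective_rangeRestrict _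
  have hex : Function.Exact (L.U (Nat.zero_le (n + 1))) π := by
    intro x
    refine ⟨fun hx => ?_, ?_⟩
    · exact exists_U_of_ρ_eq_zero (j := 0) n.le_succ (by omega) x (congrArg Subtype.val hx)
    · rintro ⟨y, rfl⟩
      exact Subtype.ext (ρ_U_eq_zero (j := 0) n.le_succ (by omega) y)
  let δ₁ := H4LC.δH (maximalIdeal A) (U_injective (L := L) (Nat.zero_le (n + 1))) hπ hex 1
  have h₁ : Function.Injective δ₁ := H4LC.δH_injective (maximalIdeal A) _ _ _ 1 ((L.sat (n + 1)).subsingleton_H_one hT)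
  exact ⟨δ₁ ∘ₗ δ₀ ∘ₗ i₀.toLinearMap, h₁.comp (h₀.comp i₀.injective)⟩

include hT in
/-- The obstructions stabilise. -/
theorem exists_stable (hfin : Module.Finite A (LocCoh.H (maximalIdeal A) 2 (L.G 0))) [Module.Finite A (L.G 0)] :
    ∃ k₀, ∀ m, k₀ ≤ m → ∀ t : L.G m, ∀ h : k₀ ≤ m,
      ∃ (w : L.G k₀) (t' : L.G (m + 1)), t = L.U h w + L.ρ m.le_succ t' := by
  let H := LocCoh.H (maximalIdeal A) 2 (L.G 0)
  haveI : IsArtinian A H := H4LC.isArtinian_H 2 (L.G 0)
  haveI : IsNoetherian A H := inferInstance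
  have hH : Module.length A H ≠ ⊤ := Module.length_ne_top
  have hle : ∀ n, Module.length A (L.Q n) ≤ Module.length A H := fun n =>
    (L.exists_injective_H_two hT n).elim fun ψ hψ => Module.length_le_of_injective ψ hψ
  obtain ⟨k₀, hk₀⟩ : ∃ k₀, ∀ n, Module.length A (L.Q n) ≤ Module.length A (L.Q k₀) := by
    have hfin : (Set.range fun n => Module.length A (L.Q n)).Finite := by
      lift Module.length A H to ℕ using hH with N hN
      exact ((Set.finite_Iic N).image (fun k : ℕ => (k : ℕ∞))).subset (by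
        rintro _ ⟨n, rfl⟩
        have h' : Module.length A (L.Q n) ≠ ⊤ := ne_top_of_le_ne_top (ENat.coe_ne_top N) (hle n)
        exact ⟨(Module.length A (L.Q n)).toNat, ENat.toNat_le_of_le_coe (hle n), ENat.coe_toNat h'⟩)
    obtain ⟨_, ⟨k, rfl⟩, hk⟩ := hfin.exists_maximal (Set.range_nonempty _)
    exact ⟨k, fun n => (le_total _ _).elim id (hk ⟨n, rfl⟩)⟩
  have hmono : ∀ m, k₀ ≤ m → Module.length A (L.Q k₀) ≤ Module.length A (L.Q m) := fun m hm => by
    induction m, hm using Nat.le_induction with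
    | base => exact le_rfl
    | succ m _ ih => exact ih.trans (Module.length_le_of_injective _ (L.q_injective m))
  have hsurj : ∀ m, k₀ ≤ m → Function.Surjective (L.q m) := fun m hm => by
    have h := Module.length_eq_add_of_exact (L.q m) (LinearMap.range (L.q m)).mkQ (L.q_injective m)
      (Submodule.mkQ_surjective _) (LinearMap.exact_map_mkQ_range _)
    have heq : Module.length A (L.Q (m + 1)) = Module.length A (L.Q m) :=
      le_antisymm ((hk₀ _).trans (hmono m hm)) (Module.length_le_of_injective _ (L.q_injective m))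
    rw [heq] at h
    have hz : Module.length A (L.Q (m + 1) ⧸ LinearMap.range (L.q m)) = 0 := by
      have hne : Module.length A (L.Q m) ≠ ⊤ := ne_top_of_le_ne_top hH (hle m)
      exact ((ENat.addLECancellable_of_ne_top hne).inj.1 (h.symm.trans (add_zero _).symm))
    haveI := Module.length_eq_zero_iff.1 hz
    intro x
    exact (Submodule.Quotient.mk_eq_zero _).1 (Subsingleton.elim ((LinearMap.range (L.q m)).mkQ x) 0)
  refine ⟨k₀, fun m hm => ?_⟩
  induction m, hm using Nat.le_induction with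
  | base => exact fun t h => ⟨t, 0, by rw [U_ext (y := t) (x := L.U h t) fun c hc => ⟨0, by
      rw [smul_U h hc (K := 0) (z := t) (by rw [L.ρ_self, pow_zero, one_smul]), Nat.sub_self, pow_zero, pow_zero]⟩]; simp⟩
  | succ m hm ih =>
    intro t h
    obtain ⟨x, hx⟩ := hsurj m hm ((L.N (m + 1)).mkQ t)
    obtain ⟨s, rfl⟩ := (L.N m).mkQ_surjective x
    obtain ⟨w, t'', rfl⟩ := ih s hm
    have hmem : t - L.U m.le_succ (L.U hm w + L.ρ m.le_succ t'') ∈ L.N (m + 1) :=
      (Submodule.Quotient.eq _).1 hx.symm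
    obtain ⟨t', ht'⟩ := hmem
    refine ⟨w, t' + L.U (Nat.succ_le_succ m.le_succ) t'', ?_⟩
    rw [map_add, ρ_U_succ m.le_succ t'', show L.ρ (m + 1).le_succ t' = _ from ht', map_add, U_U hm m.le_succ]
    abel

include hT in
/-- Sections lifting far enough lift to every level. -/
theorem exists_lift_all (hfin : Module.Finite A (LocCoh.H (maximalIdeal A) 2 (L.G 0))) [Module.Finite A (L.G 0)] :
    ∃ k : ℕ, ∀ n (s : L.G n), (∃ t, L.ρ (Nat.le_add_right n k) t = s) →
      ∀ m (h : n ≤ m), ∃ t, L.ρ h t = s := by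
  obtain ⟨k₀, hk⟩ := L.exists_stable hT hfin
  refine ⟨k₀ + 1, fun n s ⟨t, ht⟩ m h => ?_⟩
  rcases Nat.lt_or_ge m (n + (k₀ + 1)) with hlt | hge
  · exact ⟨L.ρ hlt.le t, by rw [L.ρ_comp]; exact ht⟩
  · induction m, hge using Nat.le_induction with
    | base => exact ⟨t, ht⟩
    | succ m hge ih =>
      obtain ⟨u, hu⟩ := ih (by omega)
      obtain ⟨w, t', rfl⟩ := hk m (by omega) u (by omega)
      refine ⟨t', ?_⟩
      rw [← hu, map_add, L.ρ_comp, ← U_U (m := m - n - 1) (by omega) (by omega) w,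
        ρ_U_eq_zero (j := m - n - 1) _ (by omega), zero_add]

/-- The formal sections. -/
def lim : Subalgebra A (∀ n, L.G n) where
  carrier := {b | ∀ n, L.ρ n.le_succ (b (n + 1)) = b n}
  mul_mem' := fun ha hb n => by simp [ha n, hb n]
  one_mem' := fun n => by simp
  add_mem' := fun ha hb n => by simp [ha n, hb n]
  zero_mem' := fun n => by simp
  algebraMap_mem' := fun r n => by simp

/-- The projection of the formal sections. -/
def proj (n : ℕ) : L.lim →ₐ[A] L.G n := (Pi.evalAlgHom A L.G n).comp L.lim.val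

theorem lim_compat (b : L.lim) {m n : ℕ} (h : n ≤ m) : L.ρ h (L.proj m b) = L.proj n b := by
  induction m, h using Nat.le_induction with
  | base => exact L.ρ_self n _
  | succ m hm ih => rw [← ih, ← L.ρ_comp hm m.le_succ]; exact congrArg _ (b.2 m)

theorem proj_eq_zero_iff (n : ℕ) (b : L.lim) : L.proj n b = 0 ↔ ∃ y : L.lim, b = f ^ (n + 1) • y := by
  refine ⟨fun h => ?_, fun ⟨y, hy⟩ => by rw [hy, map_smul, L.killed]⟩
  choose y hy using fun j => exists_U_of_ρ_eq_zero (L := L) (j := j) (Nat.le_add_right n (j + 1)) (by omega)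
    (L.proj (n + (j + 1)) b) ((L.lim_compat b _).trans h)
  refine ⟨⟨y, fun j => U_injective (show j ≤ n + (j + 1) by omega) ?_⟩, Subtype.ext (funext fun j => ?_)⟩
  · rw [hy, ← ρ_U_succ, hy (j + 1)]
    exact L.lim_compat b _
  · show L.proj j b = f ^ (n + 1) • y j
    rw [← L.lim_compat b (show j ≤ n + (j + 1) by omega), ← hy j, ρ_U]
    congr 2
    omega

theorem isSMulRegular : IsSMulRegular L.lim f := by
  refine fun a b hab => sub_eq_zero.1 (Subtype.ext (funext fun n => ?_))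
  have h : f • L.proj (n + 1) (a - b) = 0 := by
    rw [← map_smul, smul_sub, show f • a = f • b from hab, sub_self, map_zero]
  refine U_injective (L := L) n.le_succ ?_
  show L.U n.le_succ (L.proj n (a - b)) = L.U n.le_succ 0
  rw [← L.lim_compat (a - b) n.le_succ, U_ρ, Nat.succ_sub le_rfl, Nat.sub_self, pow_one, h, map_zero]

include hT in
/-- The formal sections are finite and give every level on the cover. -/
theorem lim_finite [IsAdicComplete (Ideal.span {f}) A]
    (hfin : Module.Finite A (LocCoh.H (maximalIdeal A) 2 (L.G 0))) [Module.Finite A (L.G 0)] :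
    Module.Finite A L.lim ∧ ∀ n, ∀ c ∈ T, ∀ s : L.G n, ∃ (K : ℕ) (b : L.lim), L.proj n b = c ^ K • s := by
  classical
  haveI : IsHausdorff (Ideal.span {f}) L.lim := ⟨fun b hb => Subtype.ext (funext fun n => by
    have h := hb (n + 1)
    rw [SModEq.zero, Ideal.span_singleton_pow, Submodule.ideal_span_singleton_smul] at h
    obtain ⟨y, -, hy⟩ := h
    show L.proj n b = 0
    rw [← hy]
    exact (L.proj_eq_zero_iff n _).2 ⟨y, rfl⟩)⟩
  constructor
  · haveI : Module.Finite A (L.lim ⧸ (Ideal.span {f} • ⊤ : Submodule A L.lim)) := by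
      let φ := Submodule.liftQ (Ideal.span {f} • ⊤ : Submodule A L.lim) (L.proj 0).toLinearMap (by
        rw [Submodule.ideal_span_singleton_smul]
        rintro _ ⟨y, -, rfl⟩
        exact (L.proj_eq_zero_iff 0 _).2 ⟨y, by rw [pow_one]; rfl⟩)
      refine Module.Finite.of_injective φ ((injective_iff_map_eq_zero _).2 fun x hx => ?_)
      obtain ⟨b, rfl⟩ := Submodule.mkQ_surjective _ x
      obtain ⟨y, rfl⟩ := (L.proj_eq_zero_iff 0 b).1 hx
      refine (Submodule.Quotient.mk_eq_zero _).2 ?_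
      rw [pow_one]
      exact Submodule.smul_mem_smul (Ideal.mem_span_singleton_self f) trivial
    exact H24Adic.finite_of_finite_quotient (Ideal.span {f})
  · obtain ⟨k, hk⟩ := L.exists_lift_all hT hfin
    intro n c hc s
    obtain ⟨K, z, hz⟩ := L.lift c hc (Nat.le_add_right n k) s
    let S : ∀ m, Set (L.G m) := fun m => {x | ∃ t, L.ρ (Nat.le_add_right m k) t = x}
    have hstep : ∀ m (x : L.G m), x ∈ S m → ∃ y, y ∈ S (m + 1) ∧ L.ρ m.le_succ y = x := fun m x hx => by
      obtain ⟨t, ht⟩ := hk m x hx (m + 1 + k) (by omega)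
      exact ⟨L.ρ (Nat.le_add_right (m + 1) k) t, ⟨t, rfl⟩, by rw [L.ρ_comp]; exact ht⟩
    choose next hnext hnext' using hstep
    let P : ∀ j, {x : L.G (n + j) // x ∈ S (n + j)} := fun j => Nat.rec
      ⟨c ^ K • s, z, hz⟩ (fun j p => ⟨next _ p.1 p.2, hnext _ _ _⟩) j
    let b : ∀ m, L.G m := fun m => L.ρ (Nat.le_add_left m n) (P m).1
    refine ⟨K, ⟨b, fun m => ?_⟩, ?_⟩
    · show L.ρ m.le_succ (L.ρ _ (P (m + 1)).1) = L.ρ _ (P m).1
      rw [L.ρ_comp, ← hnext' (n + m) (P m).1 (P m).2, L.ρ_comp]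
      rfl
    · show L.ρ (Nat.le_add_left n n) (P n).1 = c ^ K • s
      have : ∀ j, L.ρ (Nat.le_add_right n j) (P j).1 = c ^ K • s := fun j => by
        induction j with
        | zero => exact L.ρ_self n _
        | succ j ih =>
          rw [← ih, ← hnext' (n + j) (P j).1 (P j).2, L.ρ_comp]
          rfl
      exact this n

end Levels

end Groth.Agent.H11Alg
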