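import Groth.Agent.H18Pur.EtOff
import Groth.Agent.H11Alg.PurePair
import Groth.Prelude.Def_FEt

/-!
# Purity and normal finite algebras

A finite normal algebra, étale over the punctured spectrum of a pure normal local ring, is étale:
the extension of the cover and the algebra are integral closures in the same generic fibre.
-/

set_option autoImplicit false
set_option linter.style.haveILetI false
set_option backward.isDefEq.respectTransparency false

universe u

open CategoryTheory CategoryTheory.Limits AlgebraicGeometry TopologicalSpace IsLocalRing TensorProduct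
open scoped nonZeroDivisors

namespace Groth.Agent.H11Alg.PureNormal

/-- A field is not pure. -/
theorem not_isPurePair_field (C : Type u) [CommRing C] [IsLocalRing C] (hC : maximalIdeal C = ⊥) :
    ¬ SGA2.IsPurePair (Spec (CommRingCat.of C)) (FEt.puncturedSpec C) := by
  intro h
  haveI hU := (PurePair.isPurePair_iff C).1 h
  let U := FEt.puncturedSpec C
  haveI : IsEmpty (U : Scheme.{u}) := ⟨fun x => x.2 (PrimeSpectrum.ext (by
    show (x.1 : PrimeSpectrum C).asIdeal = maximalIdeal C
    exact le_antisymm (le_maximalIdeal (PrimeSpectrum.isPrime _).ne_top) (hC ▸ bot_le)))⟩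
  let φ : C →+* PUnit.{u + 1} :=
    { toFun := fun _ => PUnit.unit, map_one' := rfl, map_mul' := fun _ _ => rfl, map_zero' := rfl, map_add' := fun _ _ => rfl }
  let z := Spec.map (CommRingCat.ofHom φ)
  haveI hze : IsEmpty (Spec (CommRingCat.of PUnit.{u + 1})) := ⟨fun x => x.isPrime.ne_top
    ((Ideal.eq_top_iff_one _).2 ((Subsingleton.elim (0 : PUnit.{u + 1}) 1) ▸ x.asIdeal.zero_mem))⟩
  haveI : IsFinite z := (IsFinite.SpecMap_iff _).2
    (RingHom.Finite.of_surjective φ fun _ => ⟨0, Subsingleton.elim _ _⟩)
  let Y : FEt.Cat (Spec (CommRingCat.of C)) := MorphismProperty.Over.mk ⊤ z ⟨inferInstance, inferInstance⟩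
  let X : FEt.Cat (Spec (CommRingCat.of C)) := MorphismProperty.Over.mk ⊤ (𝟙 _) ⟨inferInstance, inferInstance⟩
  let F := FEt.restrict U.ι
  haveI : IsEmpty (F.obj X).left := ⟨fun x => IsEmpty.false (α := (U : Scheme.{u})) ((F.obj X).hom x)⟩
  let f : F.obj X ⟶ F.obj Y :=
    MorphismProperty.Over.homMk ((isInitialOfIsEmpty (X := (F.obj X).left)).to _)
      (isInitialOfIsEmpty.hom_ext _ _)
  exact hze.false ((F.preimage f).left (closedPoint C))

/-- The restriction to the punctured spectrum of an algebra étale off the closed fibre is étale. -/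
theorem etale_restricted (C D : Type u) [CommRing C] [IsLocalRing C] [CommRing D] [Algebra C D]
    (h : H18Pur.EtOff C D) :
    Etale (pullback.snd (Spec.map (CommRingCat.ofHom (algebraMap C D))) (FEt.puncturedSpec C).ι) := by
  let fD := Spec.map (CommRingCat.ofHom (algebraMap C D))
  let U := FEt.puncturedSpec C
  let p := pullback.fst fD U.ι
  let O : maximalIdeal C → (pullback fD U.ι).Opens := fun a =>
    p ⁻¹ᵁ (PrimeSpectrum.basicOpen (algebraMap C D a.1))
  have hO : ⨆ a, O a = ⊤ := eq_top_iff.2 fun x _ => by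
    have hne : (p x).asIdeal.comap (algebraMap C D) ≠ maximalIdeal C := fun e => by
      refine (pullback.snd fD U.ι x).2 (PrimeSpectrum.ext ?_)
      show (U.ι (pullback.snd fD U.ι x)).asIdeal = maximalIdeal C
      rw [← Scheme.Hom.comp_apply, ← pullback.condition, Scheme.Hom.comp_apply]
      exact e
    obtain ⟨a, ha, hax⟩ := H18Pur.exists_mem_notMem hne
    exact Opens.mem_iSup.2 ⟨⟨a, ha⟩, hax⟩
  refine (IsZariskiLocalAtSource.iff_of_iSup_eq_top (P := @Etale) O hO).2 fun a => ?_
  haveI := h a.1 a.2
  let D' := Localization.Away (algebraMap C D a.1)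
  let j := Spec.map (CommRingCat.ofHom (algebraMap D D'))
  haveI : IsOpenImmersion j := IsOpenImmersion.of_isLocalization (algebraMap C D a.1)
  have hsub : Set.range ((O a).ι ≫ p) ⊆ Set.range j := by
    rintro _ ⟨x, rfl⟩
    rw [show Set.range j = Set.range (PrimeSpectrum.comap (algebraMap D D')) from rfl,
      PrimeSpectrum.localization_away_comap_range D' (algebraMap C D a.1)]
    exact x.2
  let l := IsOpenImmersion.lift j ((O a).ι ≫ p) hsub
  have hl : l ≫ j = (O a).ι ≫ p := IsOpenImmersion.lift_fac _ _ _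
  haveI : IsOpenImmersion (l ≫ j) := by rw [hl]; infer_instance
  haveI : IsOpenImmersion l := IsOpenImmersion.of_comp l j
  haveI : Etale (j ≫ fD) := by
    rw [← Spec.map_comp, ← CommRingCat.ofHom_comp, ← IsScalarTower.algebraMap_eq,
      HasRingHomProperty.Spec_iff (P := @Etale)]
    exact RingHom.etale_algebraMap.2 inferInstance
  haveI : Etale (((O a).ι ≫ pullback.snd fD U.ι) ≫ U.ι) := by
    rw [Category.assoc, ← pullback.condition, ← Category.assoc, ← hl, Category.assoc]
    infer_instance
  exact MorphismProperty.of_postcomp @Etale (W' := @IsOpenImmersion) _ U.ι inferInstance inferInstance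

/-- Generic fibres of affine schemes which agree as schemes agree as algebras. -/
theorem nonempty_algEquiv_of_pullback (C K S T : Type u) [CommRing C] [CommRing K] [CommRing S] [CommRing T]
    [Algebra C K] [Algebra C S] [Algebra C T]
    (i : pullback (Spec.map (CommRingCat.ofHom (algebraMap C S))) (Spec.map (CommRingCat.ofHom (algebraMap C K))) ≅
      pullback (Spec.map (CommRingCat.ofHom (algebraMap C T))) (Spec.map (CommRingCat.ofHom (algebraMap C K))))
    (hi : i.hom ≫ pullback.snd _ _ = pullback.snd _ _) : Nonempty (S ⊗[C] K ≃ₐ[C] T ⊗[C] K) := by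
  let i' := (pullbackSpecIso C T K).symm ≪≫ i.symm ≪≫ pullbackSpecIso C S K
  let g : CommRingCat.of (S ⊗[C] K) ⟶ CommRingCat.of (T ⊗[C] K) := Spec.preimage i'.hom
  haveI : IsIso (Spec.map g) := by rw [Spec.map_preimage]; infer_instance
  haveI : IsIso (Scheme.Spec.map g.op) := inferInstanceAs (IsIso (Spec.map g))
  haveI : IsIso g.op := isIso_of_reflects_iso g.op Scheme.Spec
  haveI : IsIso g := isIso_of_op g
  have h0 : i.inv ≫ pullback.snd _ _ = pullback.snd _ _ := by rw [Iso.inv_comp_eq, hi]
  have hg : CommRingCat.ofHom (R := K) (Algebra.TensorProduct.includeRight (R := C) (A := S) (B := K)).toRingHom ≫ g =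
      CommRingCat.ofHom (Algebra.TensorProduct.includeRight (R := C) (A := T) (B := K)).toRingHom := by
    refine Spec.map_injective ?_
    rw [Spec.map_comp, Spec.map_preimage]
    simp only [i', Iso.trans_hom, Iso.symm_hom, Category.assoc, AlgHom.toRingHom_eq_coe, pullbackSpecIso_hom_snd, h0,
      pullbackSpecIso_inv_snd]
  refine ⟨AlgEquiv.ofRingEquiv (f := (asIso g).commRingCatIsoToRingEquiv) fun c => ?_⟩
  have h1 := RingHom.congr_fun (congrArg CommRingCat.Hom.hom hg) (algebraMap C K c)
  simp only [CommRingCat.hom_comp, CommRingCat.hom_ofHom, RingHom.comp_apply, AlgHom.toRingHom_eq_coe,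
    RingHom.coe_coe, AlgHom.commutes] at h1
  exact h1

/-- An étale algebra over a normal domain is integrally closed in its generic fibre. -/
theorem mem_range_of_etale (C S : Type u) [CommRing C] [IsDomain C] [IsIntegrallyClosed C] [CommRing S] [Algebra C S]
    [Algebra.Etale C S] {x : S ⊗[C] FractionRing C} (hx : IsIntegral C x) :
    x ∈ Set.range (Algebra.TensorProduct.includeLeft (R := C) (S := C) (A := S) (B := FractionRing C)) := by
  let K := FractionRing C
  obtain ⟨y, hy⟩ := (TensorProduct.toIntegralClosure_bijective_of_smooth (R := C) (S := S) (B := K)).2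
    ⟨x, hx.tower_top⟩
  have hx' : x = (TensorProduct.toIntegralClosure C S K y : S ⊗[C] K) := by rw [hy]
  rw [hx']
  clear hx hy hx' x
  induction y using TensorProduct.induction_on with
  | zero => exact ⟨0, by simp⟩
  | tmul e c =>
    obtain ⟨c₀, hc₀⟩ := IsIntegrallyClosed.isIntegral_iff.1 c.2
    refine ⟨c₀ • e, ?_⟩
    show (c₀ • e) ⊗ₜ[C] (1 : K) = e ⊗ₜ[C] (c : K)
    rw [TensorProduct.smul_tmul, ← Algebra.algebraMap_eq_smul_one, hc₀]
  | add a b ha hb =>
    obtain ⟨u, hu⟩ := ha
    obtain ⟨v, hv⟩ := hb
    exact ⟨u + v, by rw [map_add, map_add, hu, hv]; rfl⟩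

/-- A normal finite domain over a normal domain is integrally closed in its generic fibre. -/
theorem mem_range_of_normal (C D : Type u) [CommRing C] [IsDomain C] [CommRing D] [IsDomain D] [IsIntegrallyClosed D]
    [Algebra C D] (hinj : Function.Injective (algebraMap C D))
    {x : D ⊗[C] FractionRing C} (hx : IsIntegral C x) :
    x ∈ Set.range (Algebra.TensorProduct.includeLeft (R := C) (S := C) (A := D) (B := FractionRing C)) := by
  have hM : Algebra.algebraMapSubmonoid D C⁰ ≤ D⁰ :=
    map_le_nonZeroDivisors_of_injective _ hinj le_rfl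
  let L := D ⊗[C] FractionRing C
  haveI : IsLocalization (Algebra.algebraMapSubmonoid D C⁰) L := IsLocalization.tensor _ C⁰
  let ι : L →+* FractionRing D :=
    IsLocalization.lift (M := Algebra.algebraMapSubmonoid D C⁰) (g := algebraMap D (FractionRing D))
      fun y => IsLocalization.map_units _ (⟨y.1, hM y.2⟩ : D⁰)
  have hι : Function.Injective ι := by
    rw [IsLocalization.lift_injective_iff]
    intro a b
    rw [(IsFractionRing.injective D (FractionRing D)).eq_iff, (IsLocalization.injective L hM).eq_iff]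
  have hιC : ι.comp (algebraMap C L) = algebraMap C (FractionRing D) := by
    ext c
    rw [RingHom.comp_apply, IsScalarTower.algebraMap_apply C D L, IsLocalization.lift_eq,
      ← IsScalarTower.algebraMap_apply]
  have hιx : IsIntegral C (ι x) := hx.map ({ ι with commutes' := RingHom.congr_fun hιC } : L →ₐ[C] FractionRing D)
  obtain ⟨d, hd⟩ := IsIntegrallyClosed.isIntegral_iff.1 (hιx.tower_top (A := D))
  exact ⟨d, hι ((IsLocalization.lift_eq _ _).trans hd)⟩

/-- A finite normal extension, étale off the closed fibre, of a pure normal local domain is étale. -/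
theorem etale_of_isPurePair (C D : Type u) [CommRing C] [IsLocalRing C] [IsNoetherianRing C] [IsDomain C]
    [IsIntegrallyClosed C] [CommRing D] [IsDomain D] [IsIntegrallyClosed D] [Algebra C D] [Module.Finite C D]
    (hinj : Function.Injective (algebraMap C D)) (hm : maximalIdeal C ≠ ⊥) (h : H18Pur.EtOff C D)
    (hpure : SGA2.IsPurePair (Spec (CommRingCat.of C)) (FEt.puncturedSpec C)) : Algebra.Etale C D := by
  let K := FractionRing C
  let U := FEt.puncturedSpec C
  haveI hU := (PurePair.isPurePair_iff C).1 hpure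
  let fD := Spec.map (CommRingCat.ofHom (algebraMap C D))
  haveI : IsFinite fD := (IsFinite.SpecMap_iff _).2 (RingHom.finite_algebraMap.2 inferInstance)
  let V : FEt.Cat (U : Scheme.{u}) :=
    MorphismProperty.Over.mk ⊤ (pullback.snd fD U.ι) ⟨inferInstance, etale_restricted C D h⟩
  let Y := (FEt.restrict U.ι).objPreimage V
  let β : (FEt.restrict U.ι).obj Y ≅ V := (FEt.restrict U.ι).objObjPreimageIso V
  haveI : IsFinite Y.hom := Y.prop.1
  haveI : Etale Y.hom := Y.prop.2
  let fY : Y.left ⟶ Spec (CommRingCat.of C) := Y.hom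
  haveI : IsFinite fY := Y.prop.1
  haveI : IsAffine Y.left := isAffine_of_isAffineHom fY
  let φ : CommRingCat.of C ⟶ Γ(Y.left, ⊤) := Spec.preimage (Y.left.isoSpec.inv ≫ Y.hom)
  have hφ : Spec.map φ = Y.left.isoSpec.inv ≫ Y.hom := Spec.map_preimage _
  let S : Type u := Γ(Y.left, ⊤)
  letI : Algebra C S := φ.hom.toAlgebra
  haveI : Algebra.Etale C S := RingHom.etale_algebraMap.1 ((HasRingHomProperty.Spec_iff (P := @Etale)).1
    (show Etale (Spec.map φ) by rw [hφ]; infer_instance))
  haveI : Module.Finite C S := RingHom.finite_algebraMap.1 ((IsFinite.SpecMap_iff _).1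
    (show IsFinite (Spec.map φ) by rw [hφ]; infer_instance))
  let g := Spec.map (CommRingCat.ofHom (algebraMap C K))
  have hg : Set.range g ⊆ Set.range U.ι := by
    rintro _ ⟨x, rfl⟩
    rw [Scheme.Opens.range_ι]
    intro he
    refine hm ?_
    have h' : (g x).asIdeal = maximalIdeal C := congrArg PrimeSpectrum.asIdeal (Set.mem_singleton_iff.1 he)
    rw [← h']
    show x.asIdeal.comap (algebraMap C K) = ⊥
    rw [(IsSimpleOrder.eq_bot_or_eq_top x.asIdeal).resolve_right x.isPrime.ne_top]
    exact (RingHom.injective_iff_ker_eq_bot _).1 (IsFractionRing.injective C K)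
  let j := IsOpenImmersion.lift U.ι g hg
  have hj : j ≫ U.ι = g := IsOpenImmersion.lift_fac _ _ _
  -- the generic fibres agree
  let c := MorphismProperty.Over.pullbackComp (P := FEt.prop.{u}) (Q := ⊤) j U.ι g hj.symm
  let γ : (FEt.restrict g).obj Y ≅ (FEt.restrict j).obj V := c.app Y ≪≫ (FEt.restrict j).mapIso β
  let fS := Spec.map (CommRingCat.ofHom (algebraMap C S))
  have hfS : fS = Y.left.isoSpec.inv ≫ Y.hom := hφ
  let i₁ : pullback fS g ≅ pullback Y.hom g :=
    asIso (pullback.map fS g Y.hom g Y.left.isoSpec.inv (𝟙 _) (𝟙 _) (by rw [hfS]; simp) (by simp))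
  let i₂ : pullback (pullback.snd fD U.ι) j ≅ pullback fD g :=
    pullbackLeftPullbackSndIso fD U.ι j ≪≫ pullback.congrHom rfl hj
  let i₀ : pullback Y.hom g ≅ pullback (pullback.snd fD U.ι) j :=
    (MorphismProperty.Over.forget FEt.prop.{u} ⊤ _ ⋙ Over.forget _).mapIso γ
  have hi₀ : i₀.hom ≫ pullback.snd _ _ = pullback.snd _ _ := MorphismProperty.Over.w γ.hom
  have hi₂ : i₂.hom ≫ pullback.snd fD g = pullback.snd _ j := by
    simp only [i₂, Iso.trans_hom, Category.assoc, pullback.congrHom_hom, pullback.map, limit.lift_π, PullbackCone.mk_π_app,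
      Category.comp_id]
    exact pullbackLeftPullbackSndIso_hom_snd _ _ _
  obtain ⟨e⟩ := nonempty_algEquiv_of_pullback C K S D (i₁ ≪≫ i₀ ≪≫ i₂) (by
    show (i₁.hom ≫ i₀.hom ≫ i₂.hom) ≫ pullback.snd fD g = pullback.snd fS g
    rw [Category.assoc, Category.assoc, hi₂, hi₀]
    simp [i₁, pullback.map])
  -- both algebras are the integral closure
  let incS : S →ₐ[C] D ⊗[C] K :=
    e.toAlgHom.comp (Algebra.TensorProduct.includeLeft (R := C) (S := C) (A := S) (B := K))
  let incD : D →ₐ[C] D ⊗[C] K := Algebra.TensorProduct.includeLeft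
  have hincS : Function.Injective incS := e.injective.comp
    (Algebra.TensorProduct.includeLeft_injective (R := C) (S := C) (A := S) (B := K) (IsFractionRing.injective C K))
  have hM : Algebra.algebraMapSubmonoid D C⁰ ≤ D⁰ := map_le_nonZeroDivisors_of_injective _ hinj le_rfl
  haveI : IsLocalization (Algebra.algebraMapSubmonoid D C⁰) (D ⊗[C] K) := IsLocalization.tensor _ C⁰
  have hincD : Function.Injective incD := IsLocalization.injective (D ⊗[C] K) hM
  have hrange : incS.range = incD.range := by
    refine le_antisymm ?_ ?_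
    · rintro _ ⟨x, rfl⟩
      exact mem_range_of_normal C D hinj ((Algebra.IsIntegral.isIntegral x).map incS)
    · rintro _ ⟨x, rfl⟩
      obtain ⟨s, hs⟩ := mem_range_of_etale C S
        ((Algebra.IsIntegral.isIntegral x).map (e.symm.toAlgHom.comp incD))
      exact ⟨s, (congrArg e hs).trans (e.apply_symm_apply _)⟩
  exact Algebra.Etale.of_equiv ((AlgEquiv.ofInjective incS hincS).trans
    ((Subalgebra.equivOfEq _ _ hrange).trans (AlgEquiv.ofInjective incD hincD).symm))

end Groth.Agent.H11Alg.PureNormal
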