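import Groth.Agent.H11Alg.PureNormal
import Groth.Agent.H05EGA4.GRing
import Groth.Agent.H05EGA4.GRingPoly
import Groth.Agent.H9Cpl.Basic
import Groth.Agent.H9Hens.CompletionEtale
import Groth.Agent.H1Branch.Etale
import Groth.Agent.S9812
import Groth.Prelude.Def_EGA4b

/-!
# Minimal ramified primes avoid the pure points

At a minimal ramified prime the completed cover is étale over the punctured completed base and
normal, so purity would make it étale.
-/

set_option autoImplicit false
set_option linter.style.haveILetI false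
set_option backward.isDefEq.respectTransparency false

universe u

open IsLocalRing TensorProduct
open scoped nonZeroDivisors

namespace Groth.Agent.H11Alg.RamLocus

variable {A B : Type u} [CommRing A] [IsDomain A] [IsIntegrallyClosed A] [CommRing B] [IsDomain B]
  [Algebra A B] [Algebra.FiniteType A B]

/-- Near an unramified prime a dominant domain over a normal base is étale. -/
theorem exists_etale_away (hinj : Function.Injective (algebraMap A B)) (q : Ideal B) [q.IsPrime]
    [Algebra.IsUnramifiedAt A q] : ∃ g : B, g ∉ q ∧ Algebra.Etale A (Localization.Away g) := by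
  let p := q.comap (algebraMap A B)
  haveI : q.LiesOver p := ⟨rfl⟩
  haveI : IsIntegrallyClosed (Localization.AtPrime p) :=
    isIntegrallyClosed_of_isLocalization _ p.primeCompl p.primeCompl_le_nonZeroDivisors
  refine H1Branch.exists_etale_away q p (S9812.result (Localization.AtPrime p)) fun a ha => hinj ?_
  refine IsLocalization.injective (Localization.AtPrime q) q.primeCompl_le_nonZeroDivisors ?_
  rw [map_zero, map_zero, ← IsScalarTower.algebraMap_apply, ha]

variable [IsNoetherianRing A] [IsIntegrallyClosed B] [Module.Finite A B]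

set_option maxHeartbeats 1600000 in
/-- A nonzero minimal ramified prime lies over a point which is not pure. -/
theorem unramified_of_isPurePair (hA : CAlg.IsGRing A) (hinj : Function.Injective (algebraMap A B))
    (q : Ideal B) [q.IsPrime] (hq0 : q ≠ ⊥)
    (hmin : ∀ (q' : Ideal B) [q'.IsPrime], q' ≤ q → q' ≠ q → Algebra.IsUnramifiedAt A q')
    (P : Ideal A) [P.IsPrime] (hP : q.comap (algebraMap A B) = P)
    (hpure : SGA2.IsPurePair
      (AlgebraicGeometry.Spec (CommRingCat.of (AdicCompletion (maximalIdeal (Localization.AtPrime P)) (Localization.AtPrime P))))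
      (FEt.puncturedSpec (AdicCompletion (maximalIdeal (Localization.AtPrime P)) (Localization.AtPrime P)))) :
    Algebra.IsUnramifiedAt A q := by
  let S := Localization.AtPrime P
  let Bq := Localization.AtPrime q
  let C := AdicCompletion (maximalIdeal S) S
  let D := AdicCompletion (maximalIdeal Bq) Bq
  haveI : IsNoetherianRing B := IsNoetherianRing.of_finite A B
  haveI : IsNoetherianRing C := H05EGA4.isNoetherianRing_adicCompletion S (maximalIdeal S)
  haveI : IsNoetherianRing D := H05EGA4.isNoetherianRing_adicCompletion Bq (maximalIdeal Bq)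
  haveI : IsAdicComplete (maximalIdeal D) D := by
    rw [AdicCompletion.maximalIdeal_eq_map]
    exact AdicCompletion.isAdicComplete_self _ (IsNoetherian.noetherian _)
  -- both completions are normal domains
  haveI : IsIntegrallyClosed S := isIntegrallyClosed_of_isLocalization _ P.primeCompl P.primeCompl_le_nonZeroDivisors
  haveI : IsIntegrallyClosed Bq := isIntegrallyClosed_of_isLocalization _ q.primeCompl q.primeCompl_le_nonZeroDivisors
  obtain ⟨(hCd : IsDomain C), (hCn : IsIntegrallyClosed C)⟩ :=
    H9Cpl.isDomain_cpl (A := S) (H05EGA4.isGRing_of_isLocalization P.primeCompl hA)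
  have hB : CAlg.IsGRing B := H05EGA4.isGRing_of_finiteType hA
  obtain ⟨(hDd : IsDomain D), (hDn : IsIntegrallyClosed D)⟩ :=
    H9Cpl.isDomain_cpl (A := Bq) (H05EGA4.isGRing_of_isLocalization q.primeCompl hB)
  -- the comparison
  have hffB : Module.FaithfullyFlat Bq D := Module.FaithfullyFlat.of_flat_of_isLocalHom
  have hqD : q.map (algebraMap B D) = maximalIdeal D := by
    rw [IsScalarTower.algebraMap_eq B Bq D, ← Ideal.map_map, Localization.AtPrime.map_eq_maximalIdeal,
      AdicCompletion.maximalIdeal_eq_map]
  obtain ⟨Ψ, hΨs, hΨk⟩ := H05EGA4.exists_completion_finite_map P q D hP hqD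
    (fun c => by
      obtain ⟨x, hx⟩ := (AdicCompletion.residueField_map_bijective Bq).2 (residue D c)
      obtain ⟨y, rfl⟩ := residue_surjective x
      obtain ⟨⟨a, t⟩, hy⟩ := IsLocalization.surj q.primeCompl y
      refine ⟨a, t, t.2, ?_⟩
      have hy' : algebraMap Bq D y * algebraMap B D t = algebraMap B D a := by
        rw [IsScalarTower.algebraMap_apply B Bq D t, IsScalarTower.algebraMap_apply B Bq D a, ← map_mul, hy]
      rw [← hy', ← sub_mul]
      refine Ideal.mul_mem_right _ _ ?_
      rw [← residue_eq_zero_iff, map_sub, ← hx, ResidueField.map_residue, sub_self])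
    (fun J a ha => by
      have h1 : algebraMap B Bq a ∈ ((J.map (algebraMap B Bq)).map (algebraMap Bq D)).comap (algebraMap Bq D) := by
        rw [Ideal.mem_comap, Ideal.map_map, ← IsScalarTower.algebraMap_eq, ← IsScalarTower.algebraMap_apply]
        exact ha
      rw [Ideal.comap_map_eq_self_of_faithfullyFlat,
        IsLocalization.algebraMap_mem_map_algebraMap_iff q.primeCompl] at h1
      obtain ⟨t, ht, hta⟩ := h1
      exact ⟨t, ht, hta⟩)
  let T := C ⊗[A] B
  let Φ : T →ₐ[A] D := (Ψ.restrictScalars A).comp (Algebra.TensorProduct.comm A C B).toAlgHom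
  have hΦs : Function.Surjective Φ := fun d => by
    obtain ⟨x, hx⟩ := hΨs d
    exact ⟨(Algebra.TensorProduct.comm A C B).symm x, by
      show Ψ (Algebra.TensorProduct.comm A C B ((Algebra.TensorProduct.comm A C B).symm x)) = d
      rw [AlgEquiv.apply_symm_apply, hx]⟩
  have hΦk : ∀ x, Φ x = 0 → ∃ w, IsUnit (Φ w) ∧ w * x = 0 := fun x hx => by
    obtain ⟨w, hw, hwx⟩ := hΨk _ hx
    refine ⟨(Algebra.TensorProduct.comm A C B).symm w, ?_, (Algebra.TensorProduct.comm A C B).injective ?_⟩
    · show IsUnit (Ψ (Algebra.TensorProduct.comm A C B ((Algebra.TensorProduct.comm A C B).symm w)))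
      rwa [AlgEquiv.apply_symm_apply]
    · rw [map_mul, AlgEquiv.apply_symm_apply, map_zero]
      exact hwx
  letI : Algebra T D := Φ.toRingHom.toAlgebra
  letI : Algebra C D := (Φ.toRingHom.comp (algebraMap C T)).toAlgebra
  haveI : IsScalarTower C T D := ⟨fun c t d => by
    rw [Algebra.smul_def (R := T) (A := D), Algebra.smul_def (R := T) (A := D), Algebra.smul_def (R := C) (A := D),
      Algebra.smul_def (R := C) (A := T), map_mul, mul_assoc]
    rfl⟩
  haveI : IsScalarTower A C D := IsScalarTower.of_algebraMap_eq fun a => (Φ.commutes a).symm.trans <| by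
    show Φ (algebraMap A T a) = Φ (algebraMap C T (algebraMap A C a))
    rw [← IsScalarTower.algebraMap_apply]
  haveI : Module.Finite C D := Module.Finite.of_surjective (IsScalarTower.toAlgHom C T D).toLinearMap hΦs
  haveI : Algebra.FinitePresentation C D := Algebra.FinitePresentation.of_finiteType.1 inferInstance
  let W : Submonoid T := (IsUnit.submonoid D).comap Φ.toRingHom.toMonoidHom
  haveI : IsLocalization W D :=
    { map_units := fun y => y.2
      surj := fun d => by
        obtain ⟨x, rfl⟩ := hΦs d
        exact ⟨⟨x, 1⟩, by simp [RingHom.algebraMap_toAlgebra]⟩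
      exists_of_eq := fun {x y} hxy => by
        obtain ⟨w, hw, hwx⟩ := hΦk (x - y) (by rw [map_sub]; exact sub_eq_zero.2 hxy)
        exact ⟨⟨w, hw⟩, sub_eq_zero.1 (by rw [← mul_sub]; exact hwx)⟩ }
  have hBD : ∀ b : B, Φ ((1 : C) ⊗ₜ b) = algebraMap B D b := fun b => by
    show Ψ (Algebra.TensorProduct.comm A C B ((1 : C) ⊗ₜ b)) = _
    rw [Algebra.TensorProduct.comm_tmul]
    exact Ψ.commutes b
  have hinjBD : Function.Injective (algebraMap B D) := by
    rw [IsScalarTower.algebraMap_eq B Bq D]
    exact (FaithfulSMul.algebraMap_injective Bq D).comp (IsLocalization.injective Bq q.primeCompl_le_nonZeroDivisors)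
  have hPC : P.map (algebraMap A C) = maximalIdeal C := by
    rw [IsScalarTower.algebraMap_eq A S C, ← Ideal.map_map, Localization.AtPrime.map_eq_maximalIdeal,
      AdicCompletion.maximalIdeal_eq_map]
  -- a nonzero element of the base prime
  obtain ⟨x, hxP, hx0⟩ : ∃ x ∈ P, x ≠ 0 := by
    refine Submodule.exists_mem_ne_zero_of_ne_bot fun h => hq0 ?_
    exact Ideal.eq_bot_of_comap_eq_bot (R := A) (hP.trans h)
  have hxD : algebraMap C D (algebraMap A C x) ≠ 0 := by
    rw [← IsScalarTower.algebraMap_apply A C D]
    intro h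
    refine hx0 (hinj (hinjBD ?_))
    rw [map_zero, map_zero, ← IsScalarTower.algebraMap_apply]
    exact h
  have hxm : algebraMap A C x ∈ maximalIdeal C := hPC ▸ Ideal.mem_map_of_mem _ hxP
  have hm : maximalIdeal C ≠ ⊥ := fun h => hxD (by
    rw [h] at hxm
    rw [(Submodule.mem_bot C).1 hxm, map_zero])
  -- étale off the closed fibre
  have hoff : H18Pur.EtOff C D := H18Pur.etOff_of_primes fun Q _ hne => by
    let q' : Ideal B := Q.comap (algebraMap B D)
    have hle : q' ≤ q := fun b hb => by
      by_contra hbq
      refine ‹Q.IsPrime›.ne_top (Q.eq_top_of_isUnit_mem hb ?_)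
      rw [IsScalarTower.algebraMap_apply B Bq D]
      exact (IsLocalization.map_units Bq (⟨b, hbq⟩ : q.primeCompl)).map _
    have hne' : q' ≠ q := fun e => hne <| by
      refine ((maximalIdeal.isMaximal C).eq_of_le (Ideal.IsPrime.ne_top inferInstance) ?_).symm
      have h1 : maximalIdeal D ≤ Q := hqD ▸ (Ideal.map_le_iff_le_comap.2 e.ge)
      have h2 : Q = maximalIdeal D := ((maximalIdeal.isMaximal D).eq_of_le (Ideal.IsPrime.ne_top inferInstance) h1).symm
      haveI : Q.IsMaximal := h2 ▸ maximalIdeal.isMaximal D
      exact (IsLocalRing.eq_maximalIdeal (Ideal.isMaximal_comap_of_isIntegral_of_isMaximal Q)).ge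
    haveI := hmin q' hle hne'
    obtain ⟨g, hg, hgE⟩ := exists_etale_away hinj q'
    let Q₀ : Ideal T := Q.comap (algebraMap T D)
    haveI : Algebra.Etale C (Localization.Away ((1 : C) ⊗ₜ[A] g)) :=
      Algebra.Etale.of_equiv (IsLocalization.Away.tensorProductEquivTMulRight A C g (Localization.Away g))
    haveI : Algebra.FinitePresentation A B := Algebra.FinitePresentation.of_finiteType.1 inferInstance
    haveI : Algebra.FinitePresentation C T := Algebra.FinitePresentation.baseChange C
    haveI : Algebra.IsEtaleAt C Q₀ := Algebra.basicOpen_subset_etaleLocus_iff_etale.mpr inferInstance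
      (show (⟨Q₀, inferInstance⟩ : PrimeSpectrum T) ∈ (PrimeSpectrum.basicOpen ((1 : C) ⊗ₜ[A] g) : Set (PrimeSpectrum T))
        from fun h => hg (by rw [Ideal.mem_comap, ← hBD]; exact h))
    haveI : IsLocalization.AtPrime (Localization.AtPrime Q) Q₀ :=
      IsLocalization.isLocalization_isLocalization_atPrime_isLocalization W _ Q
    haveI : Algebra.FormallyEtale C (Localization.AtPrime Q₀) := ‹Algebra.IsEtaleAt C Q₀›
    exact Algebra.FormallyEtale.of_equiv (A := Localization.AtPrime Q₀) (B := Localization.AtPrime Q)
      ((IsLocalization.algEquiv Q₀.primeCompl (Localization.AtPrime Q₀) (Localization.AtPrime Q)).restrictScalars C)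
  -- the completed extension is injective
  have hinjCD : Function.Injective (algebraMap C D) := by
    rw [injective_iff_map_eq_zero]
    by_contra! hc
    obtain ⟨c, hc0, hc1⟩ := hc
    let Q : Ideal D := ⊥
    obtain ⟨a, ha, haQ⟩ : ∃ a ∈ maximalIdeal C, algebraMap C D a ∉ Q :=
      ⟨_, hxm, fun h => hxD ((Submodule.mem_bot D).1 h)⟩
    haveI := hoff a ha
    have hu : IsUnit (algebraMap D (FractionRing D) (algebraMap C D a)) :=
      (IsFractionRing.to_map_ne_zero_of_mem_nonZeroDivisors (mem_nonZeroDivisors_of_ne_zero fun h => haQ h)).isUnit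
    have hreg := IsSMulRegular.of_flat (S := Localization.Away (algebraMap C D a))
      (show IsSMulRegular C c from fun u v huv => mul_left_cancel₀ hc1 huv)
    have h1 : (1 : Localization.Away (algebraMap C D a)) = 0 := hreg (by
      simp only [Algebra.smul_def, IsScalarTower.algebraMap_apply C D (Localization.Away (algebraMap C D a)), hc0,
        map_zero, zero_mul])
    have := congrArg (IsLocalization.lift (M := Submonoid.powers (algebraMap C D a))
      (g := algebraMap D (FractionRing D)) (by rintro ⟨_, n, rfl⟩; rw [map_pow]; exact hu.pow n)) h1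
    simp at this
  haveI := PureNormal.etale_of_isPurePair C D hinjCD hm hoff hpure
  -- descend
  haveI : q.LiesOver P := ⟨hP.symm⟩
  letI : Algebra S Bq := (Localization.localRingHom P q (algebraMap A B) hP.symm).toAlgebra
  haveI : IsScalarTower A S Bq := IsScalarTower.of_algebraMap_eq fun a => by
    rw [RingHom.algebraMap_toAlgebra, Localization.localRingHom_to_map]
    exact IsScalarTower.algebraMap_apply A B Bq a
  haveI : IsLocalHom (algebraMap S Bq) := Localization.isLocalHom_localRingHom P q (algebraMap A B) hP.symm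
  haveI : Algebra.EssFiniteType S Bq := Algebra.EssFiniteType.of_comp A S Bq
  have hψ : (algebraMap C D).comp (algebraMap S C) = (algebraMap Bq D).comp (algebraMap S Bq) := by
    refine IsLocalization.ringHom_ext P.primeCompl (RingHom.ext fun a => ?_)
    simp only [RingHom.comp_apply, ← IsScalarTower.algebraMap_apply]
  obtain ⟨hmax, _, hsep⟩ := (H9Hens.unramified_completion_iff (algebraMap C D) hψ).2
    ⟨RingHom.finiteType_algebraMap.2 inferInstance, RingHom.formallyUnramified_algebraMap.2 inferInstance⟩
  haveI : Algebra.FormallyUnramified S Bq :=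
    Algebra.FormallyUnramified.iff_map_maximalIdeal_eq.2 ⟨hsep, hmax⟩
  exact Algebra.FormallyUnramified.comp A S Bq

set_option maxHeartbeats 800000 in
/-- Minimal ramified primes have height below the range of purity. -/
theorem height_lt (hA : CAlg.IsGRing A) (r : ℕ)
    (hpure : ∀ (P : Ideal A) [P.IsPrime], (r : ℕ∞) ≤ P.height → SGA2.IsPurePair
      (AlgebraicGeometry.Spec (CommRingCat.of (AdicCompletion (maximalIdeal (Localization.AtPrime P)) (Localization.AtPrime P))))
      (FEt.puncturedSpec (AdicCompletion (maximalIdeal (Localization.AtPrime P)) (Localization.AtPrime P))))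
    (hinj : Function.Injective (algebraMap A B))
    (q : Ideal B) [q.IsPrime] (hq : ¬ Algebra.IsUnramifiedAt A q)
    (hmin : ∀ (q' : Ideal B) [q'.IsPrime], q' ≤ q → ¬ Algebra.IsUnramifiedAt A q' → q' = q) :
    q.height < (r : ℕ∞) := by
  by_contra hlt
  rw [not_lt] at hlt
  by_cases hq0 : q = ⊥
  · subst hq0
    rw [Ideal.height_bot] at hlt
    have hp := hpure ⊥ (hlt.trans bot_le)
    refine PureNormal.not_isPurePair_field _ ?_ hp
    rw [AdicCompletion.maximalIdeal_eq_map, ← Localization.AtPrime.map_eq_maximalIdeal, Ideal.map_bot, Ideal.map_bot]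
  · refine hq (unramified_of_isPurePair hA hinj q hq0
      (fun q' _ hle hne => by_contra fun h => hne (hmin q' hle h)) _ rfl (hpure _ (hlt.trans ?_)))
    rw [PrimeSpectrum.height_eq_orderHeight ⟨q, inferInstance⟩,
      PrimeSpectrum.height_eq_orderHeight ⟨q.comap (algebraMap A B), inferInstance⟩]
    exact Order.height_le_height_apply_of_strictMono
      (fun p : PrimeSpectrum B => (⟨p.asIdeal.comap (algebraMap A B), Ideal.IsPrime.comap _⟩ : PrimeSpectrum A))
      (fun p q' h => Ideal.IsIntegral.comap_lt_comap (show p.asIdeal < q'.asIdeal from h)) ⟨q, ‹_›⟩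

end Groth.Agent.H11Alg.RamLocus
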