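import Groth.Agent.H11Alg.Levels
import Groth.Prelude.Def_CohB1
import Mathlib.AlgebraicGeometry.Morphisms.Flat

/-!
# The sections of a tower of thickenings form `Levels`
-/

set_option autoImplicit false
set_option linter.style.haveILetI false
set_option backward.isDefEq.respectTransparency false

universe u

open CategoryTheory CategoryTheory.Limits AlgebraicGeometry TopologicalSpace IsLocalRing
open scoped TensorProduct

namespace Groth.Agent.H11Alg

/-- A tower of flat thickenings over the truncations of `A` along `f`, affine off the closed point. -/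
structure Tower (A : Type u) [CommRing A] (f : A) (T : Finset A) where
  Y : ℕ → Scheme.{u}
  [cpt : ∀ n, CompactSpace (Y n)]
  [qs : ∀ n, QuasiSeparatedSpace (Y n)]
  p : ∀ n, Y n ⟶ Spec (CommRingCat.of (A ⧸ Ideal.span {f} ^ (n + 1)))
  [flat : ∀ n, Flat (p n)]
  t : ∀ n, Y n ⟶ Y (n + 1)
  pb : ∀ n, IsPullback (t n) (p n) (p (n + 1)) (CohB1.specQuotTrans (Ideal.span {f}) n)
  cover : ∀ n (y : Y n), ∃ c ∈ T, (p n ≫ CohB1.specQuot (Ideal.span {f}) n) y ∈ PrimeSpectrum.basicOpen c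
  affine : ∀ n, ∀ c ∈ T, IsAffineOpen ((p n ≫ CohB1.specQuot (Ideal.span {f}) n) ⁻¹ᵁ PrimeSpectrum.basicOpen c)

namespace Tower

attribute [instance] cpt qs flat

variable {A : Type u} [CommRing A] {f : A} {T : Finset A} (D : Tower A f T) {m n : ℕ}

/-- The structure map. -/
noncomputable def g (n : ℕ) : D.Y n ⟶ Spec (CommRingCat.of A) := D.p n ≫ CohB1.specQuot (Ideal.span {f}) n

theorem t_g (n : ℕ) : D.t n ≫ D.g (n + 1) = D.g n := by
  rw [g, ← Category.assoc, (D.pb n).w, Category.assoc]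
  congr 1
  rw [CohB1.specQuotTrans, CohB1.specQuot, ← Spec.map_comp, ← CommRingCat.ofHom_comp, Ideal.Quotient.factor_comp_mk]
  rfl

/-- The sections. -/
abbrev Sec (n : ℕ) : Type u := Γ(D.Y n, ⊤)

noncomputable instance secAlgebra (n : ℕ) : Algebra A (D.Sec n) :=
  ((Scheme.ΓSpecIso (CommRingCat.of A)).inv ≫ (D.g n).appTop).hom.toAlgebra

theorem algebraMap_eq (n : ℕ) (a : A) :
    algebraMap A (D.Sec n) a = (D.g n).appTop ((Scheme.ΓSpecIso (CommRingCat.of A)).inv a) := rfl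

/-- The composite transition. -/
noncomputable def tr (h : n ≤ m) : D.Y n ⟶ D.Y m := (Functor.ofSequence D.t).map (homOfLE h)

theorem tr_self (n : ℕ) : D.tr (le_refl n) = 𝟙 _ := (Functor.ofSequence D.t).map_id n

theorem tr_trans {k : ℕ} (h : n ≤ m) (h' : m ≤ k) : D.tr h ≫ D.tr h' = D.tr (h.trans h') :=
  ((Functor.ofSequence D.t).map_comp (homOfLE h) (homOfLE h')).symm

theorem tr_succ (n : ℕ) : D.tr n.le_succ = D.t n := Functor.ofSequence_map_homOfLE_succ D.t n

theorem tr_g (h : n ≤ m) : D.tr h ≫ D.g m = D.g n := by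
  induction m, h using Nat.le_induction with
  | base => rw [tr_self, Category.id_comp]
  | succ m hm ih => rw [← D.tr_trans hm m.le_succ, tr_succ, Category.assoc, t_g, ih]

/-- Restriction of sections. -/
noncomputable def res (h : n ≤ m) : D.Sec m →ₐ[A] D.Sec n :=
  { (D.tr h).appTop.hom with
    commutes' := fun a => by
      show (D.tr h).appTop ((D.g m).appTop _) = (D.g n).appTop _
      rw [← D.tr_g h]
      rfl }

/-- The piece of the cover. -/
noncomputable abbrev W (n : ℕ) (c : A) : (D.Y n).Opens := (D.Y n).basicOpen (algebraMap A (D.Sec n) c)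

theorem W_eq (n : ℕ) (c : A) : D.W n c = D.g n ⁻¹ᵁ PrimeSpectrum.basicOpen c := by
  rw [W, algebraMap_eq, ← Scheme.preimage_basicOpen_top]
  congr 1
  exact basicOpen_eq_of_affine (R := CommRingCat.of A) c

theorem preimage_W (h : n ≤ m) (c : A) : D.tr h ⁻¹ᵁ D.W m c = D.W n c := by
  rw [W, Scheme.preimage_basicOpen_top]
  congr 1
  exact (D.res h).commutes c

theorem affineW (n : ℕ) {c : A} (hc : c ∈ T) : IsAffineOpen (D.W n c) := by
  rw [W_eq]
  exact D.affine n c hc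

/-- Restriction to a piece. -/
noncomputable abbrev rW (n : ℕ) (c : A) : D.Sec n →+* Γ(D.Y n, D.W n c) :=
  algebraMap Γ(D.Y n, ⊤) Γ(D.Y n, D.W n c)

/-- Restriction of sections on a piece. -/
noncomputable abbrev resW (h : n ≤ m) (c : A) : Γ(D.Y m, D.W m c) ⟶ Γ(D.Y n, D.W n c) :=
  (D.tr h).appLE (D.W m c) (D.W n c) (D.preimage_W h c).ge

theorem resW_rW (h : n ≤ m) (c : A) (x : D.Sec m) : D.resW h c (D.rW m c x) = D.rW n c (D.res h x) := by
  show ((D.Y m).presheaf.map (homOfLE ((D.Y m).basicOpen_le _)).op ≫ (D.tr h).appLE _ _ _) x =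
    ((D.tr h).appTop ≫ (D.Y n).presheaf.map (homOfLE ((D.Y n).basicOpen_le _)).op) x
  rw [Scheme.Hom.map_appLE, Scheme.Hom.appTop, Scheme.Hom.app_eq_appLE, Scheme.Hom.appLE_map]

theorem resW_comp {k : ℕ} (h : n ≤ m) (h' : m ≤ k) (c : A) (x : Γ(D.Y k, D.W k c)) :
    D.resW h c (D.resW h' c x) = D.resW (h.trans h') c x := by
  show ((D.tr h').appLE _ _ _ ≫ (D.tr h).appLE _ _ _) x = _
  rw [Scheme.Hom.appLE_comp_appLE]
  simp only [resW, D.tr_trans h h']

theorem rW_smul (n : ℕ) (c : A) (r : A) (x : D.Sec n) :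
    D.rW n c (r • x) = D.rW n c (algebraMap A (D.Sec n) r) * D.rW n c x := by
  rw [Algebra.smul_def, map_mul]

theorem isLocalization_W (n : ℕ) (c : A) :
    IsLocalization.Away (algebraMap A (D.Sec n) c) Γ(D.Y n, D.W n c) :=
  isLocalization_basicOpen_of_qcqs isCompact_univ (isQuasiSeparated_univ (α := D.Y n)) _

theorem exists_of_rW_eq {c : A} {x y : D.Sec n} (h : D.rW n c x = D.rW n c y) :
    ∃ K : ℕ, c ^ K • x = c ^ K • y := by
  haveI := D.isLocalization_W n c
  obtain ⟨⟨_, K, rfl⟩, hK⟩ := (IsLocalization.eq_iff_exists (Submonoid.powers (algebraMap A (D.Sec n) c)) _).1 h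
  exact ⟨K, by rw [Algebra.smul_def, Algebra.smul_def, map_pow]; exact hK⟩

theorem exists_rW (n : ℕ) (c : A) (z : Γ(D.Y n, D.W n c)) :
    ∃ (K : ℕ) (x : D.Sec n), D.rW n c x = D.rW n c (algebraMap A (D.Sec n) c) ^ K * z := by
  haveI := D.isLocalization_W n c
  obtain ⟨K, a, ha⟩ := IsLocalization.Away.surj (algebraMap A (D.Sec n) c) z
  exact ⟨K, a, ha.symm.trans (mul_comm _ _)⟩

/-- The step: surjective with kernel the multiples of `f ^ (n + 1)`. -/
theorem step {c : A} (hc : c ∈ T) :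
    Function.Surjective (D.resW n.le_succ c) ∧
      ∀ x, D.resW n.le_succ c x = 0 → ∃ y, x = D.rW (n + 1) c (algebraMap A (D.Sec (n + 1)) (f ^ (n + 1))) * y := by
  let J := Ideal.span {f}
  let q := CohB1.specQuotTrans J n
  haveI : IsClosedImmersion q := IsClosedImmersion.spec_of_surjective _ (Ideal.Quotient.factor_surjective (Ideal.pow_le_pow_right (Nat.le_succ (n + 1))))
  haveI : IsClosedImmersion (D.t n) := MorphismProperty.of_isPullback (D.pb n).flip inferInstance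
  haveI : IsClosedImmersion (D.tr n.le_succ) := by rw [tr_succ]; infer_instance
  have hW := D.affineW (n + 1) hc
  have hpre : D.tr n.le_succ ⁻¹ᵁ D.W (n + 1) c = D.W n c := D.preimage_W _ c
  have hsurj : Function.Surjective (D.resW n.le_succ c) := by
    have h1 : Function.Surjective ((D.tr n.le_succ).app (D.W (n + 1) c)) :=
      (D.tr n.le_succ).app_surjective _ hW
    have h2 : D.resW n.le_succ c = (D.tr n.le_succ).app _ ≫ (D.Y n).presheaf.map (eqToHom hpre.symm).op := by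
      rw [resW, Scheme.Hom.app_eq_appLE, Scheme.Hom.appLE_map]
    rw [h2]
    exact (ConcreteCategory.bijective_of_isIso ((D.Y n).presheaf.map (eqToHom hpre.symm).op)).2.comp h1
  refine ⟨hsurj, fun x hx => ?_⟩
  let E : CommRingCat.{u} := Γ(D.Y (n + 1), D.W (n + 1) c)
  let ν := D.rW (n + 1) c (algebraMap A (D.Sec (n + 1)) (f ^ (n + 1)))
  let E' : CommRingCat.{u} := CommRingCat.of (E ⧸ Ideal.span {ν})
  let π : E ⟶ E' := CommRingCat.ofHom (Ideal.Quotient.mk _)
  let α : CommRingCat.of (A ⧸ J ^ (n + 1 + 1)) ⟶ E :=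
    (Scheme.ΓSpecIso _).inv ≫ (D.p (n + 1)).appLE ⊤ (D.W (n + 1) c) le_top
  have hα : ∀ a : A, α (Ideal.Quotient.mk _ a) = D.rW (n + 1) c (algebraMap A (D.Sec (n + 1)) a) := fun a => by
    show ((CommRingCat.ofHom (Ideal.Quotient.mk (J ^ (n + 1 + 1))) ≫ (Scheme.ΓSpecIso _).inv) ≫
      (D.p (n + 1)).appLE ⊤ (D.W (n + 1) c) le_top) a =
      (((Scheme.ΓSpecIso _).inv ≫ (D.g (n + 1)).appTop) ≫ (D.Y (n + 1)).presheaf.map (homOfLE le_top).op) a
    rw [Scheme.ΓSpecIso_inv_naturality, Category.assoc, Category.assoc, g, Scheme.Hom.comp_appTop, Category.assoc]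
    simp only [Scheme.Hom.appTop, Scheme.Hom.app_eq_appLE, Scheme.Hom.appLE_map]
    rfl
  let β : CommRingCat.of (A ⧸ J ^ (n + 1)) ⟶ E' := CommRingCat.ofHom (Ideal.Quotient.lift (J ^ (n + 1))
    ((π.hom.comp α.hom).comp (Ideal.Quotient.mk _)) fun a ha => by
      obtain ⟨b, rfl⟩ := Ideal.mem_span_singleton'.1 ((Ideal.span_singleton_pow f (n + 1)) ▸ ha)
      show π (α (Ideal.Quotient.mk _ (b * f ^ (n + 1)))) = 0
      rw [map_mul, map_mul, map_mul, hα (f ^ (n + 1))]
      exact mul_eq_zero_of_right _ (Ideal.Quotient.eq_zero_iff_mem.2 (Ideal.mem_span_singleton_self ν)))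
  let a₁ : Spec E' ⟶ D.Y (n + 1) := Spec.map π ≫ hW.fromSpec
  have hab : a₁ ≫ D.p (n + 1) = Spec.map β ≫ q := by
    have h1 : hW.fromSpec ≫ D.p (n + 1) = Spec.map α := by
      rw [Spec.map_comp, ← IsAffineOpen.SpecMap_appLE_fromSpec (D.p (n + 1)) (isAffineOpen_top _) hW le_top,
        IsAffineOpen.fromSpec_top, Scheme.isoSpec_Spec_inv]
    rw [Category.assoc, h1, ← Spec.map_comp, show q = Spec.map (CommRingCat.ofHom
      (Ideal.Quotient.factor (Ideal.pow_le_pow_right (Nat.le_succ _)))) from rfl, ← Spec.map_comp]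
    congr 1
    exact CommRingCat.hom_ext (Ideal.Quotient.ringHom_ext (RingHom.ext fun a => by rfl))
  let l := (D.pb n).lift a₁ (Spec.map β) hab
  have hl : l ≫ D.tr n.le_succ = a₁ := by rw [tr_succ]; exact (D.pb n).lift_fst _ _ _
  have hle : (⊤ : (Spec E').Opens) ≤ l ⁻¹ᵁ D.W n c := fun z _ => by
    show l z ∈ D.W n c
    rw [← hpre]
    show (l ≫ D.tr n.le_succ) z ∈ D.W (n + 1) c
    rw [hl]
    exact hW.range_fromSpec.le ⟨_, rfl⟩
  have key : D.resW n.le_succ c ≫ l.appLE (D.W n c) ⊤ hle ≫ (Scheme.ΓSpecIso E').hom = π := by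
    rw [← Category.assoc, resW, Scheme.Hom.appLE_comp_appLE]
    have h2 : ∀ (a : Spec E' ⟶ D.Y (n + 1)) (ha : a = a₁) (h' : (⊤ : (Spec E').Opens) ≤ a ⁻¹ᵁ D.W (n + 1) c),
        a.appLE (D.W (n + 1) c) ⊤ h' ≫ (Scheme.ΓSpecIso E').hom = π := by
      rintro a rfl h'
      have h3 : (⊤ : (Spec E).Opens) ≤ hW.fromSpec ⁻¹ᵁ D.W (n + 1) c := by rw [hW.fromSpec_preimage_self]
      rw [← Scheme.Hom.appLE_comp_appLE (Spec.map π) hW.fromSpec (D.W (n + 1) c) ⊤ ⊤ h3 le_rfl, Category.assoc]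
      rw [Scheme.Hom.appLE, hW.fromSpec_app_self]
      rw [show (Spec.map π).appLE ⊤ ⊤ le_rfl = (Spec.map π).appTop from (Scheme.Hom.app_eq_appLE _).symm,
        Scheme.ΓSpecIso_naturality]
      simp only [Category.assoc]
      rw [← Functor.map_comp_assoc]
      exact (congrArg (fun φ => (Scheme.ΓSpecIso E).inv ≫ (Spec E).presheaf.map φ ≫ (Scheme.ΓSpecIso E).hom ≫ π)
        (Subsingleton.elim _ (𝟙 (Opposite.op (⊤ : (Spec E).Opens))))).trans (by simp)
    exact h2 _ hl _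
  have : π x = 0 := by
    rw [← key]
    show (Scheme.ΓSpecIso E').hom (l.appLE _ _ hle (D.resW n.le_succ c x)) = 0
    rw [hx, map_zero, map_zero]
  obtain ⟨y, hy⟩ := Ideal.mem_span_singleton'.1 (Ideal.Quotient.eq_zero_iff_mem.1 this)
  exact ⟨y, by rw [← hy, mul_comm]⟩

theorem resW_self (c : A) (x : Γ(D.Y n, D.W n c)) : D.resW (le_refl n) c x = x := by
  have key : ∀ (φ : D.Y n ⟶ D.Y n) (_ : φ = 𝟙 _) (hle : D.W n c ≤ φ ⁻¹ᵁ D.W n c), φ.appLE _ _ hle = 𝟙 _ := by
    rintro _ rfl hle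
    simp [Scheme.Hom.appLE]
    exact (D.Y n).presheaf.map_id _
  exact congr($(key _ (D.tr_self n) _) x)

theorem resW_surjective (h : n ≤ m) {c : A} (hc : c ∈ T) : Function.Surjective (D.resW h c) := by
  induction m, h using Nat.le_induction with
  | base =>
    exact fun z => ⟨z, D.resW_self c z⟩
  | succ m hm ih =>
    intro z
    obtain ⟨y, rfl⟩ := ih z
    obtain ⟨x, rfl⟩ := (D.step hc).1 y
    exact ⟨x, (D.resW_comp hm m.le_succ c x).symm⟩

theorem resW_ker (h : n ≤ m) {c : A} (hc : c ∈ T) :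
    ∀ x, D.resW h c x = 0 → ∃ y, x = D.rW m c (algebraMap A (D.Sec m) (f ^ (n + 1))) * y := by
  induction m, h using Nat.le_induction with
  | base =>
    intro x hx
    exact ⟨0, by rw [D.resW_self] at hx; rw [hx, mul_zero]⟩
  | succ m hm ih =>
    intro x hx
    rw [← D.resW_comp hm m.le_succ c x] at hx
    obtain ⟨y, hy⟩ := ih _ hx
    obtain ⟨y', rfl⟩ := (D.step hc).1 y
    have h1 : D.resW m.le_succ c (x - D.rW (m + 1) c (algebraMap A (D.Sec (m + 1)) (f ^ (n + 1))) * y') = 0 := by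
      rw [map_sub, map_mul, D.resW_rW, AlgHom.commutes, hy, sub_self]
    obtain ⟨z, hz⟩ := (D.step hc).2 _ h1
    obtain ⟨d, hd⟩ := Nat.exists_eq_add_of_le hm
    refine ⟨y' + D.rW (m + 1) c (algebraMap A (D.Sec (m + 1)) (f ^ d)) * z, ?_⟩
    have he : f ^ (m + 1) = f ^ (n + 1) * f ^ d := by rw [← pow_add]; congr 1; omega
    rw [sub_eq_iff_eq_add.1 hz, he, map_mul, map_mul]
    ring

theorem flat_W (m : ℕ) {c : A} (hc : c ∈ T) (i j : ℕ) (hij : i + j = m) (hf : f ∈ nonZeroDivisors A)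
    (x : Γ(D.Y m, D.W m c)) (hx : D.rW m c (algebraMap A (D.Sec m) (f ^ i)) * x = 0) :
    ∃ y, x = D.rW m c (algebraMap A (D.Sec m) (f ^ (j + 1))) * y := by
  let J := Ideal.span {f}
  let R := A ⧸ J ^ (m + 1)
  let α : CommRingCat.of R ⟶ Γ(D.Y m, D.W m c) :=
    (Scheme.ΓSpecIso _).inv ≫ (D.p m).appLE ⊤ (D.W m c) le_top
  have hα : ∀ a : A, α (Ideal.Quotient.mk _ a) = D.rW m c (algebraMap A (D.Sec m) a) := fun a => by
    show ((CommRingCat.ofHom (Ideal.Quotient.mk (J ^ (m + 1))) ≫ (Scheme.ΓSpecIso _).inv) ≫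
      (D.p m).appLE ⊤ (D.W m c) le_top) a =
      (((Scheme.ΓSpecIso _).inv ≫ (D.g m).appTop) ≫ (D.Y m).presheaf.map (homOfLE le_top).op) a
    rw [Scheme.ΓSpecIso_inv_naturality, Category.assoc, Category.assoc, g, Scheme.Hom.comp_appTop, Category.assoc]
    simp only [Scheme.Hom.appTop, Scheme.Hom.app_eq_appLE, Scheme.Hom.appLE_map]
    rfl
  letI : Algebra R Γ(D.Y m, D.W m c) := α.hom.toAlgebra
  haveI : Module.Flat R Γ(D.Y m, D.W m c) := by
    have h1 : ((D.p m).appLE ⊤ (D.W m c) le_top).hom.Flat :=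
      Flat.flat_appLE (D.p m) (isAffineOpen_top _) (D.affineW m hc) _
    exact RingHom.flat_algebraMap_iff.1
      ((RingHom.Flat.of_bijective (ConcreteCategory.bijective_of_isIso (Scheme.ΓSpecIso _).inv)).comp h1)
  let μ : R := Ideal.Quotient.mk _ (f ^ i)
  let ν : R := Ideal.Quotient.mk _ (f ^ (j + 1))
  have hex : Function.Exact (LinearMap.mulLeft R ν) (LinearMap.mulLeft R μ) := fun r => by
    obtain ⟨a, rfl⟩ := Ideal.Quotient.mk_surjective r
    simp only [LinearMap.mulLeft_apply, μ, ν, Set.mem_range]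
    have hmem : ∀ a : A, a ∈ J ^ (m + 1) ↔ ∃ b, b * f ^ (m + 1) = a := fun a => by
      simp only [J, Ideal.span_singleton_pow, Ideal.mem_span_singleton']
    rw [← map_mul, Ideal.Quotient.eq_zero_iff_mem, hmem]
    constructor
    · rintro ⟨b, hb⟩
      refine ⟨Ideal.Quotient.mk _ b, ?_⟩
      rw [← map_mul]
      congr 1
      refine (mul_cancel_left_mem_nonZeroDivisors (pow_mem hf i)).1 ?_
      rw [← hb, show m + 1 = i + (j + 1) by omega, pow_add]
      ring
    · rintro ⟨b, hb⟩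
      obtain ⟨b, rfl⟩ := Ideal.Quotient.mk_surjective b
      rw [← map_mul, Ideal.Quotient.eq, hmem] at hb
      obtain ⟨e, he⟩ := hb
      refine ⟨b - e * f ^ i, ?_⟩
      rw [show m + 1 = i + (j + 1) by omega, pow_add] at he ⊢
      linear_combination (-(f ^ i)) * he
  have hT := Module.Flat.rTensor_exact (Γ(D.Y m, D.W m c)) hex
  obtain ⟨z, hz⟩ := (hT ((1 : R) ⊗ₜ x)).1 (by
    show (μ * 1) ⊗ₜ[R] x = 0
    rw [mul_one, ← mul_one μ, ← smul_eq_mul, TensorProduct.smul_tmul, Algebra.smul_def]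
    rw [show algebraMap R Γ(D.Y m, D.W m c) μ * x = 0 by
      rw [show algebraMap R Γ(D.Y m, D.W m c) μ = α μ from rfl, hα]; exact hx, TensorProduct.tmul_zero])
  refine ⟨TensorProduct.lid R _ z, ?_⟩
  rw [← hα, show α (Ideal.Quotient.mk _ (f ^ (j + 1))) = algebraMap R Γ(D.Y m, D.W m c) ν from rfl]
  have h2 := congrArg (TensorProduct.lid R _) hz
  rw [TensorProduct.lid_tmul, one_smul] at h2
  rw [← h2]
  clear h2 hz
  induction z using TensorProduct.induction_on with
  | zero => simp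
  | tmul r e => simp [Algebra.smul_def, map_mul, mul_assoc]
  | add a b ha hb => rw [map_add, map_add, map_add, ha, hb, mul_add]

theorem isSat (n : ℕ) : IsSat T (D.Sec n) := by
  have hcov : (⊤ : (D.Y n).Opens) ≤ ⨆ c : T, D.W n c.1 := fun y _ => by
    obtain ⟨c, hc, hy⟩ := D.cover n y
    exact Opens.mem_iSup.2 ⟨⟨c, hc⟩, (D.W_eq n c).ge hy⟩
  have sep : ∀ x : D.Sec n, (∀ c ∈ T, ∃ K : ℕ, c ^ K • x = 0) → x = 0 := fun x hx => by
    refine (D.Y n).sheaf.eq_of_locally_eq' (fun c : T => D.W n c.1) ⊤ (fun c => homOfLE le_top) hcov x 0 fun c => ?_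
    obtain ⟨K, hK⟩ := hx c.1 c.2
    haveI := D.isLocalization_W n c.1
    have h1 := congrArg (D.rW n c.1) hK
    rw [rW_smul, map_pow, map_zero, map_pow] at h1
    have hu := (IsLocalization.Away.algebraMap_isUnit (S := Γ(D.Y n, D.W n c.1)) (algebraMap A (D.Sec n) c.1)).pow K
    exact (hu.mul_right_eq_zero.1 h1).trans (map_zero _).symm
  refine ⟨sep, fun K z hz => ?_⟩
  have hu : ∀ c : T, IsUnit (D.rW n c.1 (algebraMap A (D.Sec n) c.1) ^ K) := fun c => by
    haveI := D.isLocalization_W n c.1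
    exact (IsLocalization.Away.algebraMap_isUnit (S := Γ(D.Y n, D.W n c.1)) (algebraMap A (D.Sec n) c.1)).pow K
  let s : ∀ c : T, Γ(D.Y n, D.W n c.1) := fun c => (hu c).unit⁻¹.1 * D.rW n c.1 (z c.1)
  have hs : ∀ c : T, D.rW n c.1 (algebraMap A (D.Sec n) c.1) ^ K * s c = D.rW n c.1 (z c.1) := fun c => by
    show _ * ((hu c).unit⁻¹.1 * _) = _
    rw [← mul_assoc, IsUnit.mul_val_inv, one_mul]
  obtain ⟨a', ha', -⟩ := (D.Y n).sheaf.existsUnique_gluing' (fun c : T => D.W n c.1) ⊤ (fun c => homOfLE le_top) hcov s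
    (fun c d => by
      let r := fun (x : D.Sec n) => (D.Y n).presheaf.map (homOfLE (le_top : D.W n c.1 ⊓ D.W n d.1 ≤ ⊤)).op x
      show (D.Y n).presheaf.map (Opens.infLELeft _ _).op (s c) = (D.Y n).presheaf.map (Opens.infLERight _ _).op (s d)
      have ec : ∀ x, (D.Y n).presheaf.map (Opens.infLELeft (D.W n c.1) (D.W n d.1)).op (D.rW n c.1 x) = r x := fun x => by
        show ((D.Y n).presheaf.map _ ≫ (D.Y n).presheaf.map _) x = _
        rw [← Functor.map_comp]
        rfl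
      have ed : ∀ x, (D.Y n).presheaf.map (Opens.infLERight (D.W n c.1) (D.W n d.1)).op (D.rW n d.1 x) = r x := fun x => by
        show ((D.Y n).presheaf.map _ ≫ (D.Y n).presheaf.map _) x = _
        rw [← Functor.map_comp]
        rfl
      have hc' := ((hu c).map ((D.Y n).presheaf.map (Opens.infLELeft (D.W n c.1) (D.W n d.1)).op).hom)
      have hd' := ((hu d).map ((D.Y n).presheaf.map (Opens.infLERight (D.W n c.1) (D.W n d.1)).op).hom)
      refine hc'.mul_left_cancel (hd'.mul_left_cancel ?_)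
      have hz' := congrArg r (hz c.1 c.2 d.1 d.2)
      have h1 := congrArg ((D.Y n).presheaf.map (Opens.infLELeft (D.W n c.1) (D.W n d.1)).op) (hs c)
      have h2 := congrArg ((D.Y n).presheaf.map (Opens.infLERight (D.W n c.1) (D.W n d.1)).op) (hs d)
      simp only [r, Algebra.smul_def, map_mul, map_pow] at hz' h1 h2 ec ed ⊢
      simp only [ec, ed] at h1 h2 ⊢
      linear_combination hz' + (r (algebraMap A (D.Sec n) d.1)) ^ K * h1 - (r (algebraMap A (D.Sec n) c.1)) ^ K * h2)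
  let a : D.Sec n := a'
  have ha : ∀ d : T, D.rW n d.1 a = s d := ha'
  have key : ∀ d : T, ∃ M : ℕ, d.1 ^ M • (d.1 ^ K • a) = d.1 ^ M • z d.1 := fun d => D.exists_of_rW_eq (by
    rw [rW_smul, map_pow, map_pow]
    exact (congrArg (_ * ·) (ha d)).trans (hs d))
  choose M hM using key
  refine ⟨a, fun c hc => sub_eq_zero.1 (sep _ fun d hd => ⟨M ⟨d, hd⟩ + K, ?_⟩)⟩
  rw [pow_add, smul_sub, mul_smul, mul_smul, hz c hc d hd, smul_comm (d ^ K) (c ^ K), smul_comm (d ^ M ⟨d, hd⟩) (c ^ K),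
    hM ⟨d, hd⟩, smul_comm (c ^ K), sub_self]

/-- The levels. -/
noncomputable def levels (hf : f ∈ nonZeroDivisors A) : Levels A f T where
  G := D.Sec
  ρ := D.res
  ρ_self n x := by show (D.tr le_rfl).appTop x = x; rw [tr_self]; rfl
  ρ_comp h h' x := by show ((D.tr h').appTop ≫ (D.tr h).appTop) x = (D.tr _).appTop x; rw [← Scheme.Hom.comp_appTop, tr_trans]
  sat := D.isSat
  killed n x := by
    have : algebraMap A (D.Sec n) (f ^ (n + 1)) = 0 := by
      rw [algebraMap_eq, g, Scheme.Hom.comp_appTop]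
      show (D.p n).appTop (((Scheme.ΓSpecIso (CommRingCat.of A)).inv ≫ (CohB1.specQuot (Ideal.span {f}) n).appTop) (f ^ (n + 1))) = 0
      rw [CohB1.specQuot, ← Scheme.ΓSpecIso_inv_naturality]
      show (D.p n).appTop ((Scheme.ΓSpecIso _).inv (Ideal.Quotient.mk _ (f ^ (n + 1)))) = 0
      rw [Ideal.Quotient.eq_zero_iff_mem.2 (Ideal.pow_mem_pow (Ideal.mem_span_singleton_self f) _), map_zero, map_zero]
    rw [Algebra.smul_def, this, zero_mul]
  lift c hc m n h s := by
    obtain ⟨z', hz'⟩ := D.resW_surjective h hc (D.rW n c s)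
    obtain ⟨K, z, hz⟩ := D.exists_rW m c z'
    obtain ⟨M, hM⟩ := D.exists_of_rW_eq (x := D.res h z) (y := c ^ K • s) (c := c) (by
      rw [← D.resW_rW, hz, map_mul, map_pow, D.resW_rW, hz', AlgHom.commutes, rW_smul, map_pow, map_pow])
    exact ⟨M + K, c ^ M • z, by rw [map_smul, hM, smul_smul, ← pow_add]⟩
  kerLoc h x hx c hc := by
    obtain ⟨y', hy'⟩ := D.resW_ker h hc (D.rW _ c x) (by rw [D.resW_rW, hx, map_zero])
    obtain ⟨K, y, hy⟩ := D.exists_rW _ c y'
    obtain ⟨M, hM⟩ := D.exists_of_rW_eq (x := c ^ K • x) (c := c) (y := f ^ (_ + 1) • y) (by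
      rw [rW_smul, rW_smul, hy', hy, map_pow, map_pow, map_pow]
      ring)
    exact ⟨M + K, c ^ M • y, by rw [pow_add, mul_smul, hM, smul_comm]⟩
  annLoc i j hij x hx c hc := by
    obtain ⟨y', hy'⟩ := D.flat_W _ hc i j hij hf (D.rW _ c x) (by rw [← rW_smul, hx, map_zero])
    obtain ⟨K, y, hy⟩ := D.exists_rW _ c y'
    obtain ⟨M, hM⟩ := D.exists_of_rW_eq (x := c ^ K • x) (c := c) (y := f ^ (j + 1) • y) (by
      rw [rW_smul, rW_smul, hy', hy, map_pow, map_pow, map_pow]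
      ring)
    exact ⟨M + K, c ^ M • y, by rw [pow_add, mul_smul, hM, smul_comm]⟩

end Tower

end Groth.Agent.H11Alg
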