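import Groth.Agent.H11Alg.CI
import Groth.Agent.H11Alg.General
import Groth.Agent.H9CI.RegLocal
import Groth.Agent.H4DR.Dualizing.Gorenstein
import Groth.Agent.H8Props.PushoutProps.FiniteAffine

/-!
# Purity in virtual dimension at least three

Generators of the ideal are chosen so that off the zero set each partial sequence is regular; the
partial quotients are then complete intersections off the next equation.
-/

set_option autoImplicit false
set_option linter.style.haveILetI false
set_option backward.isDefEq.respectTransparency false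

universe u

open CategoryTheory CategoryTheory.Limits AlgebraicGeometry TopologicalSpace IsLocalRing RingTheory.Sequence

namespace Groth.Agent.H11Alg

/-- Generators whose partial sequences have full height off the zero set. -/
theorem exists_gens_height {S : Type u} [CommRing S] [IsNoetherianRing S] (I : Ideal S) :
    ∀ (t pre : List S), Ideal.ofList (pre ++ t) = I →
      (∀ i ≤ pre.length, ∀ P : Ideal S, P.IsPrime → Ideal.ofList (pre.take i) ≤ P → ¬ I ≤ P → (i : ℕ∞) ≤ P.height) →
      ∃ gs : List S, gs.length = pre.length + t.length ∧ Ideal.ofList gs = I ∧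
        ∀ i ≤ gs.length, ∀ P : Ideal S, P.IsPrime → Ideal.ofList (gs.take i) ≤ P → ¬ I ≤ P → (i : ℕ∞) ≤ P.height := by
  classical
  intro t
  induction t with
  | nil =>
    intro pre h hp
    rw [List.append_nil] at h
    exact ⟨pre, by simp, h, hp⟩
  | cons x t ih =>
    intro pre h hp
    have hI : Ideal.ofList pre ⊔ (Ideal.span {x} ⊔ Ideal.ofList t) = I := by
      rw [← h, Ideal.ofList_append, Ideal.ofList_cons]
    let Ps : Finset (Ideal S) :=
      (Ideal.finite_minimalPrimes_of_isNoetherianRing S (Ideal.ofList pre)).toFinset.filter (fun P => ¬ I ≤ P)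
    have hPs : ∀ P, P ∈ Ps ↔ P ∈ (Ideal.ofList pre).minimalPrimes ∧ ¬ I ≤ P := fun P => by
      simp [Ps]
    obtain ⟨k, hk, hav⟩ := H8Props.PushoutProps.exists_add_notMem x (Ideal.ofList t) Ps
      (fun P hP => ((hPs P).1 hP).1.1.1) fun P hP hx ht => ((hPs P).1 hP).2 (by
        rw [← hI]
        exact sup_le ((hPs P).1 hP).1.1.2 (sup_le ((Ideal.span_singleton_le_iff_mem _).2 hx) ht))
    obtain ⟨gs, h1, h2, h3⟩ := ih (pre ++ [x + k]) (by
      rw [← hI, Ideal.ofList_append, Ideal.ofList_append, Ideal.ofList_singleton, sup_assoc]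
      congr 1
      refine le_antisymm (sup_le ?_ le_sup_right) (sup_le ?_ le_sup_right) <;>
        rw [Ideal.span_singleton_le_iff_mem]
      · exact add_mem (Ideal.mem_sup_left (Ideal.mem_span_singleton_self x)) (Ideal.mem_sup_right hk)
      · have h' := sub_mem (Ideal.mem_sup_left (T := Ideal.ofList t) (Ideal.mem_span_singleton_self (x + k)))
          (Ideal.mem_sup_right hk)
        rwa [add_sub_cancel_right] at h') (by
      intro i hi P hP hle hIP
      rcases Nat.lt_or_ge pre.length i with hlt | hge
      · have hi' : i = pre.length + 1 := by simp at hi; omega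
        subst hi'
        rw [List.take_of_length_le (by simp), Ideal.ofList_append, Ideal.ofList_singleton] at hle
        obtain ⟨P₀, hP₀, hP₀P⟩ := Ideal.exists_minimalPrimes_le (le_sup_left.trans hle)
        haveI := hP₀.1.1
        haveI := hP
        have hlt' : P₀ < P := lt_of_le_of_ne hP₀P fun e => hav P₀ ((hPs P₀).2 ⟨hP₀, fun h => hIP (h.trans hP₀P)⟩)
          (e ▸ hle (Ideal.mem_sup_right (Ideal.mem_span_singleton_self _)))
        have h0 := hp pre.length le_rfl P₀ hP₀.1.1 (by rw [List.take_length]; exact hP₀.1.2) (fun h => hIP (h.trans hP₀P))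
        push_cast
        exact (add_le_add h0 le_rfl).trans (Ideal.height_add_one_le_of_lt_of_isPrime hlt')
      · exact hp i hge P hP (by rwa [List.take_append_of_le_length hge] at hle) hIP)
    exact ⟨gs, by rw [h1, List.length_append, List.length_singleton, List.length_cons]; omega, h2, h3⟩

open H23Para.Samuel in
/-- Equations cutting the height by their number form a regular sequence. -/
theorem isRegular_of_height {R : Type u} [CommRing R] [IsRegularLocalRing R] (rs : List R)
    (hm : ∀ r ∈ rs, r ∈ maximalIdeal R)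
    (h : ∀ P : Ideal R, P.IsPrime → Ideal.ofList rs ≤ P → (rs.length : ℕ∞) ≤ P.height) :
    IsRegular R rs := by
  have he : Ideal.span (Set.range rs.get) = Ideal.ofList rs := by
    rw [Set.range_list_get]
  have hreg := H9CI.isRegular_of_dim_le rs.get (fun i => hm _ (rs.get_mem i)) ?_
  · rwa [List.ofFn_get] at hreg
  obtain ⟨N, hN⟩ := H9CI.exists_nat_dim R
  rw [he, hN, ringKrullDim_quotient]
  generalize hδ : Order.krullDim (PrimeSpectrum.zeroLocus (Ideal.ofList rs : Set R)) = δ
  rw [Order.krullDim] at hδ
  subst hδ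
  by_cases hne : IsEmpty (LTSeries ↑(PrimeSpectrum.zeroLocus (Ideal.ofList rs : Set R)))
  · rw [iSup_of_empty, WithBot.bot_add]; exact bot_le
  have key : ∀ l : LTSeries ↑(PrimeSpectrum.zeroLocus (Ideal.ofList rs : Set R)), l.length + rs.length ≤ N := fun l => by
    let P : PrimeSpectrum R := l.head.1
    have hlP : (l.length : WithBot ℕ∞) ≤ ringKrullDim (R ⧸ P.asIdeal) := by
      rw [ringKrullDim_quotient]
      exact le_iSup_of_le (α := WithBot ℕ∞)
        ({ length := l.length
           toFun := fun i => ⟨(l i).1, fun a ha => (show P ≤ (l i).1 from l.head_le i) ha⟩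
           step := fun i => l.step i } : LTSeries ↑(PrimeSpectrum.zeroLocus (P.asIdeal : Set R))) le_rfl
    have h2 := ringKrullDim_eq_quotient_add_localization P.asIdeal
    obtain ⟨b, hb⟩ := H9CI.exists_nat_dim (Localization.AtPrime P.asIdeal)
    have h3 := h P.asIdeal P.2 l.head.2
    have h4 : ((rs.length : ℕ) : WithBot ℕ∞) ≤ ringKrullDim (Localization.AtPrime P.asIdeal) := by
      rw [IsLocalization.AtPrime.ringKrullDim_eq_height P.asIdeal (Localization.AtPrime P.asIdeal)]
      exact WithBot.coe_le_coe.2 h3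
    have h5 : ((l.length + rs.length : ℕ) : WithBot ℕ∞) ≤ (N : WithBot ℕ∞) := by
      rw [← hN, h2]
      push_cast
      exact add_le_add hlP h4
    exact_mod_cast h5
  obtain ⟨l₀⟩ := not_isEmpty_iff.1 hne
  have hN' : rs.length ≤ N := (Nat.le_add_left _ _).trans (key l₀)
  refine le_trans (add_le_add (iSup_le fun l => ?_ : (⨆ l : LTSeries ↑(PrimeSpectrum.zeroLocus
    (Ideal.ofList rs : Set R)), (l.length : WithBot ℕ∞)) ≤ ((N - rs.length : ℕ) : WithBot ℕ∞)) le_rfl) ?_
  · exact_mod_cast Nat.le_sub_of_add_le (key l)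
  · exact_mod_cast (Nat.sub_add_cancel hN').le

open H23Para.Samuel in
/-- The local rings of a quotient where the equations have full height. -/
theorem exists_CI_localization {R : Type u} [CommRing R] [IsRegularLocalRing R] (rs : List R)
    (p : Ideal (R ⧸ Ideal.ofList rs)) [p.IsPrime] {N : ℕ} (hN : ringKrullDim R = N)
    (h : ∀ P : Ideal R, P.IsPrime → Ideal.ofList rs ≤ P → P ≤ p.comap (Ideal.Quotient.mk (Ideal.ofList rs)) →
      (rs.length : ℕ∞) ≤ P.height) :
    ∃ (R' : Type u) (_ : CommRing R') (_ : IsRegularLocalRing R') (rs' : List R'),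
      IsRegular R' rs' ∧ Nonempty (Localization.AtPrime p ≃+* R' ⧸ Ideal.ofList rs') ∧
      ∃ a b : ℕ, ringKrullDim (R' ⧸ Ideal.ofList rs') = a ∧ ringKrullDim ((R ⧸ Ideal.ofList rs) ⧸ p) = b ∧
        a + rs.length + b = N := by
  let J := Ideal.ofList rs
  let q := p.comap (Ideal.Quotient.mk J)
  have hJq : J ≤ q := fun x hx => by
    rw [Ideal.mem_comap, Ideal.Quotient.eq_zero_iff_mem.mpr hx]
    exact zero_mem _
  have hmap : q.map (Ideal.Quotient.mk J) = p := Ideal.map_comap_of_surjective _ Ideal.Quotient.mk_surjective _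
  haveI : (q.map (Ideal.Quotient.mk J)).IsPrime := hmap ▸ ‹p.IsPrime›
  obtain ⟨e₁⟩ := H13CI.exists_quotient_localization_equiv J q hJq
  have hS : (q.map (Ideal.Quotient.mk J)).primeCompl = p.primeCompl :=
    SetLike.ext fun a => not_congr (SetLike.ext_iff.1 hmap a)
  haveI : IsLocalization (q.map (Ideal.Quotient.mk J)).primeCompl (Localization.AtPrime p) := hS.symm ▸ inferInstance
  have e₂ : Localization.AtPrime (q.map (Ideal.Quotient.mk J)) ≃+* Localization.AtPrime p :=
    (IsLocalization.algEquiv (q.map (Ideal.Quotient.mk J)).primeCompl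
      (Localization.AtPrime (q.map (Ideal.Quotient.mk J))) (Localization.AtPrime p)).toRingEquiv
  let R' := Localization.AtPrime q
  haveI : IsRegularRing R := H05EGA4.isRegularRing_of_isRegularLocalRing R
  haveI : IsRegularLocalRing R' := IsRegularRing.isRegularLocalRing_localization _
  let rs' := rs.map (algebraMap R R')
  have hrs' : IsRegular R' rs' := by
    refine isRegular_of_height rs' (fun x hx => ?_) fun P hP hle => ?_
    · obtain ⟨r, hr, rfl⟩ := List.mem_map.mp hx
      exact (IsLocalization.AtPrime.to_map_mem_maximal_iff R' q r).mpr (hJq (Ideal.subset_span hr))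
    · haveI := hP
      rw [List.length_map, ← IsLocalization.height_under q.primeCompl P]
      refine h (P.under R) inferInstance ?_ ?_
      · refine le_trans ?_ (Ideal.comap_mono (f := algebraMap R R') hle)
        rw [← Ideal.map_ofList]
        exact Ideal.le_comap_map
      · exact (Ideal.comap_mono (le_maximalIdeal hP.ne_top)).trans_eq (IsLocalization.AtPrime.under_maximalIdeal R' q)
  have e₃ : Localization.AtPrime p ≃+* R' ⧸ Ideal.ofList rs' :=
    (e₁.trans e₂).symm.trans (Ideal.quotEquivOfEq (Ideal.map_ofList _ _))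
  haveI : IsLocalRing (R' ⧸ Ideal.ofList rs') := e₃.isLocalRing
  haveI : IsNoetherianRing (R' ⧸ Ideal.ofList rs') := inferInstance
  obtain ⟨a, ha⟩ := H9CI.exists_nat_dim (R' ⧸ Ideal.ofList rs')
  haveI : Nontrivial ((R ⧸ J) ⧸ p) := Ideal.Quotient.nontrivial_iff.2 ‹p.IsPrime›.ne_top
  haveI : Nontrivial (R ⧸ J) := Ideal.Quotient.nontrivial_iff.2 (ne_top_of_le_ne_top (Ideal.IsPrime.comap (Ideal.Quotient.mk J) (K := p)).ne_top hJq)
  haveI : IsLocalRing (R ⧸ J) := .of_surjective' _ Ideal.Quotient.mk_surjective
  haveI : IsLocalRing ((R ⧸ J) ⧸ p) := .of_surjective' _ Ideal.Quotient.mk_surjective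
  obtain ⟨b, hb⟩ := H9CI.exists_nat_dim ((R ⧸ J) ⧸ p)
  refine ⟨R', inferInstance, inferInstance, rs', hrs', ⟨e₃⟩, a, b, ha, hb, ?_⟩
  have hq : ringKrullDim (R ⧸ q) = b := by
    rw [← hb]
    let g := (Ideal.Quotient.mk p).comp (Ideal.Quotient.mk J)
    have hg : RingHom.ker g = q := by rw [← RingHom.comap_ker, Ideal.mk_ker]
    exact ringKrullDim_eq_of_ringEquiv ((Ideal.quotEquivOfEq hg.symm).trans
      (RingHom.quotientKerEquivOfSurjective (f := g)
        (Ideal.Quotient.mk_surjective.comp Ideal.Quotient.mk_surjective)))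
  have h1 : ringKrullDim (R' ⧸ Ideal.ofList rs') + rs.length = ringKrullDim R' := by
    simpa [rs'] using ringKrullDim_add_length_eq_ringKrullDim_of_isRegular rs' hrs'
  have h2 := ringKrullDim_eq_quotient_add_localization q
  rw [hN, hq, ← h1, ha] at h2
  have h3 : N = b + (a + rs.length) := by exact_mod_cast h2
  omega

open H23Para.Samuel in
/-- The partial quotients are pure. -/
theorem purityHolds_take (R : Type u) [CommRing R] [IsRegularLocalRing R] [IsAdicComplete (maximalIdeal R) R]
    (N : ℕ) (hN : ringKrullDim R = N) (I : Ideal R) (gs : List R) (hm : ∀ g ∈ gs, g ∈ maximalIdeal R)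
    (hI : Ideal.ofList gs = I) (hlen : gs.length + 3 ≤ N)
    (hgs : ∀ i ≤ gs.length, ∀ P : Ideal R, P.IsPrime → Ideal.ofList (gs.take i) ≤ P → ¬ I ≤ P → (i : ℕ∞) ≤ P.height) :
    ∀ i ≤ gs.length, ∀ [IsLocalRing (R ⧸ Ideal.ofList (gs.take i))], FEt.PurityHolds (R ⧸ Ideal.ofList (gs.take i)) := by
  intro i
  induction i with
  | zero =>
    intro _ _
    have e : R ⧸ Ideal.ofList (gs.take 0) ≃+* R :=
      (Ideal.quotEquivOfEq (by rw [List.take_zero, Ideal.ofList_nil])).trans (RingEquiv.quotientBot R)
    refine purityHolds_of_ringEquiv e.symm (S0247.result R ?_)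
    rw [hN]
    exact_mod_cast (show 2 ≤ N by omega)
  | succ i ih =>
    intro hi _
    let J := Ideal.ofList (gs.take i)
    let A₁ := R ⧸ J
    let t : A₁ := Ideal.Quotient.mk J gs[i]
    have hlti : i < gs.length := hi
    have hJm : J ≤ maximalIdeal R := Ideal.span_le.mpr fun r hr => hm r (List.mem_of_mem_take hr)
    haveI : Nontrivial A₁ := Ideal.Quotient.nontrivial_iff.mpr
      (ne_top_of_le_ne_top (maximalIdeal.isMaximal R).ne_top hJm)
    haveI : IsLocalRing A₁ := IsLocalRing.of_surjective' (Ideal.Quotient.mk J) Ideal.Quotient.mk_surjective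
    have hm₁ : (maximalIdeal R).map (Ideal.Quotient.mk J) = maximalIdeal A₁ :=
      IsLocalRing.map_maximalIdeal_of_surjective _ Ideal.Quotient.mk_surjective
    have htm : t ∈ maximalIdeal A₁ := hm₁ ▸ Ideal.mem_map_of_mem _ (hm _ (List.getElem_mem hlti))
    haveI := H24Adic.isAdicComplete_map_quotient (I := maximalIdeal R) J
    haveI : IsAdicComplete (Ideal.span {t}) A₁ :=
      isAdicComplete_of_ideal_le (I := (maximalIdeal R).map (Ideal.Quotient.mk J))
        ((Ideal.span_singleton_le_iff_mem _).mpr (hm₁.symm ▸ htm))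
    have e : A₁ ⧸ Ideal.span {t} ≃+* R ⧸ Ideal.ofList (gs.take (i + 1)) :=
      (Ideal.quotEquivOfEq (show Ideal.span {t} = (Ideal.span {gs[i]}).map (Ideal.Quotient.mk J) by
        rw [Ideal.map_span, Set.image_singleton])).trans
      ((DoubleQuot.quotQuotEquivQuotSup J (Ideal.span {gs[i]})).trans
        (Ideal.quotEquivOfEq (by
          rw [List.take_succ_eq_append_getElem hlti, Ideal.ofList_append, Ideal.ofList_singleton])))
    haveI : IsLocalRing (A₁ ⧸ Ideal.span {t}) := e.symm.isLocalRing
    have hlen_take : (gs.take i).length = i := by rw [List.length_take]; omega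
    have hht : ∀ (p : Ideal A₁) [p.IsPrime], t ∉ p → ∀ P : Ideal R, P.IsPrime → J ≤ P →
        P ≤ p.comap (Ideal.Quotient.mk J) → ((gs.take i).length : ℕ∞) ≤ P.height := by
      intro p _ htp P hP hle hPp
      rw [hlen_take]
      exact hgs i hlti.le P hP hle fun hIP =>
        htp (hPp (hIP (hI ▸ Ideal.subset_span (List.getElem_mem hlti))))
    have hreg : IsRegularLocalRing R := inferInstance
    haveI : IsRegularRing R := H05EGA4.isRegularRing_of_isRegularLocalRing R
    have hω : Dual.IsDualizing R (Dual.inD R R) :=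
      H4DR.Dualizing.isDualizing_self_of_regular (by rw [hN]; exact WithBot.coe_lt_coe.2 (ENat.natCast_lt_top N))
        fun p => IsRegularRing.isRegularLocalRing_localization p.asIdeal
    refine purityHolds_of_ringEquiv e (purityHolds_quotient_of_hasNhdExt A₁ t htm
      (hasNhdExt t htm (H4DR.Dualizing.exists_isDualizing_finite (Ideal.Quotient.mk J)
        (RingHom.Finite.of_surjective _ Ideal.Quotient.mk_surjective) hω) fun p hp htp _ => ?_)
      (fun P hP => ?_) (ih hlti.le))
    · obtain ⟨R', _, _, rs', hrs', ⟨e₃⟩, a, b, ha, hb, hab⟩ :=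
        exists_CI_localization (gs.take i) p hN (hht p htp)
      haveI : IsLocalRing (R' ⧸ Ideal.ofList rs') := e₃.isLocalRing
      rw [hlen_take] at hab
      rw [H05EGA4.depth_eq_of_ringEquiv e₃, depth_quotient_eq_ringKrullDim rs' hrs', ha, hb]
      exact_mod_cast (show 3 < a + b by omega)
    · haveI := hP
      obtain ⟨htp, hp1⟩ := ringKrullDim_quotient_le_one_of_isMaximal A₁ t htm P
      let p := P.comap (algebraMap A₁ (Localization.Away t))
      have htp' : t ∉ p := fun h => hP.ne_top (Ideal.eq_top_of_isUnit_mem _ h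
        (IsLocalization.Away.algebraMap_isUnit (S := Localization.Away t) t))
      obtain ⟨R', _, _, rs', hrs', ⟨e₃⟩, a, b, ha, hb, hab⟩ :=
        exists_CI_localization (gs.take i) p hN (hht p htp')
      rw [hlen_take] at hab
      haveI : IsLocalRing (R' ⧸ Ideal.ofList rs') := e₃.isLocalRing
      haveI : IsLocalization p.primeCompl (Localization.AtPrime P) :=
        IsLocalization.isLocalization_isLocalization_atPrime_isLocalization (Submonoid.powers t) _ P
      let e₄ : Localization.AtPrime p ≃+* Localization.AtPrime P :=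
        (IsLocalization.algEquiv p.primeCompl (Localization.AtPrime p) (Localization.AtPrime P)).toRingEquiv
      refine purityHolds_of_ringEquiv (e₃.symm.trans e₄) (purityHolds_quotient_regular rs'.length R' rs' rfl hrs' ?_)
      have hb1 : b ≤ 1 := by
        have hb' : ringKrullDim (A₁ ⧸ p) ≤ 1 := hp1
        rw [hb] at hb'
        exact_mod_cast hb'
      rw [ha]
      exact_mod_cast (show 3 ≤ a by omega)

/-- Purity in virtual dimension at least three. -/
theorem purityHolds_of_vdim (A : Type u) [CommRing A] [IsNoetherianRing A] [IsLocalRing A]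
    (S : Type u) [CommRing S] [IsRegularLocalRing S] [IsAdicComplete (maximalIdeal S) S]
    (d : ℕ) (hd : ringKrullDim S = d) (s : Finset S) (hs : s.card + 3 ≤ d)
    (e : AdicCompletion (maximalIdeal A) A ≃+* S ⧸ Ideal.span (s : Set S)) : FEt.PurityHolds A := by
  haveI := H05EGA4.isNoetherianRing_adicCompletion A (maximalIdeal A)
  haveI : IsLocalRing (S ⧸ Ideal.span (s : Set S)) := e.isLocalRing
  have hsI : Ideal.ofList s.toList = Ideal.span (s : Set S) := congrArg Ideal.span (Set.ext fun x => Finset.mem_toList)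
  obtain ⟨gs, h1, h2, h3⟩ := exists_gens_height (Ideal.span (s : Set S)) s.toList [] (by simpa using hsI)
    (fun i hi P _ _ _ => by obtain rfl : i = 0 := (by simpa using hi); simp)
  rw [List.length_nil, zero_add, Finset.length_toList] at h1
  have htop : Ideal.span (s : Set S) ≠ ⊤ := Ideal.Quotient.nontrivial_iff.1 inferInstance
  haveI : IsLocalRing (S ⧸ Ideal.ofList (gs.take gs.length)) :=
    (Ideal.quotEquivOfEq (by rw [List.take_length, h2]) :
      S ⧸ Ideal.span (s : Set S) ≃+* S ⧸ Ideal.ofList (gs.take gs.length)).isLocalRing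
  refine purityHolds_of_adicCompletion A (purityHolds_of_ringEquiv e.symm (purityHolds_of_ringEquiv
    (Ideal.quotEquivOfEq (by rw [List.take_length, h2]))
    (purityHolds_take S d hd _ gs (fun g hg => le_maximalIdeal htop (h2 ▸ Ideal.subset_span hg)) h2
      (by omega) h3 gs.length le_rfl)))

end Groth.Agent.H11Alg
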